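import Cfsg.Agent.Lib.AbelianTwoBlock.Count
import Cfsg.Agent.Lib.Blk83.PairCount
import Cfsg.Agent.Lib.Invol.SectionAverage

/-!
# The column of the principal block at an involution
-/

set_option autoImplicit false
set_option maxHeartbeats 1000000

open Cfsg
open scoped ComplexConjugate IsMulCommutative

namespace CfsgLib.AbelianTwo

open CfsgLib.Blk83

universe u

variable {G : Type u} [Group G] [Finite G] {M : Ideal Cfsg.AlgInt} (P : Sylow 2 G)
  [IsMulCommutative (P : Subgroup G)] (hM : IsPModular 2 M)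
  (hfix : ∀ y ∈ (P : Subgroup G), y ≠ 1 →
    Subgroup.centralizer ({y} : Set G) ⊓ Subgroup.normalizer ((P : Subgroup G) : Set G) ≤
      Subgroup.centralizer ((P : Subgroup G) : Set G))

include hM hfix in
/-- No member of the principal block vanishes at an element of `P`. -/
theorem apply_ne_zero {t : G} (ht : t ∈ (P : Subgroup G)) (ht1 : t ≠ 1) {χ : IrrCharacter G}
    (hχ : χ ∈ principalBlock M G) : (χ : G → ℂ) t ≠ 0 := by
  haveI : Fact (Nat.Prime 2) := ⟨Nat.prime_two⟩
  intro h0
  obtain ⟨x, y, hxu, hxy, hy, hne⟩ := exists_section_apply_ne_zero hM P inferInstance ht hχ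
  obtain ⟨c, hc⟩ := isConj_iff.1 hxu
  have hcomm : Commute t (c * y * c⁻¹) := hc ▸ hxy.map (MulAut.conj c).toMonoidHom
  have hreg : ¬ 2 ∣ orderOf (c * y * c⁻¹) := by
    rwa [← MulEquiv.orderOf_eq (MulAut.conj c) y] at hy
  have h1 := apply_mul_regular P hfix hM hχ ht ht1 hcomm hreg
  rw [h0] at h1
  refine hne ?_
  rw [← h1, ← hc, show c * x * c⁻¹ * (c * y * c⁻¹) = c * (x * y) * c⁻¹ by group]
  exact (CfsgLib.Char.IsIrrCharacter.isClassFunction χ.2 _ _).symm

/-- The data of the column at an involution of an elementary Sylow subgroup. -/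
structure Column (M : Ideal Cfsg.AlgInt) (t : G) where
  /-- the members -/
  B : Finset (IrrCharacter G)
  /-- the values -/
  b : IrrCharacter G → ℤ
  /-- the degrees -/
  m : IrrCharacter G → ℕ
  mem : ∀ χ, χ ∈ B ↔ χ ∈ principalBlock M G
  val : ∀ χ : IrrCharacter G, (χ : G → ℂ) t = b χ
  deg : ∀ χ : IrrCharacter G, (χ : G → ℂ) 1 = m χ
  m_pos : ∀ χ, 0 < m χ
  b_ne : ∀ χ ∈ B, b χ ≠ 0
  sum_sq : ∑ χ ∈ B, b χ ^ 2 = Nat.card (P : Subgroup G)
  sum_deg : ∑ χ ∈ B, b χ * m χ = 0
  one_mem : CfsgLib.Char.principalIrr ∈ B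
  b_one : b CfsgLib.Char.principalIrr = 1
  m_one : m CfsgLib.Char.principalIrr = 1
  deg_bound : ∀ χ, 0 ≤ (m χ : ℤ) + ((Nat.card (P : Subgroup G) : ℤ) - 1) * b χ

include hM hfix in
theorem exists_column (hone : ∀ s t : G, orderOf s = 2 → orderOf t = 2 → IsConj s t)
    (hel : ∀ x ∈ (P : Subgroup G), x * x = 1) {t : G} (ht : t ∈ (P : Subgroup G)) (ht1 : t ≠ 1) :
    Nonempty (Column P M t) := by
  classical
  haveI : Fact (Nat.Prime 2) := ⟨Nat.prime_two⟩
  haveI := Fintype.ofFinite G
  set B := (Set.toFinite (principalBlock M G)).toFinset with hB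
  choose b hb using fun χ : IrrCharacter G => exists_int_apply_involution χ (hel t ht)
  have hmem : ∀ χ, χ ∈ B ↔ χ ∈ principalBlock M G := fun χ => Set.Finite.mem_toFinset _
  have hmC : ∀ χ : IrrCharacter G, (χ : G → ℂ) 1 = (CfsgLib.Char.degree (χ : G → ℂ) : ℂ) := fun χ =>
    (CfsgLib.Char.IsCharacter.degree_cast (CfsgLib.Char.IsIrrCharacter.isCharacter χ.2)).symm
  have hord : ∀ y ∈ (P : Subgroup G), y ≠ 1 → orderOf y = 2 := fun y hy h1 =>
    orderOf_eq_prime (by rw [sq]; exact hel y hy) h1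
  refine ⟨{ B := B, b := b, m := fun χ => CfsgLib.Char.degree (χ : G → ℂ), mem := hmem, val := hb
            deg := hmC, m_pos := fun χ => CfsgLib.Char.IsIrrCharacter.degree_pos χ.2
            b_ne := ?_, sum_sq := ?_, sum_deg := ?_, one_mem := (hmem _).2 (principal_mem hM)
            b_one := ?_, m_one := ?_, deg_bound := ?_ }⟩
  · intro χ hχ h0
    exact apply_ne_zero P hM hfix ht ht1 ((hmem χ).1 hχ) (by rw [hb, h0, Int.cast_zero])
  · have h := principal_column_inner P hfix hM ht ht1 ht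
    rw [if_pos (IsConj.refl _)] at h
    have h2 : Finset.univ.filter (· ∈ principalBlock M G) = B := by ext χ; simp [hmem]
    rw [h2] at h
    simp only [hb, map_intCast, ← sq] at h
    exact_mod_cast h
  · have h := principal_column_regular (M := M) hM (pElement_of_mem_sylow P ht) ht1 (g := (1 : G))
      (by simp)
    rw [finsum_mem_eq_finite_toFinset_sum _ (Set.toFinite _), ← hB] at h
    simp only [hb, hmC] at h
    exact_mod_cast h
  · have h := hb CfsgLib.Char.principalIrr
    rw [CfsgLib.Char.principalIrr_apply] at h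
    exact_mod_cast h.symm
  · have h := hmC CfsgLib.Char.principalIrr
    rw [CfsgLib.Char.principalIrr_apply] at h
    exact_mod_cast h.symm
  · intro χ
    obtain ⟨c, hc⟩ := exists_nat_sum_eq χ (P : Subgroup G)
    have hval : ∀ y ∈ (Finset.univ : Finset (P : Subgroup G)).erase 1, (χ : G → ℂ) y = (b χ : ℂ) := by
      intro y hy
      rw [← hb]
      exact CfsgLib.Char.IsClassFunction.eq_of_isConj
        (CfsgLib.Char.IsIrrCharacter.isClassFunction χ.2)
        (hone _ _ (hord y y.2 fun h => Finset.ne_of_mem_erase hy (Subtype.ext h)) (hord t ht ht1))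
    rw [← Finset.add_sum_erase _ _ (Finset.mem_univ (1 : (P : Subgroup G))), OneMemClass.coe_one,
      Finset.sum_congr rfl hval, Finset.sum_const, Finset.card_erase_of_mem (Finset.mem_univ _),
      Finset.card_univ, ← Nat.card_eq_fintype_card, nsmul_eq_mul, hmC,
      Nat.cast_sub (show 1 ≤ Nat.card (P : Subgroup G) from Nat.card_pos), Nat.cast_one] at hc
    have hc' : (CfsgLib.Char.degree (χ : G → ℂ) : ℤ) + ((Nat.card (P : Subgroup G) : ℤ) - 1) * b χ =
        (Nat.card (P : Subgroup G) : ℤ) * c := by exact_mod_cast hc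
    rw [hc']
    positivity

end CfsgLib.AbelianTwo
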