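import Cfsg.Agent.Lib.AbelianTwoBlock.Local

/-!
# Orbits of the strongly embedded subgroup on its cosets
-/

set_option autoImplicit false
set_option maxHeartbeats 1000000

open Cfsg

namespace CfsgLib.AbelianTwo

open scoped Pointwise

universe u

variable {G : Type u} [Group G] [Finite G]

/-- The stabiliser in `H` of the coset `gH`. -/
def pointStab (H : Subgroup G) (g : G) : Subgroup G := H ⊓ H.map (MulAut.conj g).toMonoidHom

omit [Finite G] in
theorem mem_pointStab {H : Subgroup G} {g x : G} :
    x ∈ pointStab H g ↔ x ∈ H ∧ g⁻¹ * x * g ∈ H := by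
  rw [pointStab, Subgroup.mem_inf, Subgroup.mem_map_equiv]
  simp [MulAut.conj_symm_apply]

variable {P : Sylow 2 G} (L : LocalData P)

theorem involution_conj_mem {s : G} (hs : s ∈ L.H) (hso : orderOf s = 2) :
    ∃ h ∈ L.H, h * s * h⁻¹ ∈ (P : Subgroup G) := by
  haveI : Fact (Nat.Prime 2) := ⟨Nat.prime_two⟩
  have hle : (P : Subgroup G) ≤ L.H := Subgroup.le_normalizer.trans L.normalizer_le
  have hp : IsPGroup 2 (Subgroup.zpowers (⟨s, hs⟩ : L.H)) := by
    refine IsPGroup.of_card (n := 1) ?_
    rw [Nat.card_zpowers, Subgroup.orderOf_mk, hso, pow_one]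
  obtain ⟨R, hR⟩ := hp.exists_le_sylow
  obtain ⟨h, hh⟩ := MulAction.exists_smul_eq L.H R (P.subtype hle)
  refine ⟨h, h.2, ?_⟩
  have h1 : h * ⟨s, hs⟩ * h⁻¹ ∈ ((P.subtype hle : Sylow 2 L.H) : Subgroup L.H) := by
    rw [← hh, Sylow.coe_subgroup_smul]
    exact Subgroup.smul_mem_pointwise_smul _ (MulAut.conj h) _ (hR (Subgroup.mem_zpowers _))
  exact h1

variable [IsMulCommutative (P : Subgroup G)]
  (hone : ∀ s t : G, orderOf s = 2 → orderOf t = 2 → IsConj s t)

include hone in
/-- An involution of `H` fixes only the base coset. -/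
theorem fixed_coset {t g : G} (ht : t ∈ L.H) (hto : orderOf t = 2) (hg : g⁻¹ * t * g ∈ L.H) :
    g ∈ L.H := by
  haveI : Fact (Nat.Prime 2) := ⟨Nat.prime_two⟩
  have hs : orderOf (g⁻¹ * t * g) = 2 := by
    have h := MulEquiv.orderOf_eq (MulAut.conj g⁻¹) t
    simp only [MulAut.conj_apply, inv_inv] at h
    rw [h, hto]
  obtain ⟨h₁, hh₁, h₁P⟩ := involution_conj_mem L ht hto
  obtain ⟨h₂, hh₂, h₂P⟩ := involution_conj_mem L hg hs
  obtain ⟨x, hx⟩ := isConj_iff.1 (hone (h₂ * (g⁻¹ * t * g) * h₂⁻¹) (h₁ * t * h₁⁻¹)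
    (by rw [← hs]; exact MulEquiv.orderOf_eq (MulAut.conj h₂) _)
    (by rw [← hto]; exact MulEquiv.orderOf_eq (MulAut.conj h₁) _))
  obtain ⟨k, hk, hkx⟩ := P.conj_eq_normalizer_conj_of_mem (h₂ * (g⁻¹ * t * g) * h₂⁻¹) x⁻¹
    h₂P (by rw [inv_inv, hx]; exact h₁P)
  rw [inv_inv, hx] at hkx
  set c := h₁⁻¹ * k⁻¹ * h₂ * g⁻¹ with hc
  have hct : c ∈ Subgroup.centralizer ({t} : Set G) := by
    refine Subgroup.mem_centralizer_singleton_iff.2 (mul_inv_eq_iff_eq_mul.1 ?_)
    calc c * t * c⁻¹ = h₁⁻¹ * (k⁻¹ * (h₂ * (g⁻¹ * t * g) * h₂⁻¹) * k) * h₁ := by rw [hc]; group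
      _ = h₁⁻¹ * (h₁ * t * h₁⁻¹) * h₁ := by rw [← hkx]
      _ = t := by group
  have hcH := L.centralizer_le t ht hto hct
  have hkH := L.normalizer_le hk
  have : g = c⁻¹ * h₁⁻¹ * k⁻¹ * h₂ := by rw [hc]; group
  rw [this]
  exact mul_mem (mul_mem (mul_mem (inv_mem hcH) (inv_mem hh₁)) (inv_mem hkH)) hh₂

include hone in
theorem pointStab_odd {g : G} (hg : g ∉ L.H) : Odd (Nat.card (pointStab L.H g)) := by
  haveI : Fact (Nat.Prime 2) := ⟨Nat.prime_two⟩
  by_contra hodd
  rw [Nat.not_odd_iff_even] at hodd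
  obtain ⟨x, hx⟩ := exists_prime_orderOf_dvd_card' (G := pointStab L.H g) 2 hodd.two_dvd
  have hx' : orderOf (x : G) = 2 := by rw [Subgroup.orderOf_coe, hx]
  exact hg (fixed_coset L hone (mem_pointStab.1 x.2).1 hx' (mem_pointStab.1 x.2).2)

include hone in
/-- The Sylow order times a stabiliser order divides the order of `H`. -/
theorem card_pointStab_mul_dvd {g : G} (hg : g ∉ L.H) :
    Nat.card (pointStab L.H g) * Nat.card (P : Subgroup G) ∣ Nat.card L.H := by
  haveI : Fact (Nat.Prime 2) := ⟨Nat.prime_two⟩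
  obtain ⟨k, hk⟩ := IsPGroup.iff_card.1 P.isPGroup'
  refine Nat.Coprime.mul_dvd_of_dvd_of_dvd ?_ (Subgroup.card_dvd_of_le inf_le_left)
    (Subgroup.card_dvd_of_le (Subgroup.le_normalizer.trans L.normalizer_le))
  rw [hk]
  exact (Nat.coprime_two_right.2 (pointStab_odd L hone hg)).pow_right k

include hone in
/-- The number of cosets is `1` modulo the Sylow order. -/
theorem exists_index_eq :
    ∃ j, L.H.index = 1 + Nat.card (P : Subgroup G) * j := by
  classical
  haveI : Fact (Nat.Prime 2) := ⟨Nat.prime_two⟩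
  haveI := Fintype.ofFinite G
  set Q := (P : Subgroup G) with hQ
  haveI := Fintype.ofFinite (G ⧸ L.H)
  set q₀ : G ⧸ L.H := QuotientGroup.mk 1 with hq₀
  have hQH : Q ≤ L.H := Subgroup.le_normalizer.trans L.normalizer_le
  have hfixed : MulAction.orbit Q q₀ = {q₀} := by
    ext q
    rw [Set.mem_singleton_iff, MulAction.mem_orbit_iff]
    refine ⟨?_, fun h => ⟨1, by rw [one_smul, h]⟩⟩
    rintro ⟨y, rfl⟩
    show ((y : G) • QuotientGroup.mk (1 : G) : G ⧸ L.H) = QuotientGroup.mk 1
    rw [MulAction.Quotient.smul_mk, smul_eq_mul, mul_one, QuotientGroup.eq, mul_one]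
    exact inv_mem (hQH y.2)
  have hfree : ∀ q : G ⧸ L.H, q ≠ q₀ → ∀ y : Q, y • q = q → y = 1 := by
    intro q hq y hy
    by_contra hy1
    obtain ⟨g, rfl⟩ := QuotientGroup.mk_surjective q
    have hg : g ∉ L.H := fun h => hq (by rw [hq₀, QuotientGroup.eq, mul_one]; exact inv_mem h)
    have h1 : g⁻¹ * (y : G) * g ∈ L.H := by
      have h2 : (QuotientGroup.mk ((y : G) * g) : G ⧸ L.H) = QuotientGroup.mk g := hy
      have h3 := QuotientGroup.eq.1 h2.symm
      rwa [← mul_assoc] at h3
    have hmem : (y : G) ∈ pointStab L.H g := mem_pointStab.2 ⟨hQH y.2, h1⟩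
    obtain ⟨k, hk⟩ := IsPGroup.iff_orderOf.mp P.isPGroup' y
    rcases Nat.eq_zero_or_pos k with rfl | hk0
    · exact hy1 (orderOf_eq_one_iff.1 (by simpa using hk))
    · have h2 : 2 ∣ orderOf (y : G) := by
        rw [Subgroup.orderOf_coe, hk]
        exact dvd_pow_self 2 hk0.ne'
      exact Nat.not_even_iff_odd.2 (pointStab_odd L hone hg)
        (even_iff_two_dvd.2 (h2.trans (Subgroup.orderOf_dvd_natCard _ hmem)))
  haveI := Fintype.ofFinite (MulAction.orbitRel.Quotient Q (G ⧸ L.H))
  have hcard := Nat.card_congr (MulAction.selfEquivSigmaOrbitsQuotientStabilizer Q (G ⧸ L.H))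
  rw [Nat.card_sigma] at hcard
  set ω₀ : MulAction.orbitRel.Quotient Q (G ⧸ L.H) := Quotient.mk'' q₀ with hω₀
  have hst : ∀ ω : MulAction.orbitRel.Quotient Q (G ⧸ L.H),
      Nat.card (Q ⧸ MulAction.stabilizer Q ω.out) = if ω = ω₀ then 1 else Nat.card Q := by
    intro ω
    by_cases hω : ω.out = q₀
    · rw [if_pos (by rw [hω₀, ← hω]; exact (Quotient.out_eq' ω).symm)]
      have htop : MulAction.stabilizer Q ω.out = ⊤ := (Subgroup.eq_top_iff' _).2 fun y => by
        rw [MulAction.mem_stabilizer_iff, hω]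
        have := MulAction.mem_orbit q₀ y
        rw [hfixed] at this
        exact this
      rw [htop, ← Subgroup.index_eq_card, Subgroup.index_top]
    · rw [if_neg]
      · have hbot : MulAction.stabilizer Q ω.out = ⊥ := (Subgroup.eq_bot_iff_forall _).2 fun y hy =>
          hfree _ hω y hy
        rw [hbot, ← Subgroup.index_eq_card, Subgroup.index_bot]
      · intro h
        apply hω
        have h1 : ω.out ∈ MulAction.orbit Q q₀ := by
          rw [← MulAction.orbitRel_apply]
          exact Quotient.eq''.1 ((Quotient.out_eq' ω).trans h)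
        rw [hfixed] at h1
        exact h1
  rw [Fintype.sum_congr _ _ hst, ← Finset.add_sum_erase _ _ (Finset.mem_univ ω₀), if_pos rfl,
    Finset.sum_congr rfl fun ω hω => if_neg (Finset.ne_of_mem_erase hω), Finset.sum_const,
    smul_eq_mul] at hcard
  exact ⟨_, by rw [Subgroup.index_eq_card, hcard, mul_comm]⟩

omit [IsMulCommutative (P : Subgroup G)] in
/-- The relative index of `W` in a subgroup of `H` divides the order of `H/W`. -/
theorem relIndex_W_dvd {K : Subgroup G} (hK : K ≤ L.H) :
    L.W.relIndex K ∣ Nat.card (P : Subgroup G) *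
      (Subgroup.centralizer ((P : Subgroup G) : Set G)).relIndex
        (Subgroup.normalizer ((P : Subgroup G) : Set G)) := by
  haveI : (L.W.subgroupOf L.H).Normal := Subgroup.normal_subgroupOf_of_le_normalizer L.W_normal
  have h1 := Subgroup.relIndex_dvd_index_of_normal (L.W.subgroupOf L.H) (K.subgroupOf L.H)
  rw [Subgroup.relIndex_subgroupOf hK] at h1
  refine h1.trans (dvd_of_eq ?_)
  have h2 := L.W.card_subgroup_dvd_card
  have h3 := (L.W.subgroupOf L.H).index_mul_card
  rw [Nat.card_congr (Subgroup.subgroupOfEquivOfLe L.W_le).toEquiv, L.card_H, mul_assoc,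
    mul_comm (Nat.card L.W)] at h3
  exact Nat.eq_of_mul_eq_mul_right Nat.card_pos h3

variable {e : ℕ} (he : e.Prime) (hcard : Nat.card (P : Subgroup G) = e + 1)
  (heI : (Subgroup.centralizer ((P : Subgroup G) : Set G)).relIndex
    (Subgroup.normalizer ((P : Subgroup G) : Set G)) = e)
  (hsmall : L.H.index ≤ (e + 1) * (e - 1))

include hone hcard heI he hsmall in
/-- The stabilisers of the other cosets: they cover `H/WP` and `W` has short orbits. -/
theorem relIndex_pointStab {g : G} (hg : g ∉ L.H) :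
    L.W.relIndex (pointStab L.H g) = e ∧ (pointStab L.H g).relIndex L.W < e ∧
      Nat.card L.H = Nat.card (pointStab L.H g) *
        (Nat.card (P : Subgroup G) * (pointStab L.H g).relIndex L.W) := by
  classical
  haveI : Fact (Nat.Prime 2) := ⟨Nat.prime_two⟩
  set D := pointStab L.H g with hD
  obtain ⟨l, hl⟩ := card_pointStab_mul_dvd L hone hg
  rw [← hD, mul_assoc] at hl
  have hD0 : 0 < Nat.card D := Nat.card_pos
  -- the orbit of `gH` avoids the base coset
  have horb : Nat.card (P : Subgroup G) * l + 1 ≤ L.H.index := by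
    let f : L.H ⧸ D.subgroupOf L.H → G ⧸ L.H :=
      Quotient.lift (fun h : L.H => (QuotientGroup.mk ((h : G) * g) : G ⧸ L.H)) (by
        intro a b hab
        have h := (mem_pointStab.1 (Subgroup.mem_subgroupOf.1 (QuotientGroup.leftRel_apply.1 hab))).2
        rw [QuotientGroup.eq]
        simpa [mul_assoc] using h)
    have hinj : Function.Injective f := by
      intro p q
      induction p using QuotientGroup.induction_on with
      | H a =>
        induction q using QuotientGroup.induction_on with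
        | H b =>
          intro h
          have h' : (QuotientGroup.mk ((a : G) * g) : G ⧸ L.H) = QuotientGroup.mk ((b : G) * g) := h
          rw [QuotientGroup.eq] at h' ⊢
          rw [Subgroup.mem_subgroupOf]
          refine mem_pointStab.2 ⟨(a⁻¹ * b).2, ?_⟩
          simpa [mul_assoc] using h'
    haveI := Fintype.ofFinite (G ⧸ L.H)
    let F : Option (L.H ⧸ D.subgroupOf L.H) → G ⧸ L.H := fun o => o.elim (QuotientGroup.mk 1) f
    have hF : Function.Injective F := by
      intro o o' h
      rcases o with _ | p <;> rcases o' with _ | q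
      · rfl
      · induction q using QuotientGroup.induction_on with
        | H b =>
          have h' : (QuotientGroup.mk (1 : G) : G ⧸ L.H) = QuotientGroup.mk ((b : G) * g) := h
          rw [QuotientGroup.eq, inv_one, one_mul] at h'
          exact absurd ((L.H.mul_mem_cancel_left b.2).1 h') hg
      · induction p using QuotientGroup.induction_on with
        | H b =>
          have h' : (QuotientGroup.mk ((b : G) * g) : G ⧸ L.H) = QuotientGroup.mk (1 : G) := h
          rw [QuotientGroup.eq, mul_one, Subgroup.inv_mem_iff] at h'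
          exact absurd ((L.H.mul_mem_cancel_left b.2).1 h') hg
      · exact congrArg some (hinj h)
    have h1 := Nat.card_le_card_of_injective F hF
    rw [Finite.card_option, ← Subgroup.index_eq_card, ← Subgroup.index_eq_card] at h1
    have h2 := (D.subgroupOf L.H).index_mul_card
    rw [Nat.card_congr (Subgroup.subgroupOfEquivOfLe
      (show D ≤ L.H from inf_le_left)).toEquiv, hl, mul_comm] at h2
    rw [← Nat.eq_of_mul_eq_mul_left hD0 h2]
    exact h1
  have hle : Nat.card (P : Subgroup G) * l < (e + 1) * (e - 1) := by omega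
  have hl1 : l < e := by
    rw [hcard] at hle
    have := Nat.lt_of_mul_lt_mul_left hle
    omega
  -- the image of the stabiliser in `H/W`
  have hr1 : L.W.relIndex D ∣ e := by
    have h1 := relIndex_W_dvd L (show D ≤ L.H from inf_le_left)
    rw [heI] at h1
    have h2 : L.W.relIndex D ∣ Nat.card D :=
      Subgroup.index_dvd_card (L.W.subgroupOf D)
    obtain ⟨k, hk⟩ := IsPGroup.iff_card.1 P.isPGroup'
    refine Nat.Coprime.dvd_of_dvd_mul_left ?_ h1
    rw [hk]
    exact ((Nat.coprime_two_right.2 (pointStab_odd L hone hg)).coprime_dvd_left h2).pow_right k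
  have hWD : L.W.relIndex D * Nat.card (L.W ⊓ D : Subgroup G) = Nat.card D := by
    have h := (L.W.subgroupOf D).index_mul_card
    rw [← h]
    congr 1
    rw [← Subgroup.inf_subgroupOf_right]
    exact (Nat.card_congr (Subgroup.subgroupOfEquivOfLe inf_le_right).toEquiv).symm
  have hDW : D.relIndex L.W * Nat.card (L.W ⊓ D : Subgroup G) = Nat.card L.W := by
    have h := (D.subgroupOf L.W).index_mul_card
    rw [← h, inf_comm]
    congr 1
    rw [← Subgroup.inf_subgroupOf_right]
    exact (Nat.card_congr (Subgroup.subgroupOfEquivOfLe inf_le_right).toEquiv).symm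
  have hkey : D.relIndex L.W * e = L.W.relIndex D * l := by
    rw [L.card_H, heI, ← hWD, ← hDW] at hl
    have h0 : 0 < Nat.card (L.W ⊓ D : Subgroup G) * Nat.card (P : Subgroup G) :=
      Nat.mul_pos Nat.card_pos Nat.card_pos
    refine Nat.eq_of_mul_eq_mul_left h0 ?_
    linear_combination hl
  rcases (Nat.dvd_prime he).1 hr1 with h1 | h1
  · exfalso
    rw [h1, one_mul] at hkey
    rcases Nat.eq_zero_or_pos (D.relIndex L.W) with h0 | h0
    · exact (D.subgroupOf L.W).index_ne_zero_of_finite h0
    · have := Nat.le_mul_of_pos_left e h0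
      omega
  · rw [h1, mul_comm] at hkey
    have hlD : D.relIndex L.W = l := Nat.eq_of_mul_eq_mul_left he.pos hkey
    exact ⟨h1, hlD ▸ hl1, by rw [hlD]; exact hl⟩

variable (hcore : ∀ N : Subgroup G, N.Normal → Odd (Nat.card N) → N = ⊥)

include hone hcore in
/-- The core of `H` is trivial. -/
theorem normalCore_eq_bot : L.H.normalCore = ⊥ := by
  haveI : Fact (Nat.Prime 2) := ⟨Nat.prime_two⟩
  refine hcore _ inferInstance ?_
  by_contra hodd
  rw [Nat.not_odd_iff_even] at hodd
  obtain ⟨x, hx⟩ := exists_prime_orderOf_dvd_card' (G := L.H.normalCore) 2 hodd.two_dvd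
  refine L.ne_top ((Subgroup.eq_top_iff' _).2 fun g => ?_)
  refine fixed_coset L hone (L.H.normalCore_le x.2) (by rw [Subgroup.orderOf_coe, hx]) ?_
  have := L.H.normalCore_le (Subgroup.Normal.conj_mem (H := L.H.normalCore) inferInstance _ x.2 g⁻¹)
  simpa using this

include hone hcard heI he hsmall hcore in
/-- `e` does not divide the order of `W`. -/
theorem not_dvd_card_W : ¬ e ∣ Nat.card L.W := by
  intro hdvd
  haveI : Fact e.Prime := ⟨he⟩
  obtain ⟨w, hw⟩ := exists_prime_orderOf_dvd_card' (G := L.W) e hdvd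
  have hall : ∀ g : G, g⁻¹ * (w : G) * g ∈ L.H := by
    intro g
    by_cases hg : g ∈ L.H
    · exact mul_mem (mul_mem (inv_mem hg) (L.W_le w.2)) hg
    · obtain ⟨-, hlt, -⟩ := relIndex_pointStab L hone he hcard heI hsmall hg
      have h1 := Subgroup.relIndex_le_of_le_right (H := pointStab L.H g)
        (show Subgroup.zpowers (w : G) ≤ L.W from Subgroup.zpowers_le.2 w.2)
      have h2 : (pointStab L.H g).relIndex (Subgroup.zpowers (w : G)) ∣ e := by
        have h3 : (pointStab L.H g).relIndex (Subgroup.zpowers (w : G)) ∣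
            Nat.card (Subgroup.zpowers (w : G)) :=
          Subgroup.index_dvd_card ((pointStab L.H g).subgroupOf (Subgroup.zpowers (w : G)))
        rwa [Nat.card_zpowers, Subgroup.orderOf_coe, hw] at h3
      rcases (Nat.dvd_prime he).1 h2 with h3 | h3
      · exact (mem_pointStab.1 (Subgroup.relIndex_eq_one.1 h3 (Subgroup.mem_zpowers _))).2
      · have := h1 ((pointStab L.H g).subgroupOf L.W).index_ne_zero_of_finite
        omega
  have hmem : (w : G) ∈ L.H.normalCore := fun g => by
    have := hall g⁻¹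
    rwa [inv_inv] at this
  rw [normalCore_eq_bot L hone hcore, Subgroup.mem_bot] at hmem
  rw [← Subgroup.orderOf_coe, hmem, orderOf_one] at hw
  exact he.ne_one hw.symm

include hone hcard heI he hsmall hcore in
/-- Stabiliser elements lie in `W` iff their order is prime to `e`. -/
theorem mem_W_iff {g : G} (hg : g ∉ L.H) {x : G} (hx : x ∈ pointStab L.H g) :
    x ∈ L.W ↔ ¬ e ∣ orderOf x := by
  constructor
  · exact fun h hd => not_dvd_card_W L hone he hcard heI hsmall hcore
      (hd.trans (Subgroup.orderOf_dvd_natCard _ h))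
  · intro h
    obtain ⟨h1, -, -⟩ := relIndex_pointStab L hone he hcard heI hsmall hg
    haveI : (L.W.subgroupOf (pointStab L.H g)).Normal :=
      Subgroup.normal_subgroupOf_of_le_normalizer
        ((show pointStab L.H g ≤ L.H from inf_le_left).trans L.W_normal)
    have h2 : orderOf (QuotientGroup.mk' (L.W.subgroupOf (pointStab L.H g)) ⟨x, hx⟩) ∣ orderOf x :=
      (orderOf_map_dvd _ _).trans (by rw [Subgroup.orderOf_mk])
    have h3 : orderOf (QuotientGroup.mk' (L.W.subgroupOf (pointStab L.H g)) ⟨x, hx⟩) ∣ e := by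
      refine (orderOf_dvd_natCard _).trans (dvd_of_eq ?_)
      rw [← Subgroup.index_eq_card]
      exact h1
    rcases (Nat.dvd_prime he).1 h3 with h4 | h4
    · rw [orderOf_eq_one_iff, QuotientGroup.mk'_apply, QuotientGroup.eq_one_iff] at h4
      exact h4
    · exact absurd (h4 ▸ h2) h

end CfsgLib.AbelianTwo
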