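import Cfsg.Agent.Lib.BlockSixteen.Local
import Cfsg.Agent.Lib.BlockSixteen.Orbit
import Cfsg.Agent.Lib.Blocks.Pairs.Principal
import Cfsg.Agent.Lib.Blk83.AbelianExceptional

/-!
# Counting the principal 2-block with an abelian Sylow subgroup

The number of characters is the rank plus the number of orbits of the normalizer on the
non-identity elements when these orbits are regular, and no member of the block vanishes on a
2-section.
-/

set_option autoImplicit false
set_option maxHeartbeats 1000000
set_option synthInstance.maxHeartbeats 400000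

open Cfsg CfsgLib.Blocks CfsgLib.Blocks.Pairs CfsgLib.BlockRank CfsgLib.BlockRank.Watanabe
open scoped Classical ComplexConjugate IsMulCommutative

namespace CfsgLib.AbelianTwo

universe u

variable {G : Type u} [Group G] [Finite G] {p : ℕ} [Fact p.Prime] {M : Ideal Cfsg.AlgInt}

/-- Subsections of the principal block for an abelian Sylow subgroup. -/
theorem exists_sections (hM : IsPModular p M) (P : Sylow p G)
    (hab : IsMulCommutative (P : Subgroup G)) :
    haveI := hM.2.1
    ∃ (e : MonoidAlgebra (ResField M) G) (T : Finset (SecIdx G)) (φ : SecIdx G → G),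
      Sections p M (principalBlock M G) (P : Subgroup G) e T φ ∧
      pairStab (P : Subgroup G) e = Subgroup.normalizer ((P : Subgroup G) : Set G) ∧
      (∀ s ∈ T, φ s = 1 → blockRank p s.2 = blockRank p (principalBlock M G)) ∧
      ∀ s ∈ T, (Subgroup.centralizer ({φ s} : Set G) ⊓
          Subgroup.normalizer ((P : Subgroup G) : Set G) ≤
        Subgroup.centralizer ((P : Subgroup G) : Set G)) → blockRank p s.2 = 1 := by
  have := hM.2.1
  have := charP_resField (M := M) hM.1 hM.2.2
  set Q : Subgroup G := (P : Subgroup G) with hQ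
  have hB : IsPBlock M (principalBlock M G) := isPBlock_principalBlock
  have hcomm : ∀ x ∈ Q, ∀ y ∈ Q, x * y = y * x := fun x hx y hy =>
    congrArg Subtype.val (hab.is_comm.comm (⟨x, hx⟩ : Q) ⟨y, hy⟩)
  obtain ⟨e, ⟨hblk, haug⟩, huniq⟩ :=
    existsUnique_principal (F := ResField M) (Subgroup.centralizer (Q : Set G))
  have hpair : IsPair p Q e := ⟨P.isPGroup', hblk⟩
  have hB1 : aug (ebar hB) = 1 := aug_ebar_principal
  have hP : PairOf p (ebar hB) Q e :=
    (pairOf_principal_iff (isBlockIdem_ebar hB) hB1 hpair).2 haug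
  have hmax : MaxR p (ebar hB) Q := (maxR_principal_iff (isBlockIdem_ebar hB) hB1 Q).2 ⟨P, rfl⟩
  have hno : NoExt p Q e := hmax.noExt hP
  have hstab : pairStab Q e = Subgroup.normalizer (Q : Set G) :=
    le_antisymm (fun y hy => hy.1) fun y hy =>
      ⟨hy, huniq _ ⟨hblk.conj_of_normalizer (normalizer_le_normalizer_centralizer Q hy),
        by rw [aug_conjA, haug]⟩⟩
  obtain ⟨T, φ, hT⟩ := exists_sectionsData hM hB hP hno hcomm
  refine ⟨e, T, φ, hT, hstab, fun s hs h1 => ?_, fun s hs hfix => ?_⟩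
  · rw [hT.rank_eq hP.pair hs, h1, Subgroup.zpowers_one_eq_bot, lr_bot hB hP]
  · rw [hT.rank_eq hP.pair hs]
    refine CfsgLib.BlockSixteen.lr_eq_one hM hP hno hcomm (hT.mem s hs) fun y hy hyu => hfix ⟨?_, ?_⟩
    · exact Subgroup.mem_centralizer_singleton_iff.2 (mul_inv_eq_iff_eq_mul.1 hyu)
    · exact hstab ▸ hy

/-- The number of characters when the normalizer acts freely on the non-identity elements. -/
theorem card_eq_rank_add (hM : IsPModular p M) (P : Sylow p G)
    (hab : IsMulCommutative (P : Subgroup G))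
    (hfix : ∀ y ∈ (P : Subgroup G), y ≠ 1 →
      Subgroup.centralizer ({y} : Set G) ⊓ Subgroup.normalizer ((P : Subgroup G) : Set G) ≤
        Subgroup.centralizer ((P : Subgroup G) : Set G)) :
    ∃ n : ℕ, Nat.card (principalBlock M G) = blockRank p (principalBlock M G) + n ∧
      n * (Subgroup.centralizer ((P : Subgroup G) : Set G)).relIndex
        (Subgroup.normalizer ((P : Subgroup G) : Set G)) + 1 = Nat.card (P : Subgroup G) := by
  have := hM.2.1
  set Q : Subgroup G := (P : Subgroup G) with hQ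
  obtain ⟨e, T, φ, hT, hstab, h₀, h₁⟩ := exists_sections hM P hab
  set S := pairStab Q e with hS
  obtain ⟨s₀, hs₀, y₀, -, hy₀⟩ := hT.surj 1 (one_mem Q)
  have hφ₀ : φ s₀ = 1 := by
    calc φ s₀ = y₀⁻¹ * (y₀ * φ s₀ * y₀⁻¹) * y₀ := by group
      _ = 1 := by rw [hy₀]; group
  have hne : ∀ s ∈ T.erase s₀, φ s ≠ 1 := fun s hs h1 => by
    obtain ⟨h2, h3⟩ := Finset.mem_erase.1 hs
    exact h2 (hT.inj s h3 s₀ hs₀ 1 (one_mem _) (by rw [h1, hφ₀]; group))
  refine ⟨(T.erase s₀).card, ?_, ?_⟩
  · rw [hT.card, ← Finset.add_sum_erase _ _ hs₀, h₀ s₀ hs₀ hφ₀,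
      Finset.sum_congr rfl fun s hs => h₁ s (Finset.mem_of_mem_erase hs)
        (hfix _ (hT.mem s (Finset.mem_of_mem_erase hs)) (hne s hs)),
      Finset.sum_const, smul_eq_mul, mul_one]
  · have h := CfsgLib.BlockSixteen.sum_orb (S := S) (P := Q) T φ hstab.le hT.mem hT.surj hT.inj
    rw [← Finset.add_sum_erase _ _ hs₀] at h
    have e₀ : (CfsgLib.BlockSixteen.stab S (φ s₀)).relIndex S = 1 :=
      Subgroup.relIndex_eq_one.2 fun y hy =>
        CfsgLib.BlockSixteen.mem_stab_iff.2 ⟨hy, by rw [hφ₀]; group⟩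
    have e₁ : ∀ s ∈ T.erase s₀, (CfsgLib.BlockSixteen.stab S (φ s)).relIndex S =
        (Subgroup.centralizer (Q : Set G)).relIndex (Subgroup.normalizer (Q : Set G)) := by
      intro s hs
      have hsQ := hT.mem s (Finset.mem_of_mem_erase hs)
      have hst : CfsgLib.BlockSixteen.stab S (φ s) = Subgroup.centralizer (Q : Set G) := by
        refine le_antisymm (fun y hy => ?_) fun y hy => ?_
        · obtain ⟨hy1, hy2⟩ := CfsgLib.BlockSixteen.mem_stab_iff.1 hy
          exact hfix _ hsQ (hne s hs)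
            ⟨Subgroup.mem_centralizer_singleton_iff.2 (mul_inv_eq_iff_eq_mul.1 hy2), hstab ▸ hy1⟩
        · refine CfsgLib.BlockSixteen.mem_stab_iff.2
            ⟨hstab.symm ▸ Subgroup.centralizer_le_normalizer _ hy, ?_⟩
          rw [mul_inv_eq_iff_eq_mul]
          exact (Subgroup.mem_centralizer_iff.1 hy _ hsQ).symm
      rw [hst, hstab]
    rw [e₀, Finset.sum_congr rfl e₁, Finset.sum_const, smul_eq_mul] at h
    omega

/-- No member of the principal block vanishes on the section of an element of `P`. -/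
theorem exists_section_apply_ne_zero (hM : IsPModular p M) (P : Sylow p G)
    (hab : IsMulCommutative (P : Subgroup G)) {u : G} (hu : u ∈ (P : Subgroup G))
    {χ : IrrCharacter G} (hχ : χ ∈ principalBlock M G) :
    ∃ x y : G, IsConj x u ∧ Commute x y ∧ ¬ p ∣ orderOf y ∧ (χ : G → ℂ) (x * y) ≠ 0 := by
  have := hM.2.1
  have := charP_resField (M := M) hM.1 hM.2.2
  have := Fintype.ofFinite G
  obtain ⟨e, T, φ, hT, -, -, -⟩ := exists_sections hM P hab
  obtain ⟨s, hs, y, -, hy⟩ := hT.surj u hu
  obtain ⟨g, hg, -⟩ := hT.link s hs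
  have hconj : IsConj s.1 u := isConj_iff.2 ⟨y * g, by rw [← hy, hg]; group⟩
  by_contra hall
  push Not at hall
  refine diag_ne_zero hM hT hs hχ ?_
  set C := Subgroup.centralizer ({s.1} : Set G) with hC
  have hb : s.2 = principalBlock M C := (isInducedBlock_principal_iff hM ⟨_, hT.induced s hs⟩).1 (hT.induced s hs)
  have hz : ∀ c ∈ regSet (G := C) p,
      blockPart s.2 (fun d : C => (χ : G → ℂ) (s.1 * d)) c = 0 := by
    intro c hc
    have hreg : ¬ p ∣ orderOf c := (Finset.mem_filter.1 hc).2
    rw [hb, Cfsg.Agent.S0923.blockPart_eq _ c (CfsgLib.BlockRank.isClassFunction_translate rfl χ),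
      ← CfsgLib.Blk83.principal_apply_mul_eq hM (hT.pelem s hs) hχ c hreg]
    exact hall s.1 c hconj (Subgroup.mem_centralizer_singleton_iff.1 c.2).symm
      (by rwa [Subgroup.orderOf_coe])
  simp only [diag, contrib, regPair]
  rw [Finset.sum_eq_zero fun c hc => ?_, mul_zero, mul_zero]
  have hc' := hz c (by simpa [regSet] using hc)
  exact mul_eq_zero_of_left (by convert hc') _

/-- An irreducible character takes integral values at involutions. -/
theorem exists_int_apply_involution (χ : IrrCharacter G) {t : G} (ht : t * t = 1) :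
    ∃ z : ℤ, (χ : G → ℂ) t = z := by
  obtain ⟨f, n, ρ, hirr, rfl⟩ := χ
  obtain ⟨μ, hμ, -, -, hpow⟩ := CfsgLib.Char.exists_eigenvalues ρ t
  have h1 := hpow 1
  simp only [pow_one] at h1
  have hz : ∀ i, ∃ z : ℤ, μ i = z := fun i => by
    have hsq : μ i ^ 2 = 1 := by
      obtain ⟨k, hk⟩ := orderOf_dvd_iff_pow_eq_one.2 (show t ^ 2 = 1 by rw [sq]; exact ht)
      rw [hk, pow_mul, hμ i, one_pow]
    rcases sq_eq_one_iff.1 hsq with h | h
    · exact ⟨1, by simp [h]⟩
    · exact ⟨-1, by simp [h]⟩
  choose z hz using hz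
  exact ⟨∑ i, z i, by show ρ.character t = _; rw [h1]; push_cast; simp [hz]⟩

/-- With regular orbits the rank is at most the inertial index. -/
theorem blockRank_le (hM : IsPModular p M) (P : Sylow p G)
    (hab : IsMulCommutative (P : Subgroup G))
    (hfix : ∀ y ∈ (P : Subgroup G), y ≠ 1 →
      Subgroup.centralizer ({y} : Set G) ⊓ Subgroup.normalizer ((P : Subgroup G) : Set G) ≤
        Subgroup.centralizer ((P : Subgroup G) : Set G))
    (hp2 : p = 2) (hne : (P : Subgroup G) ≠ ⊥) :
    blockRank p (principalBlock M G) ≤ (Subgroup.centralizer ((P : Subgroup G) : Set G)).relIndex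
        (Subgroup.normalizer ((P : Subgroup G) : Set G)) := by
  obtain ⟨n, hk, hn⟩ := card_eq_rank_add hM P hab hfix
  have := Fintype.ofFinite G
  have := hab
  rw [← CfsgLib.Blk83.card_autGroup] at hn ⊢
  set e := Nat.card (CfsgLib.Blk83.autGroup P) with he
  have : Fintype (CfsgLib.Blk83.autGroup P) := Fintype.ofFinite _
  have := CfsgLib.Blk83.FreeOrbit.finite_orb (CfsgLib.Blk83.autGroup P)
  have : Fintype (CfsgLib.Blk83.FreeOrbit.Orb (CfsgLib.Blk83.autGroup P)) := Fintype.ofFinite _
  have he0 : 0 < e := Nat.card_pos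
  rcases Nat.lt_or_ge (e + 1) (Nat.card (P : Subgroup G)) with hlt | hge
  · obtain ⟨E⟩ := CfsgLib.Blk83.exists_exceptional P hM hfix hlt
    have hT := CfsgLib.Blk83.autGroup_free P hfix
    have horb : Nat.card (CfsgLib.Blk83.FreeOrbit.Orb (CfsgLib.Blk83.autGroup P)) = n := by
      have h := CfsgLib.Blk83.FreeOrbit.card_orb_mul (CfsgLib.Blk83.autGroup P) hT
      exact Nat.eq_of_mul_eq_mul_right he0 (Nat.add_right_cancel (h.trans hn.symm))
    have hsub : Set.range E.μ ⊆ principalBlock M G := by
      rintro _ ⟨q, rfl⟩; exact E.μ_mem q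
    have h1 := E.card_le
    rw [Nat.card_coe_set_eq] at h1 hk
    have h2 := Set.ncard_diff hsub
    rw [Set.ncard_range_of_injective E.μ_injective] at h2
    omega
  · obtain ⟨t, ht, ht1⟩ : ∃ t ∈ (P : Subgroup G), orderOf t = 2 := by
      obtain ⟨k, hk'⟩ := IsPGroup.iff_card.1 P.isPGroup'
      have hk0 : k ≠ 0 := fun h => hne (Subgroup.card_eq_one.1 (by rw [hk', h, pow_zero]))
      subst hp2
      obtain ⟨t, ht⟩ := exists_prime_orderOf_dvd_card' (G := (P : Subgroup G)) 2
        (hk' ▸ dvd_pow_self 2 hk0)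
      exact ⟨t, t.2, by rw [Subgroup.orderOf_coe]; exact ht⟩
    have htne : t ≠ 1 := fun h => by simp [h] at ht1
    have htt : t * t = 1 := by rw [← sq, ← ht1]; exact pow_orderOf_eq_one t
    have h := CfsgLib.Blk83.principal_column_inner P hfix hM ht htne ht
    rw [if_pos (IsConj.refl _)] at h
    choose z hz using fun χ : IrrCharacter G => exists_int_apply_involution χ htt
    simp only [hz, map_intCast] at h
    have h' : ∑ χ ∈ Finset.univ.filter (· ∈ principalBlock M G), z χ * z χ =
        (Nat.card (P : Subgroup G) : ℤ) := by exact_mod_cast h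
    have hge1 : ∀ χ ∈ Finset.univ.filter (· ∈ principalBlock M G), (1 : ℤ) ≤ z χ * z χ := by
      intro χ hχ
      have hχ' := (Finset.mem_filter.1 hχ).2
      have hzne : z χ ≠ 0 := fun h0 => by
        obtain ⟨x, y, hxu, hxy, hy, hne'⟩ := exists_section_apply_ne_zero hM P hab ht hχ'
        obtain ⟨c, hc⟩ := isConj_iff.1 hxu
        have hcomm : Commute t (c * y * c⁻¹) := hc ▸ hxy.map (MulAut.conj c).toMonoidHom
        have hreg : ¬ p ∣ orderOf (c * y * c⁻¹) := by
          rwa [← MulEquiv.orderOf_eq (MulAut.conj c) y] at hy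
        have h1 := CfsgLib.Blk83.apply_mul_regular P hfix hM hχ' ht htne hcomm hreg
        rw [hz, h0, Int.cast_zero] at h1
        refine hne' ?_
        rw [← h1, ← hc, show c * x * c⁻¹ * (c * y * c⁻¹) = c * (x * y) * c⁻¹ by group]
        exact (CfsgLib.Char.IsIrrCharacter.isClassFunction χ.2 _ _).symm
      nlinarith [mul_self_pos.2 hzne]
    have hsum := Finset.sum_le_sum hge1
    rw [h', Finset.sum_const, nsmul_eq_mul, mul_one] at hsum
    have hcard : (Finset.univ.filter (· ∈ principalBlock M G)).card =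
        Nat.card (principalBlock M G) := by
      rw [Nat.card_eq_fintype_card, Fintype.card_subtype]
    have hn0 : 1 ≤ n := by
      by_contra hn0
      obtain rfl : n = 0 := by omega
      simp only [zero_mul, zero_add] at hn
      exact hne (Subgroup.card_eq_one.1 hn.symm)
    omega

end CfsgLib.AbelianTwo
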