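import Cfsg.Agent.Lib.AbelianTwoBlock.Count
import Cfsg.Agent.Lib.Invol.SectionAverage
import Cfsg.Agent.Lib.Blk83.InvolutionColumn

/-!
# A single class of involutions forces an elementary Sylow subgroup

With a free inertial action that is transitive on the involutions, the exceptional characters and
two counts of pairs of involutions contradict the existence of elements of order four, unless a
proper normal subgroup contains the Sylow subgroup.
-/

set_option autoImplicit false
set_option maxHeartbeats 1000000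

open Cfsg
open scoped ComplexConjugate IsMulCommutative

namespace CfsgLib.AbelianTwo

open CfsgLib.Blk83 CfsgLib.Blk83.FreeOrbit

universe u

section Orbits

variable {A : Type*} [CommGroup A] [Finite A] (T : Subgroup (MulAut A)) [Fintype T]
  [Fintype (Orb T)]

/-- The sum of triple products of orbit sums. -/
theorem sum_orbSum_triple [DecidableEq A]
    (hT : ∀ a : T, a ≠ 1 → ∀ y : A, (a : MulAut A) y = y → y = 1) (x y z : A) :
    ∑ q : Orb T, orbSum T (rep T q) x * orbSum T (rep T q) y * orbSum T (rep T q) z =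
      (Nat.card A : ℂ) * ((Finset.univ.filter fun bc : T × T =>
        x * (bc.1 : MulAut A) y * (bc.2 : MulAut A) z = 1).card : ℂ) -
        (Nat.card T : ℂ) ^ 2 := by
  classical
  haveI := finite_dual (A := A)
  haveI := Fintype.ofFinite (A →* ℂˣ)
  have key : ∀ q : Orb T, orbSum T (rep T q) x * orbSum T (rep T q) y * orbSum T (rep T q) z =
      ∑ bc : T × T, orbSum T (rep T q) (x * (bc.1 : MulAut A) y * (bc.2 : MulAut A) z) := by
    intro q
    have shift : ∀ (a : T) (w : A),
        orbSum T (rep T q) w = ∑ b : T, (rep T q ((a : MulAut A) ((b : MulAut A) w)) : ℂ) :=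
      fun a w => (Fintype.sum_equiv (Equiv.mulLeft a) _ _ fun b => rfl).symm
    calc orbSum T (rep T q) x * orbSum T (rep T q) y * orbSum T (rep T q) z
        = ∑ a : T, ∑ bc : T × T,
            (rep T q ((a : MulAut A) (x * (bc.1 : MulAut A) y * (bc.2 : MulAut A) z)) : ℂ) := by
          conv_lhs => arg 1; arg 1; rw [orbSum]
          rw [Finset.sum_mul, Finset.sum_mul]
          refine Finset.sum_congr rfl fun a _ => ?_
          rw [shift a y, shift a z, mul_assoc, Finset.sum_mul_sum, Finset.mul_sum,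
            Fintype.sum_prod_type]
          refine Finset.sum_congr rfl fun b _ => ?_
          rw [Finset.mul_sum]
          refine Finset.sum_congr rfl fun c _ => ?_
          simp only [map_mul, Units.val_mul]
          ring
      _ = _ := Finset.sum_comm
  rw [Finset.sum_congr rfl fun q _ => key q, Finset.sum_comm,
    Finset.sum_congr rfl fun bc _ => sum_orbSum T hT _, Finset.sum_sub_distrib, ← Finset.sum_filter,
    Finset.sum_const, Finset.sum_const, nsmul_eq_mul, nsmul_eq_mul, mul_one, Finset.card_univ,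
    Fintype.card_prod, ← Nat.card_eq_fintype_card, Nat.cast_mul, sq, mul_comm (Nat.card A : ℂ)]

end Orbits

/-- The inequality excluding members with negative values. -/
theorem numeric_contradiction {a e D M : ℝ} (he : 2 ≤ e) (ha : (e + 1) ^ 2 ≤ a)
    (hD : a + e ≤ D) (hM : M = e ^ 2 / D) (hlow : 1 - (e - 1) / (a - 1) ≤ M) : False := by
  have ha1 : 0 < a - 1 := by nlinarith
  have hae : 0 < a + e := by nlinarith
  have h1 : M ≤ e ^ 2 / (a + e) := by rw [hM]; gcongr
  have h2 := hlow.trans h1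
  rw [sub_le_iff_le_add, div_add_div _ _ hae.ne' ha1.ne', le_div_iff₀ (mul_pos hae ha1)] at h2
  nlinarith [mul_lt_mul_of_pos_right (show e ^ 2 < a by nlinarith) (show (0 : ℝ) < a by nlinarith)]

variable {G : Type u} [Group G] [Finite G]

/-- An element of a group with irreducible character of full value on it and on its conjugates. -/
theorem eq_principal_of_ker (χ : IrrCharacter G) (P : Subgroup G)
    (hP : ∀ y ∈ P, (χ : G → ℂ) y = (χ : G → ℂ) 1)
    (hgen : ∀ K : Subgroup G, K.Normal → P ≤ K → K = ⊤) :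
    χ = CfsgLib.Char.principalIrr := by
  classical
  haveI := Fintype.ofFinite G
  obtain ⟨f, n, ρ, hirr, rfl⟩ := χ
  haveI := hirr
  have hker : P ≤ MonoidHom.ker ρ := fun y hy => by
    show ρ y = LinearMap.id
    exact (CfsgLib.Char.character_eq_degree_iff ρ y).1 (by
      have h : ρ.character y = ρ.character 1 := hP y hy
      rwa [ρ.char_one] at h)
  have htop : MonoidHom.ker ρ = ⊤ := hgen _ inferInstance hker
  have hconst : ∀ g : G, ρ.character g = (n : ℂ) := fun g => by
    have hg : ρ g = 1 := by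
      have : g ∈ MonoidHom.ker ρ := htop ▸ Subgroup.mem_top g
      exact this
    have hdeg : ρ.character 1 = (n : ℂ) := by rw [ρ.char_one, Module.finrank_fin_fun]
    rw [← hdeg]
    simp only [Representation.character, hg, map_one]
  refine Subtype.ext (CfsgLib.Char.eq_of_classInner_ne_zero ⟨n, ρ, hirr, rfl⟩
    (CfsgLib.Char.principalIrr : Cfsg.IrrCharacter G).2 ?_)
  have hn0 : (n : ℂ) ≠ 0 := by
    have := CfsgLib.Char.finrank_pos_of_isIrreducible ρ
    rw [Module.finrank_fin_fun] at this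
    exact_mod_cast this.ne'
  show Cfsg.classInner ρ.character _ ≠ 0
  have hpr : (CfsgLib.Char.principalIrr : Cfsg.IrrCharacter G).1 = fun _ => (1 : ℂ) := rfl
  rw [Cfsg.classInner, hpr]
  simp only [hconst, map_one, mul_one, Finset.sum_const, Finset.card_univ, nsmul_eq_mul]
  rw [← Nat.card_eq_fintype_card, inv_mul_cancel_left₀ (Nat.cast_ne_zero.2 Nat.card_pos.ne')]
  exact hn0

variable {M : Ideal Cfsg.AlgInt} (P : Sylow 2 G)

/-- The free action is transitive on the involutions of `P`. -/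
theorem card_involutions [IsMulCommutative (P : Subgroup G)]
    (hfix : ∀ y ∈ (P : Subgroup G), y ≠ 1 →
      Subgroup.centralizer ({y} : Set G) ⊓ Subgroup.normalizer ((P : Subgroup G) : Set G) ≤
        Subgroup.centralizer ((P : Subgroup G) : Set G))
    (hone : ∀ s t : G, orderOf s = 2 → orderOf t = 2 → IsConj s t)
    {t : (P : Subgroup G)} (ht : t * t = 1) (ht1 : t ≠ 1) :
    Nat.card {x : (P : Subgroup G) // x * x = 1} = Nat.card (autGroup P) + 1 := by
  classical
  haveI : Fact (Nat.Prime 2) := ⟨Nat.prime_two⟩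
  have hT := autGroup_free P hfix
  have hord : ∀ y : (P : Subgroup G), y * y = 1 → y ≠ 1 → orderOf (y : G) = 2 := fun y h1 h2 => by
    rw [Subgroup.orderOf_coe]
    exact orderOf_eq_prime (by rw [sq]; exact h1) h2
  let F : Option (autGroup P) → {x : (P : Subgroup G) // x * x = 1} := fun o =>
    o.elim ⟨1, one_mul 1⟩ fun a => ⟨(a : MulAut (P : Subgroup G)) t, by rw [← map_mul, ht, map_one]⟩
  have hbij : Function.Bijective F := by
    refine ⟨fun o o' h => ?_, fun x => ?_⟩
    · have h' := congrArg Subtype.val h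
      rcases o with _ | a <;> rcases o' with _ | b
      · rfl
      · exact absurd (((b : MulAut (P : Subgroup G)).map_eq_one_iff).1 h'.symm) ht1
      · exact absurd (((a : MulAut (P : Subgroup G)).map_eq_one_iff).1 h') ht1
      · congr 1
        by_contra hne
        refine ht1 (hT (b⁻¹ * a) (fun e => hne (inv_mul_eq_one.1 e).symm) t ?_)
        simp only [F, Option.elim] at h'
        simp [MulAut.mul_apply, h']
    · obtain ⟨x, hx⟩ := x
      by_cases hx1 : x = 1
      · exact ⟨none, Subtype.ext hx1.symm⟩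
      · obtain ⟨a, ha⟩ := (isConj_iff_autGroup P t x).1 (hone _ _ (hord t ht ht1) (hord x hx hx1))
        exact ⟨some a, Subtype.ext ha⟩
  rw [← Nat.card_congr (Equiv.ofBijective F hbij), Finite.card_option]

section Sums

variable [IsMulCommutative (P : Subgroup G)] (hM : IsPModular 2 M)
  (hfix : ∀ y ∈ (P : Subgroup G), y ≠ 1 →
    Subgroup.centralizer ({y} : Set G) ⊓ Subgroup.normalizer ((P : Subgroup G) : Set G) ≤
      Subgroup.centralizer ((P : Subgroup G) : Set G))

include hM hfix in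
/-- The weighted column sum at an element of order four whose square is an involution vanishes. -/
theorem sum_at_four {t u : (P : Subgroup G)} (htdef : t = u * u) (hot : orderOf t = 2) :
    ∑ᶠ χ ∈ Cfsg.principalBlock M G,
      (χ : G → ℂ) u * ((χ : G → ℂ) t * (χ : G → ℂ) t / (χ : G → ℂ) 1) = 0 := by
  classical
  haveI : Fact (Nat.Prime 2) := ⟨Nat.prime_two⟩
  subst htdef
  set t := u * u with htdef
  have htt : t * t = 1 := by
    have h := pow_orderOf_eq_one t
    rwa [hot, sq] at h
  have ht1 : t ≠ 1 := fun h => by simp [h] at hot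
  have hK : ∀ c₁ ∈ Subgroup.centralizer ({(t : G)} : Set G),
      ∀ c₂ ∈ Subgroup.centralizer ({(t : G)} : Set G), ¬ 2 ∣ orderOf (c₁ * c₂ * c₁⁻¹ * c₂⁻¹) := by
    intro c₁ hc₁ c₂ hc₂
    obtain ⟨K, hidx, hreg, -⟩ := exists_local_complement P hM t.2
      (hfix t t.2 fun h => ht1 (Subtype.ext h))
    haveI : K.Normal := ⟨fun n hn g => (hreg _).1 (by
      have : orderOf (g * n * g⁻¹) = orderOf n :=
        orderOf_injective (MulAut.conj g).toMonoidHom (MulAut.conj g).injective n
      rw [Cfsg.IsPRegular, this]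
      exact (hreg n).2 hn)⟩
    have hle := sylow_le_centralizer_singleton P t.2
    let π : (P : Subgroup G) →* Subgroup.centralizer ({(t : G)} : Set G) ⧸ K :=
      (QuotientGroup.mk' K).comp (Subgroup.inclusion hle)
    have hinj : Function.Injective π := (injective_iff_map_eq_one π).2 fun y hy => by
      have h1 : Subgroup.inclusion hle y ∈ K := (QuotientGroup.eq_one_iff _).1 hy
      have h2 := (hreg _).2 h1
      rw [Cfsg.IsPRegular, ← Subgroup.orderOf_coe] at h2
      obtain ⟨k', hk'⟩ := pElement_of_mem_sylow P y.2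
      have h2' : ¬ 2 ∣ orderOf (y : G) := h2
      rw [hk'] at h2'
      rcases Nat.eq_zero_or_pos k' with rfl | h0
      · exact Subtype.ext (orderOf_eq_one_iff.1 (by rw [hk', pow_zero]))
      · exact absurd (dvd_pow_self 2 h0.ne') h2'
    have hbij : Function.Bijective π := (Nat.bijective_iff_injective_and_card π).2
      ⟨hinj, by rw [← Subgroup.index_eq_card, hidx]⟩
    obtain ⟨y₁, hy₁⟩ := hbij.2 (QuotientGroup.mk ⟨c₁, hc₁⟩)
    obtain ⟨y₂, hy₂⟩ := hbij.2 (QuotientGroup.mk ⟨c₂, hc₂⟩)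
    let c : Subgroup.centralizer ({(t : G)} : Set G) :=
      ⟨c₁, hc₁⟩ * ⟨c₂, hc₂⟩ * ⟨c₁, hc₁⟩⁻¹ * ⟨c₂, hc₂⟩⁻¹
    have h1 : (QuotientGroup.mk c : Subgroup.centralizer ({(t : G)} : Set G) ⧸ K) = 1 := by
      simp only [c, QuotientGroup.mk_mul, QuotientGroup.mk_inv, ← hy₁, ← hy₂]
      rw [← map_inv, ← map_inv, ← map_mul, ← map_mul, ← map_mul, mul_comm y₁ y₂,
        mul_inv_cancel_right, mul_inv_cancel, map_one]
    have h2 := (hreg c).2 ((QuotientGroup.eq_one_iff c).1 h1)
    rw [Cfsg.IsPRegular, ← Subgroup.orderOf_coe] at h2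
    exact h2
  exact sum_sq_column_eq_zero (M := M) hM (pElement_of_mem_sylow P u.2) (t : G) (by
    intro a c hc hreg hconj
    obtain ⟨v₁, v, -, hv, -, hvu⟩ := exists_inverter (pElement_of_mem_sylow P u.2) hc hreg
      (show (t : G) * t = 1 from congrArg Subtype.val htt) hconj
    have hvt : v ∈ Subgroup.centralizer ({(t : G)} : Set G) := by
      refine Subgroup.mem_centralizer_singleton_iff.2 (mul_inv_eq_iff_eq_mul.1 ?_)
      have hti : ((u : G) * u)⁻¹ = (u : G) * u :=
        inv_eq_of_mul_eq_one_right (show (t : G) * t = 1 from congrArg Subtype.val htt)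
      show v * ((u : G) * u) * v⁻¹ = (u : G) * u
      rw [show v * ((u : G) * u) * v⁻¹ = (v * u * v⁻¹) * (v * u * v⁻¹) by group, hvu,
        ← mul_inv_rev, hti]
    have hut : (u : G) ∈ Subgroup.centralizer ({(t : G)} : Set G) :=
      sylow_le_centralizer_singleton P t.2 u.2
    have h := hK v hvt u hut
    rw [hvu] at h
    have e1 : (u : G)⁻¹ * (u : G)⁻¹ = ((t : G))⁻¹ := by rw [htdef]; simp
    rw [e1, orderOf_inv, Subgroup.orderOf_coe, hot] at h
    exact h dvd_rfl)

include hM hfix in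
/-- The weighted column sum at an involution is positive. -/
theorem sum_at_two {t v : (P : Subgroup G)} (hot : orderOf t = 2) (hv : v * v = 1)
    (hav : ∃ a : G, a * t * a⁻¹ = v) (haw : ∃ a : G, a * t * a⁻¹ = (v * t : (P : Subgroup G))) :
    ∃ r : ℝ, 0 < r ∧ ∑ᶠ χ ∈ Cfsg.principalBlock M G,
      (χ : G → ℂ) t * ((χ : G → ℂ) t * (χ : G → ℂ) t / (χ : G → ℂ) 1) = (r : ℂ) := by
  classical
  haveI : Fact (Nat.Prime 2) := ⟨Nat.prime_two⟩
  haveI := Fintype.ofFinite G
  have htt : t * t = 1 := by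
    have h := pow_orderOf_eq_one t
    rwa [hot, sq] at h
  have ht1 : t ≠ 1 := fun h => by simp [h] at hot
  obtain ⟨a₁, ha₁⟩ := hav
  obtain ⟨a₂, ha₂⟩ := haw
  obtain ⟨K, hidx, hreg, -⟩ := exists_local_complement P hM t.2
    (hfix t t.2 fun h => ht1 (Subtype.ext h))
  haveI : K.Normal := ⟨fun n hn g => (hreg _).1 (by
    have : orderOf (g * n * g⁻¹) = orderOf n :=
      orderOf_injective (MulAut.conj g).toMonoidHom (MulAut.conj g).injective n
    rw [Cfsg.IsPRegular, this]
    exact (hreg n).2 hn)⟩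
  haveI : Fintype K := Fintype.ofFinite _
  obtain ⟨l, hl⟩ := IsPGroup.iff_card.1 P.isPGroup'
  have hKodd : ¬ 2 ∣ Nat.card K := fun h2 => by
    obtain ⟨c, hc⟩ := exists_prime_orderOf_dvd_card' (G := K) 2 h2
    exact (hreg c).2 c.2 (by rw [Subgroup.orderOf_coe, hc])
  have hinv : (t : G)⁻¹ = t :=
    inv_eq_of_mul_eq_one_right (show (t : G) * t = 1 from congrArg Subtype.val htt)
  have havg : ∀ χ : IrrCharacter G,
      ∑ n : K, (χ : G → ℂ) ((t : G) * ((n : Subgroup.centralizer ({(t : G)} : Set G)) : G)) =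
        if χ ∈ CfsgLib.Invol.BlockCol.pBlock M G then (Nat.card K : ℂ) * (χ : G → ℂ) (t : G) else 0 :=
    fun χ => by
      convert CfsgLib.Invol.SectionAverage.sum_section_coset hM (pElement_of_mem_sylow P t.2) K
        hKodd (hidx.trans hl) χ using 2
  have hcount := Finset.sum_congr (s₂ := (Finset.univ : Finset K)) rfl (fun n _ =>
    CfsgLib.Invol.SectionAverage.sum_sq_mul_div hinv
      ((t : G) * ((n : Subgroup.centralizer ({(t : G)} : Set G)) : G)))
  rw [← Finset.mul_sum, Finset.sum_comm] at hcount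
  simp only [← Finset.sum_div, ← Finset.mul_sum, havg, mul_ite, mul_zero, ite_div, zero_div] at hcount
  rw [Finset.sum_ite_mem, Finset.univ_inter] at hcount
  have hpB : CfsgLib.Invol.BlockCol.pBlock M G = (Set.toFinite (Cfsg.principalBlock M G)).toFinset := by
    ext χ
    rw [CfsgLib.Invol.BlockCol.mem_pBlock, Set.Finite.mem_toFinset]
  rw [hpB, ← Nat.cast_sum] at hcount
  have hlhs : ∑ χ ∈ (Set.toFinite (Cfsg.principalBlock M G)).toFinset, (χ : G → ℂ) t * (χ : G → ℂ) t *
        ((Nat.card K : ℂ) * (χ : G → ℂ) t) / (χ : G → ℂ) 1 =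
      (Nat.card K : ℂ) *
        ∑ᶠ χ ∈ Cfsg.principalBlock M G, (χ : G → ℂ) t * ((χ : G → ℂ) t * (χ : G → ℂ) t / (χ : G → ℂ) 1) := by
    rw [finsum_mem_eq_finite_toFinset_sum _ (Set.toFinite _), Finset.mul_sum]
    exact Finset.sum_congr rfl fun χ _ => by ring
  rw [hlhs] at hcount
  set f := fun n : K => ((Finset.univ.filter fun ab : G × G =>
      ab.1 * (t : G) * ab.1⁻¹ * (ab.2 * (t : G) * ab.2⁻¹) =
        (t : G) * ((n : Subgroup.centralizer ({(t : G)} : Set G)) : G)).card) with hf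
  have hcpos : 0 < ∑ n : K, f n := by
    refine Finset.sum_pos' (fun n _ => Nat.zero_le _) ⟨1, Finset.mem_univ _, ?_⟩
    refine Finset.card_pos.2 ⟨(a₁, a₂), Finset.mem_filter.2 ⟨Finset.mem_univ _, ?_⟩⟩
    rw [ha₁, ha₂]
    simp only [OneMemClass.coe_one, mul_one]
    rw [← Subgroup.coe_mul, ← mul_assoc, hv, one_mul]
  refine ⟨((∑ n : K, f n : ℕ) : ℝ) / ((Fintype.card G : ℝ) * (Nat.card K : ℝ)), ?_, ?_⟩
  · have h1 : (0 : ℝ) < ((∑ n : K, f n : ℕ) : ℝ) := by exact_mod_cast hcpos
    have h2 : (0 : ℝ) < Fintype.card G := Nat.cast_pos.2 Fintype.card_pos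
    have h3 : (0 : ℝ) < Nat.card K := Nat.cast_pos.2 Nat.card_pos
    exact div_pos h1 (mul_pos h2 h3)
  · have h2 : ((Fintype.card G : ℂ) * (Nat.card K : ℂ)) ≠ 0 :=
      mul_ne_zero (Nat.cast_ne_zero.2 Fintype.card_ne_zero) (Nat.cast_ne_zero.2 Nat.card_pos.ne')
    rw [Complex.ofReal_div, Complex.ofReal_mul, Complex.ofReal_natCast, Complex.ofReal_natCast,
      Complex.ofReal_natCast, eq_div_iff h2]
    linear_combination hcount

open scoped Classical in
include hfix in
/-- The triples of conjugates of `t` with product one. -/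
theorem card_triples [Fintype (autGroup P)] {t : (P : Subgroup G)} (htt : t * t = 1) (ht1 : t ≠ 1)
    (hot : orderOf t = 2) (hone : ∀ s t : G, orderOf s = 2 → orderOf t = 2 → IsConj s t) :
    (Finset.univ.filter fun bc : autGroup P × autGroup P =>
        t * (bc.1 : MulAut (P : Subgroup G)) t * (bc.2 : MulAut (P : Subgroup G)) t = 1).card =
      Nat.card (autGroup P) - 1 := by
  classical
  haveI : Fact (Nat.Prime 2) := ⟨Nat.prime_two⟩
  set e := Nat.card (autGroup P) with hedef
  have hT := autGroup_free P hfix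
  have hoP : ∀ y : (P : Subgroup G), y * y = 1 → y ≠ 1 → orderOf (y : G) = 2 := fun y h1 h2 => by
    rw [Subgroup.orderOf_coe]
    exact orderOf_eq_prime (by rw [sq]; exact h1) h2
  have : e - 1 = ((Finset.univ : Finset (autGroup P)).erase 1).card := by
    rw [Finset.card_erase_of_mem (Finset.mem_univ _), Finset.card_univ, hedef,
      Nat.card_eq_fintype_card]
  rw [this]
  refine Finset.card_bij (fun bc _ => bc.1) (fun bc hbc => ?_) (fun bc hbc bd hbd h => ?_)
    (fun b hb => ?_)
  · refine Finset.mem_erase.2 ⟨fun h1 => ?_, Finset.mem_univ _⟩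
    have h := (Finset.mem_filter.1 hbc).2
    rw [h1, Subgroup.coe_one, MulAut.one_apply, htt, one_mul] at h
    exact ht1 (((bc.2 : MulAut (P : Subgroup G)).map_eq_one_iff).1 h)
  · refine Prod.ext h ?_
    have h1 := (Finset.mem_filter.1 hbc).2
    have h2 := (Finset.mem_filter.1 hbd).2
    rw [h] at h1
    have h3 := mul_left_cancel (h1.trans h2.symm)
    by_contra hne
    refine ht1 (hT (bd.2⁻¹ * bc.2) (fun e => hne (inv_mul_eq_one.1 e).symm) t ?_)
    simp [MulAut.mul_apply, h3]
  · have hb1 : (b : MulAut (P : Subgroup G)) t ≠ t := fun h =>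
      ht1 (hT b (Finset.mem_erase.1 hb).1 t h)
    have hw : (t * (b : MulAut (P : Subgroup G)) t) * (t * (b : MulAut (P : Subgroup G)) t) = 1 := by
      rw [mul_mul_mul_comm, htt, ← map_mul, htt, map_one, one_mul]
    have hw1 : t * (b : MulAut (P : Subgroup G)) t ≠ 1 := fun h => hb1 (by
      rw [eq_inv_of_mul_eq_one_right h]; exact inv_eq_of_mul_eq_one_right htt)
    obtain ⟨c, hc⟩ := (isConj_iff_autGroup P t (t * (b : MulAut (P : Subgroup G)) t)).1
      (hone _ _ (by rw [Subgroup.orderOf_coe]; exact hot) (hoP _ hw hw1))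
    exact ⟨(b, c), Finset.mem_filter.2 ⟨Finset.mem_univ _, by
      show t * (b : MulAut (P : Subgroup G)) t * (c : MulAut (P : Subgroup G)) t = 1
      rw [hc, hw]⟩, rfl⟩

end Sums

/-- With one class of involutions and no proper normal subgroup containing `P`, the Sylow
subgroup is elementary. -/
theorem mul_self_of_one_class [IsMulCommutative (P : Subgroup G)] (hM : IsPModular 2 M)
    (hfix : ∀ y ∈ (P : Subgroup G), y ≠ 1 →
      Subgroup.centralizer ({y} : Set G) ⊓ Subgroup.normalizer ((P : Subgroup G) : Set G) ≤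
        Subgroup.centralizer ((P : Subgroup G) : Set G))
    (hone : ∀ s t : G, orderOf s = 2 → orderOf t = 2 → IsConj s t)
    (he2 : 2 ≤ Nat.card (autGroup P))
    (hgen : ∀ K : Subgroup G, K.Normal → (P : Subgroup G) ≤ K → K = ⊤) :
    ∀ x ∈ (P : Subgroup G), x * x = 1 := by
  classical
  haveI : Fact (Nat.Prime 2) := ⟨Nat.prime_two⟩
  haveI := Fintype.ofFinite G
  haveI : Fintype (autGroup P) := Fintype.ofFinite _
  haveI := finite_orb (autGroup P)
  haveI : Fintype (Orb (autGroup P)) := Fintype.ofFinite _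
  intro x₀ hx₀
  by_contra hnot
  set e := Nat.card (autGroup P) with hedef
  have hT := autGroup_free P hfix
  -- an element of order four and its square
  obtain ⟨k, hk⟩ := pElement_of_mem_sylow P hx₀
  obtain ⟨j, rfl⟩ : ∃ j, k = j + 2 := by
    refine ⟨k - 2, ?_⟩
    by_contra hk2
    have h4 : k ≤ 1 := by omega
    refine hnot ?_
    rw [← sq]
    refine orderOf_dvd_iff_pow_eq_one.1 ?_
    rw [hk]
    exact (pow_dvd_pow 2 h4).trans (by norm_num)
  set u : (P : Subgroup G) := ⟨x₀ ^ 2 ^ j, pow_mem hx₀ _⟩ with hudef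
  set t : (P : Subgroup G) := u * u with htdef
  have hou : orderOf u = 4 := by
    rw [← Subgroup.orderOf_coe, hudef]
    show orderOf (x₀ ^ 2 ^ j) = 4
    rw [orderOf_pow' _ (by positivity), hk, Nat.gcd_eq_right (pow_dvd_pow 2 (by omega)),
      Nat.pow_div (by omega) (by norm_num), show j + 2 - j = 2 by omega]
  have hot : orderOf t = 2 := by
    rw [htdef, ← sq, orderOf_pow' _ two_ne_zero, hou]
    norm_num
  have htt : t * t = 1 := by
    have h := pow_orderOf_eq_one t
    rwa [hot, sq] at h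
  have ht1 : t ≠ 1 := fun h => by simp [h] at hot
  have hu1 : u ≠ 1 := fun h => by simp [h] at hou
  have hΩ := card_involutions P hfix hone htt ht1
  -- every involution is a square, so `|P| ≥ (e+1)²`
  have hsq : (e + 1) * (e + 1) ≤ Nat.card (P : Subgroup G) := by
    let S : (P : Subgroup G) →* (P : Subgroup G) := powMonoidHom 2
    have hker : Nat.card S.ker = e + 1 := by
      rw [hedef, ← hΩ]
      exact Nat.card_congr (Equiv.subtypeEquivRight fun y => by
        rw [MonoidHom.mem_ker]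
        simp [S, sq])
    have himg : e + 1 ≤ Nat.card S.range := by
      rw [hedef, ← hΩ]
      refine Nat.card_le_card_of_injective (fun y => (⟨y.1, ?_⟩ : S.range))
        fun a b h => Subtype.ext (congrArg (Subtype.val (p := (· ∈ S.range))) h)
      by_cases hy : y.1 = 1
      · exact ⟨1, by rw [map_one, hy]⟩
      · have hoy : orderOf (y.1 : G) = 2 := by
          rw [Subgroup.orderOf_coe]
          exact orderOf_eq_prime (by rw [sq]; exact y.2) hy
        obtain ⟨c, hc⟩ := (isConj_iff_autGroup P t y.1).1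
          (hone _ _ (by rw [Subgroup.orderOf_coe]; exact hot) hoy)
        exact ⟨(c : MulAut (P : Subgroup G)) u, by
          rw [← hc, htdef, map_mul]; simp [S, sq]⟩
    rw [← S.ker.index_mul_card, Subgroup.index_ker, hker]
    exact Nat.mul_le_mul_right _ himg
  have hlt : e + 1 < Nat.card (P : Subgroup G) := by nlinarith
  obtain ⟨E⟩ := exists_exceptional P hM hfix hlt
  set a := Nat.card (P : Subgroup G) with hadef
  set N₀ := Nat.card (Orb (autGroup P)) with hN₀
  have hN : N₀ * e + 1 = a := card_orb_mul (autGroup P) hT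
  have hN₀e : e + 2 ≤ N₀ := by
    by_contra hc
    have : N₀ * e ≤ (e + 1) * e := Nat.mul_le_mul_right _ (by omega)
    nlinarith
  set B := Cfsg.principalBlock M G with hB
  set X : Finset (IrrCharacter G) := (Set.toFinite (B \ Set.range E.μ)).toFinset with hX
  have hXmem : ∀ χ, χ ∈ X ↔ χ ∈ B ∧ χ ∉ Set.range E.μ := fun χ => by simp [hX]
  have h1X : (CfsgLib.Char.principalIrr : IrrCharacter G) ∈ X :=
    (hXmem _).2 ⟨principal_mem hM, fun ⟨q, hq⟩ => E.μ_ne_principal q hq⟩
  have hb1 := E.a_principal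
  have hnorm := E.norm_eq
  rw [finsum_mem_eq_finite_toFinset_sum _ (Set.toFinite _), ← hX, ← hN₀, ← hedef] at hnorm
  have hXsum1 : (1 : ℤ) ≤ ∑ χ ∈ X, E.a χ ^ 2 := by
    have h := Finset.single_le_sum (f := fun χ => E.a χ ^ 2) (fun χ _ => sq_nonneg _) h1X
    simpa [hb1] using h
  have hεsq : E.ε ^ 2 = 1 := by rcases E.hε with h | h <;> rw [h] <;> norm_num
  have hd : E.d = 0 := by
    by_contra hd
    have h1 : (1 : ℤ) ≤ E.d ^ 2 := by have := sq_pos_of_ne_zero hd; omega
    have hN₀' : (e : ℤ) + 2 ≤ (N₀ : ℤ) := by exact_mod_cast hN₀e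
    have h2 : (N₀ : ℤ) - 1 ≤ ((N₀ : ℤ) - 1) * E.d ^ 2 := le_mul_of_one_le_right (by omega) h1
    have h3 := sq_nonneg (E.d - E.ε)
    omega
  have hbsq : ∑ χ ∈ X, E.a χ ^ 2 = (e : ℤ) := by
    rw [hd] at hnorm
    rw [zero_sub, neg_sq, hεsq] at hnorm
    simp only [ne_eq, OfNat.ofNat_ne_zero, not_false_eq_true, zero_pow, mul_zero, add_zero] at hnorm
    linarith
  -- degrees
  set m : IrrCharacter G → ℕ := fun χ => CfsgLib.Char.degree (χ : G → ℂ) with hm
  have hmC : ∀ χ : IrrCharacter G, (χ : G → ℂ) 1 = (m χ : ℂ) := fun χ =>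
    (CfsgLib.Char.IsCharacter.degree_cast (CfsgLib.Char.IsIrrCharacter.isCharacter χ.2)).symm
  have hmpos : ∀ χ : IrrCharacter G, (0 : ℝ) < m χ := fun χ =>
    Nat.cast_pos.2 (CfsgLib.Char.IsIrrCharacter.degree_pos χ.2)
  obtain ⟨q₀⟩ : Nonempty (Orb (autGroup P)) := by
    rw [← not_isEmpty_iff]
    intro hempty
    have : N₀ = 0 := by rw [hN₀]; exact Nat.card_of_isEmpty
    omega
  set D := m (E.μ q₀) with hDdef
  have hDq : ∀ q, (E.μ q : G → ℂ) 1 = (D : ℂ) := fun q => by
    rw [E.regular_eq q q₀ 1 (by simp), hmC]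
  have hDpos : (0 : ℝ) < D := hmpos _
  have hval : ∀ χ ∈ X, ∀ y : (P : Subgroup G), y ≠ 1 → (χ : G → ℂ) y = (E.a χ : ℂ) := fun χ hχ =>
    (E.apply_nonexc χ ⟨((hXmem χ).1 hχ).1, ((hXmem χ).1 hχ).2⟩).2
  have hexc : ∀ q, ∀ y : (P : Subgroup G), y ≠ 1 →
      (E.μ q : G → ℂ) y = (E.ε : ℂ) * orbSum (autGroup P) (rep (autGroup P) q) y := fun q y hy => by
    rw [E.apply_exc q y hy, hd, Int.cast_zero, zero_add]
  have hL : ∑ χ ∈ X, (E.a χ : ℝ) * (m χ : ℝ) = (E.ε : ℝ) * (D : ℝ) := by
    have h := E.relation q₀ 1 (by simp)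
    rw [finsum_mem_eq_finite_toFinset_sum _ (Set.toFinite _), ← hX, hd, hDq] at h
    simp only [hmC, Int.cast_zero, mul_zero, zero_sub] at h
    have h' : ((∑ χ ∈ X, (E.a χ : ℝ) * (m χ : ℝ) : ℝ) : ℂ) = ((E.ε : ℝ) * (D : ℝ) : ℝ) := by
      push_cast
      linear_combination h
    exact_mod_cast h'
  -- the weighted sums
  have hsplit : ∀ f : IrrCharacter G → ℂ,
      ∑ᶠ χ ∈ B, f χ = ∑ χ ∈ X, f χ + ∑ q, f (E.μ q) := by
    intro f
    have hU : (Set.toFinite B).toFinset = X ∪ Finset.univ.image E.μ := by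
      ext χ
      simp only [Set.Finite.mem_toFinset, Finset.mem_union, hXmem, Finset.mem_image,
        Finset.mem_univ, true_and, Set.mem_range]
      refine ⟨fun h => ?_, ?_⟩
      · by_cases h2 : ∃ q, E.μ q = χ
        · exact Or.inr h2
        · exact Or.inl ⟨h, h2⟩
      · rintro (h | ⟨q, rfl⟩)
        · exact h.1
        · exact E.μ_mem q
    rw [finsum_mem_eq_finite_toFinset_sum _ (Set.toFinite _), hU, Finset.sum_union,
      Finset.sum_image fun q _ q' _ h => E.μ_injective h]
    rw [Finset.disjoint_left]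
    intro χ h1 h2
    obtain ⟨q, -, rfl⟩ := Finset.mem_image.1 h2
    exact ((hXmem _).1 h1).2 ⟨q, rfl⟩
  set C₃ : ℝ := ∑ χ ∈ X, (E.a χ : ℝ) ^ 3 / m χ with hC₃
  have hεC : (E.ε : ℂ) ^ 3 = E.ε := by rcases E.hε with h | h <;> rw [h] <;> norm_num
  have hweight : ∀ y : (P : Subgroup G), y ≠ 1 →
      ∑ᶠ χ ∈ B, (χ : G → ℂ) y * ((χ : G → ℂ) t * (χ : G → ℂ) t / (χ : G → ℂ) 1) =
        (C₃ : ℂ) + (E.ε : ℂ) / (D : ℂ) *
          ((Nat.card (P : Subgroup G) : ℂ) * ((Finset.univ.filter fun bc : autGroup P × autGroup P =>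
            y * (bc.1 : MulAut (P : Subgroup G)) t * (bc.2 : MulAut (P : Subgroup G)) t = 1).card : ℂ)
              - (e : ℂ) ^ 2) := by
    intro y hy
    rw [hsplit, hedef, ← sum_orbSum_triple (autGroup P) hT y t t, Finset.mul_sum, hC₃,
      Complex.ofReal_sum]
    congr 1
    · refine Finset.sum_congr rfl fun χ hχ => ?_
      rw [hval χ hχ y hy, hval χ hχ t ht1, hmC]
      push_cast
      ring
    · refine Finset.sum_congr rfl fun q _ => ?_
      rw [hexc q y hy, hexc q t ht1, hDq]
      rw [show (E.ε : ℂ) / (D : ℂ) = (E.ε : ℂ) ^ 3 / (D : ℂ) by rw [hεC]]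
      ring
  -- at the element of order four
  have hu0 : C₃ + (E.ε : ℝ) / D * (-(e : ℝ) ^ 2) = 0 := by
    have hzero := sum_at_four P hM hfix (t := t) (u := u) htdef hot
    have hempty : (Finset.univ.filter fun bc : autGroup P × autGroup P =>
        u * (bc.1 : MulAut (P : Subgroup G)) t * (bc.2 : MulAut (P : Subgroup G)) t = 1) = ∅ := by
      refine Finset.filter_eq_empty_iff.2 fun bc _ h => ?_
      have hu' : u = ((bc.1 : MulAut (P : Subgroup G)) t * (bc.2 : MulAut (P : Subgroup G)) t)⁻¹ :=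
        eq_inv_of_mul_eq_one_left (by rw [← mul_assoc]; exact h)
      refine ht1 ?_
      rw [htdef, hu', ← mul_inv_rev, inv_eq_one, mul_mul_mul_comm, ← map_mul, ← map_mul, htt,
        map_one, map_one, one_mul]
    have h := (hweight u hu1).symm.trans hzero
    rw [hempty, Finset.card_empty, Nat.cast_zero, mul_zero, zero_sub] at h
    exact_mod_cast h
  -- at the involution
  have htpos : 0 < C₃ + (E.ε : ℝ) / D * ((a : ℝ) * ((e : ℝ) - 1) - (e : ℝ) ^ 2) := by
    obtain ⟨v, hv1, hvt⟩ : ∃ v : {x : (P : Subgroup G) // x * x = 1}, v.1 ≠ 1 ∧ v.1 ≠ t := by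
      by_contra hc
      push Not at hc
      have hle : Nat.card {x : (P : Subgroup G) // x * x = 1} ≤ Nat.card (Fin 2) := by
        refine Nat.card_le_card_of_injective (fun v => if v.1 = 1 then (0 : Fin 2) else 1)
          fun v w h => Subtype.ext ?_
        by_cases h1 : v.1 = 1 <;> by_cases h2 : w.1 = 1
        · rw [h1, h2]
        · simp [h1, h2] at h
        · simp [h1, h2] at h
        · rw [hc v h1, hc w h2]
      rw [Nat.card_fin] at hle
      omega
    have hoP : ∀ y : (P : Subgroup G), y * y = 1 → y ≠ 1 → orderOf (y : G) = 2 := fun y h1 h2 => by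
      rw [Subgroup.orderOf_coe]
      exact orderOf_eq_prime (by rw [sq]; exact h1) h2
    have hot' : orderOf (t : G) = 2 := hoP t htt ht1
    have hw : (v.1 * t) * (v.1 * t) = 1 := by
      rw [mul_mul_mul_comm, v.2, htt, one_mul]
    have hw1 : v.1 * t ≠ 1 := fun h => hvt (by
      rw [eq_inv_of_mul_eq_one_left h]; exact inv_eq_of_mul_eq_one_right htt)
    obtain ⟨r, hr, hsum⟩ := sum_at_two P hM hfix (v := v.1) hot v.2
      (isConj_iff.1 (hone _ _ hot' (hoP v.1 v.2 hv1)))
      (isConj_iff.1 (hone _ _ hot' (hoP _ hw hw1)))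
    have h := (hweight t ht1).symm.trans hsum
    rw [card_triples P hfix htt ht1 hot hone, ← hedef, Nat.cast_sub (by omega), Nat.cast_one] at h
    have h' : C₃ + (E.ε : ℝ) / D * ((a : ℝ) * ((e : ℝ) - 1) - (e : ℝ) ^ 2) = r := by
      apply Complex.ofReal_injective
      push_cast
      exact h
    linarith
  have he2' : (2 : ℝ) ≤ e := by exact_mod_cast he2
  have ha' : ((e : ℝ) + 1) ^ 2 ≤ a := by rw [sq]; exact_mod_cast hsq
  have hε : E.ε = 1 := by
    rcases E.hε with h | h
    · exact h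
    · exfalso
      rw [h] at hu0 htpos
      push_cast at hu0 htpos
      have h3 : (0 : ℝ) ≤ (a : ℝ) * ((e : ℝ) - 1) / D :=
        div_nonneg (mul_nonneg (Nat.cast_nonneg _) (by linarith)) hDpos.le
      rw [mul_sub] at htpos
      rw [mul_neg] at hu0
      have : (-1 : ℝ) / D * ((a : ℝ) * ((e : ℝ) - 1)) = -((a : ℝ) * ((e : ℝ) - 1) / D) := by ring
      linarith
  rw [hε] at hu0 hL
  push_cast at hu0 hL
  rw [one_mul] at hL
  have hM₃ : C₃ = (e : ℝ) ^ 2 / D := by
    have : (1 : ℝ) / D * (-(e : ℝ) ^ 2) = -((e : ℝ) ^ 2 / D) := by ring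
    linarith
  have hsqR : ∑ χ ∈ X, (E.a χ : ℝ) ^ 2 = e := by exact_mod_cast hbsq
  have hm1 : m (CfsgLib.Char.principalIrr : IrrCharacter G) = 1 := by
    have h := hmC (CfsgLib.Char.principalIrr : IrrCharacter G)
    rw [CfsgLib.Char.principalIrr_apply] at h
    exact_mod_cast h.symm
  by_cases hneg : ∃ χ ∈ X, E.a χ < 0
  · obtain ⟨χ₀, hχ₀, hneg₀⟩ := hneg
    -- multiplicities of the trivial character of `P`
    have hmult : ∀ (χ : IrrCharacter G) (r : ℤ),
        ((∑ y : (P : Subgroup G), (χ : G → ℂ) y) = (r : ℂ)) → (a : ℤ) ∣ r ∧ 0 ≤ r := by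
      intro χ r hr
      obtain ⟨c, hc⟩ := exists_nat_sum_eq χ (P : Subgroup G)
      rw [hr, ← hadef] at hc
      have hc' : r = (a : ℤ) * c := by exact_mod_cast hc
      exact ⟨⟨c, hc'⟩, hc' ▸ by positivity⟩
    have hrest : ∀ (χ : IrrCharacter G),
        ∑ y : (P : Subgroup G), (χ : G → ℂ) y =
          (m χ : ℂ) + ∑ y ∈ Finset.univ.erase (1 : (P : Subgroup G)), (χ : G → ℂ) y := fun χ => by
      rw [← hmC, ← Finset.add_sum_erase _ _ (Finset.mem_univ (1 : (P : Subgroup G))),
        OneMemClass.coe_one]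
    have hlowdeg : ∀ χ ∈ X, 0 ≤ (m χ : ℤ) + ((a : ℤ) - 1) * E.a χ := by
      intro χ hχ
      refine (hmult χ _ ?_).2
      rw [hrest, Finset.sum_congr rfl fun y hy => hval χ hχ y (Finset.ne_of_mem_erase hy),
        Finset.sum_const, Finset.card_erase_of_mem (Finset.mem_univ _), Finset.card_univ,
        ← Nat.card_eq_fintype_card, ← hadef, nsmul_eq_mul, Nat.cast_sub (by omega)]
      push_cast
      ring
    have hDmod : (a : ℤ) ∣ (D : ℤ) - (e : ℤ) := by
      refine (hmult (E.μ q₀) _ ?_).1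
      rw [hrest, Finset.sum_congr rfl fun y hy => hexc q₀ y (Finset.ne_of_mem_erase hy), hε,
        Int.cast_one]
      simp only [one_mul, ← hDdef]
      have h0 : ∑ y : (P : Subgroup G), orbSum (autGroup P) (rep (autGroup P) q₀) y = 0 := by
        simp only [orbSum]
        rw [Finset.sum_comm]
        refine Finset.sum_eq_zero fun c _ => ?_
        exact (sum_elem (act (rep (autGroup P) q₀) (c : MulAut (P : Subgroup G)))).trans
          (if_neg (act_ne_one (rep_ne_one (autGroup P) q₀) _))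
      rw [← Finset.add_sum_erase _ _ (Finset.mem_univ (1 : (P : Subgroup G))), orbSum_apply_one] at h0
      push_cast
      rw [hedef]
      linear_combination h0
    have hterm : ∀ χ ∈ X, -((E.a χ : ℝ) ^ 2) / ((a : ℝ) - 1) ≤ (E.a χ : ℝ) ^ 3 / m χ := by
      intro χ hχ
      have ha1 : (0 : ℝ) < (a : ℝ) - 1 := by nlinarith
      have h : (0 : ℝ) ≤ (m χ : ℝ) + ((a : ℝ) - 1) * (E.a χ : ℝ) := by exact_mod_cast hlowdeg χ hχ
      rw [div_le_div_iff₀ ha1 (hmpos χ)]
      nlinarith [mul_nonneg (sq_nonneg (E.a χ : ℝ)) h]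
    obtain ⟨z, hz⟩ := hDmod
    have hz' : (D : ℝ) = e + a * z := by
      have : (D : ℤ) = e + a * z := by linarith
      exact_mod_cast this
    have hD0 : (0 : ℤ) < D := by exact_mod_cast hDpos
    rcases lt_trichotomy z 0 with hz0 | rfl | hz0
    · have h1 : (a : ℤ) * z ≤ (a : ℤ) * (-1) :=
        mul_le_mul_of_nonneg_left (by omega) (Int.natCast_nonneg _)
      omega
    · -- `D = e`
      have hMe : C₃ = e := by
        rw [hM₃, hz']
        push_cast
        field_simp
        ring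
      have hle : ∀ χ ∈ X.erase χ₀, (E.a χ : ℝ) ^ 3 / m χ ≤ (E.a χ : ℝ) ^ 2 := by
        intro χ hχ
        have hbd : (E.a χ : ℝ) ≤ m χ := by
          have h := CfsgLib.Char.IsCharacter.norm_apply_le
            (CfsgLib.Char.IsIrrCharacter.isCharacter χ.2) (t : G)
          rw [hval χ (Finset.mem_of_mem_erase hχ) t ht1, Complex.norm_intCast] at h
          exact (le_abs_self _).trans h
        rw [div_le_iff₀ (hmpos χ)]
        nlinarith [mul_le_mul_of_nonneg_left hbd (sq_nonneg (E.a χ : ℝ))]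
      have h1 := Finset.sum_le_sum hle
      rw [hC₃, ← Finset.add_sum_erase _ _ hχ₀] at hMe
      rw [← Finset.add_sum_erase _ _ hχ₀] at hsqR
      have h2 : (E.a χ₀ : ℝ) ^ 3 / m χ₀ < 0 := by
        refine div_neg_of_neg_of_pos ?_ (hmpos χ₀)
        exact (Odd.pow_neg_iff (by decide)).2 (by exact_mod_cast hneg₀)
      nlinarith [sq_nonneg (E.a χ₀ : ℝ)]
    · refine numeric_contradiction (a := a) (e := e) (D := D) (M := C₃) he2' ha' ?_ hM₃ ?_
      · rw [hz']
        have : (1 : ℝ) ≤ z := by exact_mod_cast hz0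
        nlinarith
      · rw [hC₃, ← Finset.add_sum_erase _ _ h1X, hb1, hm1]
        rw [← Finset.add_sum_erase _ _ h1X, hb1] at hsqR
        push_cast at hsqR ⊢
        have hrest' := Finset.sum_le_sum (fun χ (hχ : χ ∈ X.erase CfsgLib.Char.principalIrr) =>
          hterm χ (Finset.mem_of_mem_erase hχ))
        rw [← Finset.sum_div, Finset.sum_neg_distrib,
          show ∑ χ ∈ X.erase CfsgLib.Char.principalIrr, (E.a χ : ℝ) ^ 2 = (e : ℝ) - 1 by linarith,
          neg_div] at hrest'
        norm_num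
        linarith
  · push Not at hneg
    -- all values positive: equality in the Cauchy-Schwarz inequality
    set l : ℝ := (D : ℝ) / e with hl
    have hnn : ∀ χ ∈ X, 0 ≤ (E.a χ : ℝ) / m χ * (l * E.a χ - m χ) ^ 2 := fun χ hχ =>
      mul_nonneg (div_nonneg (by exact_mod_cast hneg χ hχ) (hmpos χ).le) (sq_nonneg _)
    have hsum0 : ∑ χ ∈ X, (E.a χ : ℝ) / m χ * (l * E.a χ - m χ) ^ 2 = 0 := by
      have hexp : ∀ χ ∈ X, (E.a χ : ℝ) / m χ * (l * E.a χ - m χ) ^ 2 =
          l ^ 2 * ((E.a χ : ℝ) ^ 3 / m χ) - 2 * l * (E.a χ : ℝ) ^ 2 + (E.a χ : ℝ) * m χ := by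
        intro χ _
        have := (hmpos χ).ne'
        field_simp
        ring
      rw [Finset.sum_congr rfl hexp, Finset.sum_add_distrib, Finset.sum_sub_distrib,
        ← Finset.mul_sum, ← Finset.mul_sum, ← hC₃, hsqR, hL, hM₃, hl]
      field_simp
      ring
    have hall : ∀ χ ∈ X, l * (E.a χ : ℝ) = m χ := by
      intro χ hχ
      have h := (Finset.sum_eq_zero_iff_of_nonneg hnn).1 hsum0 χ hχ
      have hne := (E.apply_nonexc χ ⟨((hXmem χ).1 hχ).1, ((hXmem χ).1 hχ).2⟩).1
      rcases mul_eq_zero.1 h with h' | h'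
      · rcases div_eq_zero_iff.1 h' with h'' | h''
        · exact absurd (by exact_mod_cast h'') hne
        · exact absurd h'' (hmpos χ).ne'
      · exact sub_eq_zero.1 (pow_eq_zero_iff two_ne_zero |>.1 h')
    have hl1 : l = 1 := by
      have h := hall _ h1X
      rw [hb1, hm1] at h
      simpa using h
    obtain ⟨χ₁, hχ₁, hne1⟩ : ∃ χ ∈ X, χ ≠ CfsgLib.Char.principalIrr := by
      by_contra hc
      push Not at hc
      have : X = {CfsgLib.Char.principalIrr} :=
        Finset.eq_singleton_iff_unique_mem.2 ⟨h1X, hc⟩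
      rw [this, Finset.sum_singleton, hb1] at hbsq
      omega
    refine hne1 (eq_principal_of_ker χ₁ (P : Subgroup G) (fun y hy => ?_) hgen)
    by_cases hy1 : y = 1
    · rw [hy1]
    · rw [hval χ₁ hχ₁ ⟨y, hy⟩ (fun h => hy1 (congrArg Subtype.val h)), hmC]
      have h := hall χ₁ hχ₁
      rw [hl1, one_mul] at h
      exact_mod_cast h

end CfsgLib.AbelianTwo
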