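import Cfsg.Agent.Lib.AbelianTwoBlock.Functor
import Cfsg.Agent.Lib.AbelianTwoBlock.NonElementary

/-!
# The Sylow 2-subgroup is elementary abelian

In a non-solvable group with abelian Sylow 2-subgroup `P` and free inertial action of prime order
`e`, all involutions are conjugate, `P` is elementary and `|P| = e + 1`.
-/

set_option autoImplicit false
set_option linter.style.haveILetI false

open Cfsg
open scoped IsMulCommutative

namespace CfsgLib.AbelianTwo

open Subgroup CfsgLib.Blk83

universe u

variable {G : Type u} [Group G] [Finite G]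

/-- The inertial index is odd. -/
theorem odd_inertia (P : Sylow 2 G) (hab : IsMulCommutative (P : Subgroup G)) :
    Odd ((centralizer ((P : Subgroup G) : Set G)).relIndex
      (normalizer ((P : Subgroup G) : Set G))) := by
  haveI := hab
  have hPC : (P : Subgroup G) ≤ centralizer ((P : Subgroup G) : Set G) := fun x hx =>
    mem_centralizer_iff.2 fun y hy => commute_of_mem_sylow P hy hx
  refine Nat.not_even_iff_odd.1 fun hev => P.not_dvd_index ?_
  refine hev.two_dvd.trans (dvd_trans ?_ (relIndex_dvd_index_of_le le_normalizer))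
  exact Dvd.intro_left _ (relIndex_mul_relIndex _ _ _ hPC (centralizer_le_normalizer _))

/-- A non-solvable group has even order, so its Sylow 2-subgroup contains an involution. -/
theorem exists_involution_mem (P : Sylow 2 G) (hns : ¬ Group.IsSolvable G) :
    ∃ t : (P : Subgroup G), t * t = 1 ∧ t ≠ 1 := by
  haveI : Fact (Nat.Prime 2) := ⟨Nat.prime_two⟩
  have h2 : 2 ∣ Nat.card (P : Subgroup G) := by
    refine P.dvd_card_of_dvd_card ?_
    refine even_iff_two_dvd.1 (Nat.not_odd_iff_even.1 fun h => hns ?_)
    exact CfsgLib.FT.solvable_of_odd h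
  obtain ⟨t, ht⟩ := exists_prime_orderOf_dvd_card' 2 h2
  refine ⟨t, ?_, fun h => by simp [h] at ht⟩
  have h := pow_orderOf_eq_one t
  rwa [ht, sq] at h

/-- All involutions are conjugate. -/
theorem one_class (P : Sylow 2 G) (hab : IsMulCommutative (P : Subgroup G))
    (hfix : ∀ y ∈ (P : Subgroup G), y ≠ 1 →
      centralizer ({y} : Set G) ⊓ normalizer ((P : Subgroup G) : Set G) ≤
        centralizer ((P : Subgroup G) : Set G))
    (he : ((centralizer ((P : Subgroup G) : Set G)).relIndex
      (normalizer ((P : Subgroup G) : Set G))).Prime)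
    (hns : ¬ Group.IsSolvable G) :
    ∀ s t : G, orderOf s = 2 → orderOf t = 2 → IsConj s t := by
  classical
  haveI : Fact (Nat.Prime 2) := ⟨Nat.prime_two⟩
  haveI := hab
  by_cases h8 : 8 ≤ Nat.card {x : (P : Subgroup G) // x * x = 1}
  · exact (exists_localData P hab hfix hns h8).2
  obtain ⟨t₀, ht₀, ht₀1⟩ := exists_involution_mem P hns
  -- `|Ω₁(P)|` is a power of two
  obtain ⟨k, hk⟩ : ∃ k, Nat.card {x : (P : Subgroup G) // x * x = 1} = 2 ^ k := by
    obtain ⟨k, hk⟩ := IsPGroup.iff_card.1
      (P.isPGroup'.to_subgroup (powMonoidHom 2 : (P : Subgroup G) →* (P : Subgroup G)).ker)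
    refine ⟨k, hk ▸ Nat.card_congr (Equiv.subtypeEquivRight fun y => ?_)⟩
    simp [MonoidHom.mem_ker, sq]
  let F : Option (autGroup P) → {x : (P : Subgroup G) // x * x = 1} := fun o =>
    o.elim ⟨1, one_mul 1⟩ fun a =>
      ⟨(a : MulAut (P : Subgroup G)) t₀, by rw [← map_mul, ht₀, map_one]⟩
  have hinj : Function.Injective F := by
    intro o o' h
    have h' := congrArg Subtype.val h
    rcases o with _ | a <;> rcases o' with _ | b
    · rfl
    · exact absurd (((b : MulAut (P : Subgroup G)).map_eq_one_iff).1 h'.symm) ht₀1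
    · exact absurd (((a : MulAut (P : Subgroup G)).map_eq_one_iff).1 h') ht₀1
    · congr 1
      by_contra hne
      refine ht₀1 (autGroup_free P hfix (b⁻¹ * a) (fun e => hne (inv_mul_eq_one.1 e).symm) t₀ ?_)
      simp only [F, Option.elim] at h'
      simp [MulAut.mul_apply, h']
  have hcard : Nat.card (Option (autGroup P)) =
      Nat.card {x : (P : Subgroup G) // x * x = 1} := by
    have hle := Nat.card_le_card_of_injective F hinj
    rw [Finite.card_option, card_autGroup] at hle ⊢
    have h3 : 3 ≤ (centralizer ((P : Subgroup G) : Set G)).relIndex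
        (normalizer ((P : Subgroup G) : Set G)) := by
      obtain ⟨j, hj⟩ := odd_inertia P hab
      have := he.two_le
      omega
    rw [hk] at hle h8 ⊢
    have hk2 : k ≤ 2 := by
      by_contra hk3
      exact h8 (le_trans (by norm_num) (Nat.pow_le_pow_right (by norm_num : 1 ≤ 2) (by omega : 3 ≤ k)))
    interval_cases k <;> omega
  have hsurj : Function.Surjective F := (hinj.bijective_of_nat_card_le hcard.ge).2
  have hto : ∀ s : G, orderOf s = 2 → IsConj (t₀ : G) s := by
    intro s hs
    have hz : IsPGroup 2 (zpowers s) :=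
      IsPGroup.of_card (n := 1) (by rw [Nat.card_zpowers, hs, pow_one])
    obtain ⟨S, hS⟩ := hz.exists_le_sylow
    obtain ⟨g, hg⟩ := MulAction.exists_smul_eq G S P
    have hmem : g * s * g⁻¹ ∈ (P : Subgroup G) := by
      rw [← hg]
      exact smul_mem_pointwise_smul _ (MulAut.conj g) _ (hS (mem_zpowers _))
    have hord : orderOf (g * s * g⁻¹) = 2 := by rw [Invol.orderOf_conj, hs]
    obtain ⟨o, ho⟩ := hsurj ⟨⟨g * s * g⁻¹, hmem⟩,
      Subtype.ext (Invol.mul_self_eq_one hord)⟩
    rcases o with _ | a
    · exact absurd (congrArg (fun x => ((x.1 : (P : Subgroup G)) : G)) ho).symm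
        (Invol.ne_one_of_invol hord)
    · refine ((isConj_iff_autGroup P t₀ ⟨_, hmem⟩).2 ⟨a, congrArg Subtype.val ho⟩).trans ?_
      exact (isConj_iff.2 ⟨g, rfl⟩ : IsConj s (g * s * g⁻¹)).symm
  exact fun s t hs ht => (hto s hs).symm.trans (hto t ht)

/-- Induction on the order: the Sylow subgroup is elementary. -/
theorem mul_self_of_not_solvable_aux {M : Ideal Cfsg.AlgInt} (hM : IsPModular 2 M) (n : ℕ) :
    ∀ {G : Type u} [Group G] [Finite G], Nat.card G = n → ∀ (P : Sylow 2 G),
      IsMulCommutative (P : Subgroup G) →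
      (∀ y ∈ (P : Subgroup G), y ≠ 1 →
        centralizer ({y} : Set G) ⊓ normalizer ((P : Subgroup G) : Set G) ≤
          centralizer ((P : Subgroup G) : Set G)) →
      ((centralizer ((P : Subgroup G) : Set G)).relIndex
        (normalizer ((P : Subgroup G) : Set G))).Prime →
      ¬ Group.IsSolvable G → ∀ x ∈ (P : Subgroup G), x * x = 1 := by
  induction n using Nat.strong_induction_on with
  | _ n ih =>
  intro G _ _ hn P hab hfix he hns
  classical
  haveI : Fact (Nat.Prime 2) := ⟨Nat.prime_two⟩
  haveI := hab
  by_cases hgen : ∀ K : Subgroup G, K.Normal → (P : Subgroup G) ≤ K → K = ⊤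
  · exact mul_self_of_one_class P hM hfix (one_class P hab hfix he hns)
      (by rw [card_autGroup]; exact he.two_le) hgen
  push Not at hgen
  obtain ⟨K, hKn, hPK, hKne⟩ := hgen
  haveI := hKn
  have hKns : ¬ Group.IsSolvable K := by
    intro hK
    refine hns (CfsgLib.Solvable.isSolvable_of_normal K hK (CfsgLib.FT.solvable_of_odd ?_))
    refine Nat.not_even_iff_odd.1 fun hev => P.not_dvd_index ?_
    exact hev.two_dvd.trans (by rw [← index_eq_card]; exact index_dvd_of_le hPK)
  set Q : Sylow 2 K := P.subtype hPK with hQ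
  have hQab : IsMulCommutative (Q : Subgroup K) :=
    ⟨⟨fun a b => Subtype.ext (Subtype.ext (commute_of_mem_sylow P a.2 b.2))⟩⟩
  have hN : normalizer ((Q : Subgroup K) : Set K) =
      (normalizer ((P : Subgroup G) : Set G)).subgroupOf K := by
    ext c
    constructor
    · intro hc
      refine mem_normalizer_fintype fun x hx => ?_
      exact (mem_normalizer_iff.mp hc ⟨x, hPK hx⟩).mp hx
    · exact fun hc => mem_normalizer_iff.mpr fun h => mem_normalizer_iff.mp hc h
  have hC : centralizer ((Q : Subgroup K) : Set K) =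
      (centralizer ((P : Subgroup G) : Set G)).subgroupOf K := by
    ext c
    constructor
    · exact fun hc => mem_centralizer_iff.mpr fun d hd =>
        congrArg Subtype.val (mem_centralizer_iff.mp hc ⟨d, hPK hd⟩ hd)
    · exact fun hc => mem_centralizer_iff.mpr fun d hd =>
        Subtype.ext (mem_centralizer_iff.mp hc d hd)
  have hQfix : ∀ y ∈ (Q : Subgroup K), y ≠ 1 →
      centralizer ({y} : Set K) ⊓ normalizer ((Q : Subgroup K) : Set K) ≤
        centralizer ((Q : Subgroup K) : Set K) := by
    rintro y hy hy1 c ⟨hcy, hcN⟩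
    rw [hC]
    refine hfix y hy (fun h => hy1 (Subtype.ext h)) ⟨?_, ?_⟩
    · exact mem_centralizer_singleton_iff.2
        (congrArg Subtype.val (mem_centralizer_singleton_iff.1 hcy))
    · exact hN.le hcN
  have hQe : (centralizer ((Q : Subgroup K) : Set K)).relIndex
      (normalizer ((Q : Subgroup K) : Set K)) =
      (centralizer ((P : Subgroup G) : Set G)).relIndex
        (normalizer ((P : Subgroup G) : Set G)) := by
    set C := centralizer ((P : Subgroup G) : Set G)
    set N := normalizer ((P : Subgroup G) : Set G)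
    have hdvd : C.relIndex (N ⊓ K) ∣ C.relIndex N := by
      haveI : (C.subgroupOf N).Normal := by
        rw [← (P : Subgroup G).normalizerMonoidHom_ker]; exact MonoidHom.normal_ker _
      have h := (C.subgroupOf N).relIndex_dvd_index_of_normal ((N ⊓ K).subgroupOf N)
      rwa [relIndex_subgroupOf inf_le_left] at h
    have heq : (C.subgroupOf K).relIndex (N.subgroupOf K) = C.relIndex (N ⊓ K) := by
      rw [Subgroup.subgroupOf, relIndex_comap, subgroupOf_map_subtype]
    rw [hC, hN, heq]
    refine ((Nat.dvd_prime he).1 hdvd).resolve_left fun h1 => hKns ?_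
    have hle : normalizer ((Q : Subgroup K) : Set K) ≤ centralizer ((Q : Subgroup K) : Set K) := by
      rw [← relIndex_eq_one, hC, hN, heq, h1]
    haveI := hQab
    haveI : Group.IsSolvable (MonoidHom.transferSylow Q hle).ker :=
      CfsgLib.FT.solvable_of_odd (Nat.not_even_iff_odd.1 fun hev =>
        MonoidHom.not_dvd_card_ker_transferSylow Q hle hev.two_dvd)
    haveI : Group.IsSolvable (Q : Subgroup K) := Group.isSolvable_of_comm mul_comm'
    exact Group.isSolvable_of_ker_le_range (MonoidHom.transferSylow Q hle).ker.subtype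
      (MonoidHom.transferSylow Q hle) (by rw [Subgroup.range_subtype])
  have hlt : Nat.card K < n := by
    rw [← hn]
    refine lt_of_le_of_ne (Subgroup.card_le_card_group K) fun h => hKne ?_
    exact (card_eq_iff_eq_top K).1 h
  intro x hx
  exact congrArg Subtype.val (ih _ hlt rfl Q hQab hQfix (hQe ▸ he) hKns ⟨x, hPK hx⟩ hx)

/-- The structure of the Sylow 2-subgroup in the non-solvable case. -/
theorem elementary_of_not_solvable {M : Ideal Cfsg.AlgInt} (hM : IsPModular 2 M) (P : Sylow 2 G)
    (hab : IsMulCommutative (P : Subgroup G))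
    (hfix : ∀ y ∈ (P : Subgroup G), y ≠ 1 →
      centralizer ({y} : Set G) ⊓ normalizer ((P : Subgroup G) : Set G) ≤
        centralizer ((P : Subgroup G) : Set G))
    (he : ((centralizer ((P : Subgroup G) : Set G)).relIndex
      (normalizer ((P : Subgroup G) : Set G))).Prime)
    (hns : ¬ Group.IsSolvable G) :
    (∀ x ∈ (P : Subgroup G), x * x = 1) ∧
      Nat.card (P : Subgroup G) =
        (centralizer ((P : Subgroup G) : Set G)).relIndex
          (normalizer ((P : Subgroup G) : Set G)) + 1 ∧
      (∀ s t : G, orderOf s = 2 → orderOf t = 2 → IsConj s t) := by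
  haveI : Fact (Nat.Prime 2) := ⟨Nat.prime_two⟩
  haveI := hab
  have h1 := mul_self_of_not_solvable_aux hM _ rfl P hab hfix he hns
  have hone := one_class P hab hfix he hns
  obtain ⟨t, ht, ht1⟩ := exists_involution_mem P hns
  refine ⟨h1, ?_, hone⟩
  rw [← card_autGroup P, ← card_involutions P hfix hone ht ht1]
  exact (Nat.card_congr (Equiv.subtypeUnivEquiv
    fun x : (P : Subgroup G) => Subtype.ext (h1 (x : G) x.2))).symm

end CfsgLib.AbelianTwo
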