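import Cfsg.Agent.Lib.AbelianTwoBlock.SumBound
import Cfsg.Agent.Lib.RealChar.Indicator
import Cfsg.Agent.Lib.Char.FrobeniusSchur
import Cfsg.Agent.Lib.Invol.Counting

/-!
# The doubly transitive endgame

When the strongly embedded subgroup is the Sylow normaliser, the non-trivial linear characters of
its cyclic quotient induce irreducibly, the degrees fill the group order, and the count of
involutions forces all values at an involution to be `±1`.
-/

set_option autoImplicit false
set_option maxHeartbeats 4000000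

open Cfsg
open scoped ComplexConjugate IsMulCommutative

namespace CfsgLib.AbelianTwo

open CfsgLib.Blk83

universe u

variable {G : Type u} [Group G] [Finite G] {M : Ideal Cfsg.AlgInt} {P : Sylow 2 G}
  [IsMulCommutative (P : Subgroup G)] (L : LocalData P) {e : ℕ}
  (hM : IsPModular 2 M)
  (hfix : ∀ y ∈ (P : Subgroup G), y ≠ 1 →
    Subgroup.centralizer ({y} : Set G) ⊓ Subgroup.normalizer ((P : Subgroup G) : Set G) ≤
      Subgroup.centralizer ((P : Subgroup G) : Set G))
  (hone : ∀ s t : G, orderOf s = 2 → orderOf t = 2 → IsConj s t)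
  (hel : ∀ x ∈ (P : Subgroup G), x * x = 1)
  (he1 : 1 < e) (hodd : Odd e) (hcard : Nat.card (P : Subgroup G) = e + 1)
  (heI : (Subgroup.centralizer ((P : Subgroup G) : Set G)).relIndex
    (Subgroup.normalizer ((P : Subgroup G) : Set G)) = e)
  {t : G} (ht : t ∈ (P : Subgroup G)) (ht1 : t ≠ 1)
  (hW : L.W = ⊥) (hDcard : ∀ g : G, g ∉ L.H → Nat.card (pointStab L.H g) = e)

include hW in
omit [IsMulCommutative (P : Subgroup G)] in
theorem H_eq : L.H = Subgroup.normalizer ((P : Subgroup G) : Set G) := by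
  rw [L.eq_sup, hW, bot_sup_eq]

include hW heI hcard in
omit [IsMulCommutative (P : Subgroup G)] in
theorem card_H_eq : Nat.card L.H = (e + 1) * e := by
  rw [L.card_H, hW, Subgroup.card_bot, one_mul, hcard, heI]

include hW hel in
omit [IsMulCommutative (P : Subgroup G)] in
theorem centralizer_eq {s : G} (hs : s ∈ (P : Subgroup G)) (hs1 : s ≠ 1) :
    Subgroup.centralizer ({s} : Set G) ≤ (P : Subgroup G) := by
  have h := L.centralizer_le_sup s hs hs1 (hel s hs)
  rwa [hW, bot_sup_eq] at h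

include hW in
omit [IsMulCommutative (P : Subgroup G)] in
theorem involution_mem {x : G} (hx : x ∈ L.H) (hx2 : x * x = 1) : x ∈ (P : Subgroup G) := by
  haveI : Fact (Nat.Prime 2) := ⟨Nat.prime_two⟩
  have hR : IsPGroup 2 (Subgroup.zpowers x) := by
    have hd : orderOf x ∣ 2 := orderOf_dvd_of_pow_eq_one (by rw [sq]; exact hx2)
    rcases (Nat.dvd_prime Nat.prime_two).1 hd with h | h
    · exact IsPGroup.of_card (n := 0) (by rw [Nat.card_zpowers, h, pow_zero])
    · exact IsPGroup.of_card (n := 1) (by rw [Nat.card_zpowers, h, pow_one])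
  have h := hR.inf_normalizer_sylow P
  have hmem : x ∈ Subgroup.zpowers x ⊓ Subgroup.normalizer ((P : Subgroup G) : Set G) :=
    ⟨Subgroup.mem_zpowers x, H_eq L hW ▸ hx⟩
  exact (h.le hmem).2

include hone hel hW ht ht1 hcard heI in
/-- The number of solutions of `x * x = 1`. -/
theorem card_sq_eq_one : Nat.card {x : G // x * x = 1} = 1 + L.H.index * e := by
  classical
  have hto : orderOf t = 2 := orderOf_eq_prime (by rw [sq]; exact hel t ht) ht1
  have hcen : Subgroup.centralizer ({t} : Set G) = (P : Subgroup G) :=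
    le_antisymm (centralizer_eq L hel hW ht ht1) (sylow_le_centralizer_singleton P ht)
  let F : Option {u : G // IsConj t u} → {x : G // x * x = 1} := fun o =>
    o.elim ⟨1, one_mul 1⟩ fun u => ⟨u.1, by
      obtain ⟨c, hc⟩ := isConj_iff.1 u.2
      rw [← hc, show c * t * c⁻¹ * (c * t * c⁻¹) = c * (t * t) * c⁻¹ by group, hel t ht]
      group⟩
  have hbij : Function.Bijective F := by
    refine ⟨fun o o' h => ?_, fun x => ?_⟩
    · have hv := congrArg Subtype.val h
      rcases o with _ | u <;> rcases o' with _ | v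
      · rfl
      · exact absurd (isConj_one_left.1 (show IsConj t 1 by rw [show (1 : G) = v.1 from hv]; exact v.2)) ht1
      · exact absurd (isConj_one_left.1 (show IsConj t 1 by rw [← show (u.1 : G) = 1 from hv]; exact u.2)) ht1
      · exact congrArg some (Subtype.ext hv)
    · by_cases hx1 : x.1 = 1
      · exact ⟨none, Subtype.ext hx1.symm⟩
      · exact ⟨some ⟨x.1, hone _ _ hto (orderOf_eq_prime (by rw [sq]; exact x.2) hx1)⟩, rfl⟩
  rw [← Nat.card_congr (Equiv.ofBijective F hbij), Finite.card_option,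
    CfsgLib.Invol.card_isConj_eq_index, hcen, add_comm]
  congr 1
  have h1 := L.H.index_mul_card
  have h2 := (P : Subgroup G).index_mul_card
  rw [card_H_eq L hcard heI hW, ← h2, hcard] at h1
  exact Nat.eq_of_mul_eq_mul_right (Nat.succ_pos e)
    (by rw [Nat.succ_eq_add_one, ← h1]; ring)

include hone hel hW ht ht1 hcard heI he1 hDcard in
/-- Every coset outside `H` has an involution inverting its stabiliser. -/
theorem exists_inverting (q : G ⧸ L.H)
    (hq : q ≠ QuotientGroup.mk 1) :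
    ∃ s : G, s * s = 1 ∧ (QuotientGroup.mk s : G ⧸ L.H) = q ∧
      Nat.card (pointStab L.H q.out) = e ∧
      ∀ d ∈ pointStab L.H q.out, s * d * s⁻¹ = d⁻¹ := by
  classical
  haveI := Fintype.ofFinite G
  haveI := Fintype.ofFinite (G ⧸ L.H)
  set q₀ : G ⧸ L.H := QuotientGroup.mk 1 with hq₀
  have hnH : ∀ q : G ⧸ L.H, q ≠ q₀ → q.out ∉ L.H := fun q hq h => hq (by
    rw [hq₀, ← QuotientGroup.out_eq' q, QuotientGroup.eq, mul_one]
    exact inv_mem h)
  have hDe : ∀ q : G ⧸ L.H, q ≠ q₀ → Nat.card (pointStab L.H q.out) = e := fun q hq =>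
    hDcard _ (hnH q hq)
  set I := Finset.univ.filter fun x : G => x * x = 1 with hI
  have hIcard : I.card = 1 + L.H.index * e := by
    rw [hI, ← Fintype.card_subtype, ← Nat.card_eq_fintype_card,
      card_sq_eq_one L hone hel hcard heI ht ht1 hW]
  have hfib := Finset.card_eq_sum_card_fiberwise (f := fun x : G => (QuotientGroup.mk x : G ⧸ L.H))
    (s := I) (t := Finset.univ) (fun x _ => Finset.mem_univ _)
  -- products of two involutions of a coset
  have hprod : ∀ q' : G ⧸ L.H, ∀ s s' : G, s * s = 1 → s' * s' = 1 →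
      (QuotientGroup.mk s : G ⧸ L.H) = q' → (QuotientGroup.mk s' : G ⧸ L.H) = q' →
      s * s' ∈ pointStab L.H q'.out := by
    intro q' s s' hs hs' hsq hs'q
    have hsi : s⁻¹ = s := inv_eq_of_mul_eq_one_right hs
    have hs'i : s'⁻¹ = s' := inv_eq_of_mul_eq_one_right hs'
    have h1 : s * s' ∈ L.H := by
      rw [← hsi, ← QuotientGroup.eq, hsq, hs'q]
    obtain ⟨k, hk⟩ := QuotientGroup.mk_out_eq_mul L.H s
    rw [hsq] at hk
    refine mem_pointStab.2 ⟨h1, ?_⟩
    have h2 : q'.out⁻¹ * (s * s') * q'.out = (k : G)⁻¹ * (s * s')⁻¹ * (k : G) := by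
      rw [hk, mul_inv_rev, mul_inv_rev, hsi, hs'i]
      calc (k : G)⁻¹ * s * (s * s') * (s * k) = (k : G)⁻¹ * (s * s) * (s' * s) * k := by group
        _ = (k : G)⁻¹ * (s' * s) * k := by rw [hs, mul_one]
    rw [h2]
    exact mul_mem (mul_mem (inv_mem k.2) (inv_mem h1)) k.2
  set c : G ⧸ L.H → ℕ :=
    fun q' => (I.filter fun x : G => (QuotientGroup.mk x : G ⧸ L.H) = q').card with hc
  have hc0 : c q₀ ≤ e + 1 := by
    rw [hc, ← hcard, Nat.card_eq_fintype_card, ← Finset.card_univ]
    refine Finset.card_le_card_of_injOn (fun x => if h : x ∈ (P : Subgroup G) then ⟨x, h⟩ else 1)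
      (fun _ _ => Finset.mem_coe.2 (Finset.mem_univ _)) ?_
    intro a ha b hb hab
    rw [Finset.mem_coe, Finset.mem_filter] at ha hb
    have hmem : ∀ x : G, x ∈ I → (QuotientGroup.mk x : G ⧸ L.H) = q₀ → x ∈ (P : Subgroup G) := by
      intro x hx hxq
      refine involution_mem L hW ?_ (Finset.mem_filter.1 hx).2
      rw [hq₀, QuotientGroup.eq, mul_one] at hxq
      simpa using inv_mem hxq
    simp only [dif_pos (hmem a ha.1 ha.2), dif_pos (hmem b hb.1 hb.2)] at hab
    exact congrArg (Subtype.val (p := (· ∈ (P : Subgroup G)))) hab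
  have hcle : ∀ q' ∈ (Finset.univ : Finset (G ⧸ L.H)).erase q₀, c q' ≤ e := by
    intro q' hq'
    rcases (I.filter fun x : G => (QuotientGroup.mk x : G ⧸ L.H) = q').eq_empty_or_nonempty with
      h | ⟨s, hs⟩
    · simp [hc, h]
    rw [Finset.mem_filter] at hs
    rw [hc, ← hDe q' (Finset.ne_of_mem_erase hq'), Nat.card_eq_fintype_card, ← Finset.card_univ]
    refine Finset.card_le_card_of_injOn
      (fun x => if h : s * x ∈ pointStab L.H q'.out then ⟨s * x, h⟩ else 1)
      (fun _ _ => Finset.mem_coe.2 (Finset.mem_univ _)) ?_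
    intro a ha b hb hab
    rw [Finset.mem_coe, Finset.mem_filter] at ha hb
    have h1 := (Finset.mem_filter.1 hs.1).2
    simp only [dif_pos (hprod q' s a h1 (Finset.mem_filter.1 ha.1).2 hs.2 ha.2),
      dif_pos (hprod q' s b h1 (Finset.mem_filter.1 hb.1).2 hs.2 hb.2)] at hab
    exact mul_left_cancel (congrArg (Subtype.val (p := (· ∈ pointStab L.H q'.out))) hab)
  have hcq : c q = e := by
    rw [← Finset.add_sum_erase _ _ (Finset.mem_univ q₀)] at hfib
    have hcnt : ((Finset.univ : Finset (G ⧸ L.H)).erase q₀).card + 1 = L.H.index := by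
      rw [Finset.card_erase_add_one (Finset.mem_univ _), Finset.card_univ, Subgroup.index_eq_card,
        Nat.card_eq_fintype_card]
    have hge : ∑ _q' ∈ (Finset.univ : Finset (G ⧸ L.H)).erase q₀, e ≤
        ∑ q' ∈ (Finset.univ : Finset (G ⧸ L.H)).erase q₀, c q' := by
      rw [Finset.sum_const, smul_eq_mul]
      have h1 : I.card = c q₀ + ∑ q' ∈ (Finset.univ : Finset (G ⧸ L.H)).erase q₀, c q' := hfib
      rw [hIcard, ← hcnt, Nat.succ_mul] at h1
      omega
    exact (Finset.sum_eq_sum_iff_of_le hcle).1 (le_antisymm (Finset.sum_le_sum hcle) hge) q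
      (Finset.mem_erase.2 ⟨hq, Finset.mem_univ _⟩)
  have hcq' : (I.filter fun x : G => (QuotientGroup.mk x : G ⧸ L.H) = q).card = e := hcq
  have hne : (I.filter fun x : G => (QuotientGroup.mk x : G ⧸ L.H) = q).Nonempty :=
    Finset.card_pos.1 (by rw [hcq']; omega)
  obtain ⟨s, hs⟩ := hne
  rw [Finset.mem_filter] at hs
  have hss := (Finset.mem_filter.1 hs.1).2
  refine ⟨s, hss, hs.2, hDe q hq, fun d hd => ?_⟩
  -- `d` is a product `s s'`
  have hsub : ((I.filter fun x : G => (QuotientGroup.mk x : G ⧸ L.H) = q).image fun x => s * x) =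
      Finset.univ.filter fun x : G => x ∈ pointStab L.H q.out := by
    refine Finset.eq_of_subset_of_card_le ?_ ?_
    · intro x hx
      obtain ⟨a, ha, rfl⟩ := Finset.mem_image.1 hx
      rw [Finset.mem_filter] at ha ⊢
      exact ⟨Finset.mem_univ _, hprod q s a hss (Finset.mem_filter.1 ha.1).2 hs.2 ha.2⟩
    · rw [Finset.card_image_of_injective _ (mul_right_injective s), hcq',
        ← Fintype.card_subtype, ← Nat.card_eq_fintype_card]
      exact (hDe q hq).le
  obtain ⟨s', hs', hd'⟩ := Finset.mem_image.1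
    (hsub.ge (Finset.mem_filter.2 ⟨Finset.mem_univ _, hd⟩))
  have hs's := (Finset.mem_filter.1 (Finset.mem_filter.1 hs').1).2
  rw [← hd', mul_inv_rev, inv_eq_of_mul_eq_one_right hs's, inv_eq_of_mul_eq_one_right hss,
    ← mul_assoc s, hss, one_mul]

variable (C : Column P M t)
  (hS : (L.H.index : ℂ) * (e : ℂ) *
    (∑ᶠ χ ∈ principalBlock M G, (χ : G → ℂ) t ^ 3 / (χ : G → ℂ) 1) =
      (Nat.card (P : Subgroup G) : ℂ) * ((Nat.card (P : Subgroup G) : ℂ) - 2))

include hM hfix hone hel he1 hodd hcard heI ht ht1 hW hDcard C hS in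
/-- The principal block has as many members as the Sylow order. -/
theorem card_block_endgame
    (hquot : haveI := sup_normal L
      IsMulCommutative (L.H ⧸ (L.W ⊔ (P : Subgroup G)).subgroupOf L.H)) :
    Nat.card (principalBlock M G) = Nat.card (P : Subgroup G) := by
  classical
  haveI : Fact (Nat.Prime 2) := ⟨Nat.prime_two⟩
  haveI := Fintype.ofFinite G
  haveI := Fintype.ofFinite L.H
  haveI := Fintype.ofFinite (G ⧸ L.H)
  have hepos : 0 < e := by omega
  have he0 : (0 : ℝ) < e := Nat.cast_pos.2 hepos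
  set n := L.H.index with hn
  set q₀ : G ⧸ L.H := QuotientGroup.mk 1 with hq₀
  have hnH : ∀ q : G ⧸ L.H, q ≠ q₀ → q.out ∉ L.H := fun q hq h => hq (by
    rw [hq₀, ← QuotientGroup.out_eq' q, QuotientGroup.eq, mul_one]
    exact inv_mem h)
  -- the quotient `H/P`
  set U := (L.W ⊔ (P : Subgroup G)).subgroupOf L.H with hU
  haveI hUn : U.Normal := sup_normal L
  have hUi : U.index = e := sup_index L heI
  letI : CommGroup (L.H ⧸ U) :=
    { (inferInstance : Group (L.H ⧸ U)) with mul_comm := hquot.is_comm.comm }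
  haveI := CfsgLib.Blk83.FreeOrbit.finite_dual (A := L.H ⧸ U)
  haveI := Fintype.ofFinite ((L.H ⧸ U) →* ℂˣ)
  have hdual : Fintype.card ((L.H ⧸ U) →* ℂˣ) = e := by
    rw [← Nat.card_eq_fintype_card, CommGroup.card_monoidHom_of_hasEnoughRootsOfUnity,
      ← Subgroup.index_eq_card, hUi]
  have hdual2 : ∀ z : (L.H ⧸ U) →* ℂˣ, z ≠ 1 → z ≠ z⁻¹ := by
    intro z hz h
    have hsq : z * z = 1 := by nth_rw 2 [h]; exact mul_inv_cancel z
    have h1 : orderOf z ∣ 2 := orderOf_dvd_of_pow_eq_one (by rw [sq]; exact hsq)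
    have h2 : orderOf z ∣ e := hdual ▸ orderOf_dvd_card
    have h3 : orderOf z = 1 := Nat.eq_one_of_dvd_coprimes
      (Nat.coprime_two_left.2 hodd) h1 h2
    exact hz (orderOf_eq_one_iff.1 h3)
  have hinvof : ∀ z w : (L.H ⧸ U) →* ℂˣ, z * w = 1 → z = w⁻¹ := fun z w h => MonoidHom.ext fun y => by
    have h' := DFunLike.congr_fun h y
    simp only [MonoidHom.mul_apply, MonoidHom.one_apply] at h'
    rw [MonoidHom.inv_apply]
    exact eq_inv_of_mul_eq_one_left h'
  have hinv1 : ∀ z : (L.H ⧸ U) →* ℂˣ, z ≠ 1 → z⁻¹ ≠ 1 := fun z hz h => hz (MonoidHom.ext fun y => by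
    have h' := DFunLike.congr_fun h y
    simp only [MonoidHom.inv_apply, MonoidHom.one_apply] at h' ⊢
    exact inv_eq_one.1 h')
  let lam : ((L.H ⧸ U) →* ℂˣ) → (L.H → ℂ) := fun z x => (z (QuotientGroup.mk x) : ℂ)
  have hlamirr : ∀ z, Cfsg.IsIrrCharacter L.H (lam z) := fun z =>
    CfsgLib.Char.isIrrCharacter_linear (z.comp (QuotientGroup.mk' U))
  have hlamcl : ∀ z, Cfsg.IsClassFunction L.H (lam z) := fun z =>
    CfsgLib.Char.IsIrrCharacter.isClassFunction (hlamirr z)
  -- inner products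
  have hinner : ∀ z w : (L.H ⧸ U) →* ℂˣ,
      Cfsg.classInner (Cfsg.indFun L.H (lam z)) (Cfsg.indFun L.H (lam w)) =
        (if z = w then 1 else 0) + (if z * w = 1 then ((n : ℂ) - 1) / ((e : ℂ) + 1) else 0) := by
    intro z w
    have h := card_mul_classInner_indFun L.H (lam z) (lam w) (hlamcl w)
    rw [← Finset.add_sum_erase _ _ (Finset.mem_univ q₀)] at h
    have hbase : ∑ x : L.H, lam z x * conj (Cfsg.extendByZero L.H (lam w) (q₀.out⁻¹ * (x : G) * q₀.out)) =
        (Nat.card L.H : ℂ) * (if z = w then 1 else 0) := by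
      have h1 : ∀ x : L.H, lam z x * conj (Cfsg.extendByZero L.H (lam w) (q₀.out⁻¹ * (x : G) * q₀.out)) =
          (((z * w⁻¹).comp (QuotientGroup.mk' U)) x : ℂ) := fun x => by
        rw [hq₀, extendByZero_out_one L.H _ (hlamcl w) x]
        simp only [lam, MonoidHom.coe_comp, Function.comp_apply, QuotientGroup.coe_mk',
          MonoidHom.mul_apply, MonoidHom.inv_apply, Units.val_mul]
        rw [CfsgLib.Blk83.FreeOrbit.conj_apply, map_inv]
      rw [Finset.sum_congr rfl fun x _ => h1 x, mul_ite, mul_one, mul_zero]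
      have h2 := CfsgLib.Char.classInner_irrCharacter
        (⟨_, hlamirr z⟩ : IrrCharacter L.H) ⟨_, hlamirr w⟩
      have hinj : (⟨lam z, hlamirr z⟩ : IrrCharacter L.H) = ⟨lam w, hlamirr w⟩ ↔ z = w := by
        refine ⟨fun h => MonoidHom.ext fun y => ?_, fun h => by subst h; rfl⟩
        obtain ⟨x, rfl⟩ := QuotientGroup.mk_surjective y
        exact Units.ext (congrFun (congrArg Subtype.val h) x)
      rw [Cfsg.classInner] at h2
      simp only [hinj] at h2
      rw [inv_mul_eq_iff_eq_mul₀ (Nat.cast_ne_zero.2 Nat.card_pos.ne')] at h2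
      rw [mul_ite, mul_one, mul_zero] at h2
      rw [← h2]
      refine Finset.sum_congr rfl fun x _ => ?_
      simp only [lam, MonoidHom.coe_comp, Function.comp_apply, QuotientGroup.coe_mk',
        MonoidHom.mul_apply, MonoidHom.inv_apply, Units.val_mul]
      rw [CfsgLib.Blk83.FreeOrbit.conj_apply, map_inv]
    have hterm : ∀ q ∈ (Finset.univ : Finset (G ⧸ L.H)).erase q₀,
        ∑ x : L.H, lam z x * conj (Cfsg.extendByZero L.H (lam w) (q.out⁻¹ * (x : G) * q.out)) =
          if z * w = 1 then (e : ℂ) else 0 := by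
      intro q hq
      have hqne := Finset.ne_of_mem_erase hq
      obtain ⟨s, hss, hsq, hDc, hinv⟩ :=
        exists_inverting L hone hel he1 hcard heI ht ht1 hW hDcard q hqne
      obtain ⟨k, hk⟩ := QuotientGroup.mk_out_eq_mul L.H s
      rw [hsq] at hk
      set D := pointStab L.H q.out with hD
      have hsi : s⁻¹ = s := inv_eq_of_mul_eq_one_right hss
      have h1 : ∀ x : L.H,
          lam z x * conj (Cfsg.extendByZero L.H (lam w) (q.out⁻¹ * (x : G) * q.out)) =
            if (x : G) ∈ D then ((z * w) (QuotientGroup.mk x) : ℂ) else 0 := by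
        intro x
        split_ifs with hx
        · have hx' := (mem_pointStab.1 hx).2
          rw [CfsgLib.Char.extendByZero_apply_mem L.H _ hx']
          have hconj : (⟨_, hx'⟩ : L.H) = k⁻¹ * x⁻¹ * k := Subtype.ext (by
            simp only [Subgroup.coe_mul, InvMemClass.coe_inv]
            rw [hk, mul_inv_rev, ← hinv (x : G) hx, hsi]
            group)
          simp only [lam, hconj, QuotientGroup.mk_mul, QuotientGroup.mk_inv]
          rw [CfsgLib.Blk83.FreeOrbit.conj_apply, mul_right_comm _ _ (k : L.H ⧸ U),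
            inv_mul_cancel, one_mul, inv_inv, MonoidHom.mul_apply, Units.val_mul]
        · rw [CfsgLib.Char.extendByZero_of_notMem L.H _ (fun h' => hx (mem_pointStab.2 ⟨x.2, h'⟩)),
            map_zero, mul_zero]
      rw [Finset.sum_congr rfl fun x _ => h1 x, ← Finset.sum_filter]
      -- the stabiliser maps onto `H/U`
      have hbij : ∑ x ∈ Finset.univ.filter (fun x : L.H => (x : G) ∈ D),
          ((z * w) (QuotientGroup.mk x) : ℂ) = ∑ y : L.H ⧸ U, ((z * w) y : ℂ) := by
        have hDodd := pointStab_odd L hone (hnH q hqne)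
        let g : ↥D → L.H ⧸ U := fun d => QuotientGroup.mk ⟨(d : G), (mem_pointStab.1 d.2).1⟩
        have hginj : Function.Injective g := by
          intro a b hab
          have h2 : (⟨(a : G), (mem_pointStab.1 a.2).1⟩ : L.H)⁻¹ *
              ⟨(b : G), (mem_pointStab.1 b.2).1⟩ ∈ U := QuotientGroup.eq.1 hab
          have h3 : (a : G)⁻¹ * (b : G) ∈ L.W ⊔ (P : Subgroup G) := h2
          have h4 := mem_W_of_odd L h3 (hDodd.of_dvd_nat
            (Subgroup.orderOf_dvd_natCard _ (mul_mem (inv_mem a.2) b.2)))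
          rw [hW, Subgroup.mem_bot, inv_mul_eq_one] at h4
          exact Subtype.ext h4
        have hgbij : Function.Bijective g := (Nat.bijective_iff_injective_and_card g).2
          ⟨hginj, by rw [← Subgroup.index_eq_card, hUi]; exact hDc⟩
        rw [← (Equiv.ofBijective g hgbij).sum_comp]
        refine Finset.sum_bij (fun x hx => (⟨(x : G), (Finset.mem_filter.1 hx).2⟩ : D))
          (fun _ _ => Finset.mem_univ _)
          (fun a _ b _ h => Subtype.ext (congrArg (Subtype.val (p := (· ∈ D))) h))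
          (fun d _ => ⟨⟨(d : G), (mem_pointStab.1 d.2).1⟩,
            Finset.mem_filter.2 ⟨Finset.mem_univ _, d.2⟩, rfl⟩) (fun _ _ => rfl)
      rw [hbij, CfsgLib.Blk83.FreeOrbit.sum_elem (z * w), ← Subgroup.index_eq_card, hUi]
    rw [hbase, Finset.sum_congr rfl hterm, Finset.sum_const, nsmul_eq_mul] at h
    have hcnt : (((Finset.univ : Finset (G ⧸ L.H)).erase q₀).card : ℂ) = (n : ℂ) - 1 := by
      have : ((Finset.univ : Finset (G ⧸ L.H)).erase q₀).card + 1 = n := by
        rw [Finset.card_erase_add_one (Finset.mem_univ _), Finset.card_univ, hn,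
          Subgroup.index_eq_card, Nat.card_eq_fintype_card]
      rw [← this, Nat.cast_add, Nat.cast_one, add_sub_cancel_right]
    rw [hcnt, card_H_eq L hcard heI hW] at h
    have hne : (((e + 1) * e : ℕ) : ℂ) ≠ 0 := Nat.cast_ne_zero.2 (by positivity)
    have he1 : (e : ℂ) + 1 ≠ 0 := by exact_mod_cast (show e + 1 ≠ 0 by omega)
    refine mul_left_cancel₀ hne (h.trans ?_)
    push_cast
    split_ifs <;> field_simp <;> ring
  have hindchar : ∀ z, Cfsg.IsCharacter G (Cfsg.indFun L.H (lam z)) := fun z =>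
    CfsgLib.Char.IsCharacter.indFun L.H (CfsgLib.Char.IsIrrCharacter.isCharacter (hlamirr z))
  have hindirr : ∀ z : (L.H ⧸ U) →* ℂˣ, z ≠ 1 → Cfsg.IsIrrCharacter G (Cfsg.indFun L.H (lam z)) :=
    fun z hz => CfsgLib.Char.IsCharacter.isIrrCharacter_of_classInner_self (hindchar z) (by
      rw [hinner, if_pos rfl, if_neg (show ¬ z * z = 1 from fun h =>
        hdual2 z hz (hinvof z z h)), add_zero])
  obtain ⟨z₀, hz₀⟩ : ∃ z : (L.H ⧸ U) →* ℂˣ, z ≠ 1 := by
    haveI : Nontrivial ((L.H ⧸ U) →* ℂˣ) :=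
      Fintype.one_lt_card_iff_nontrivial.1 (by rw [hdual]; omega)
    exact exists_ne 1
  -- a single further orbit
  have hn1 : n = e + 2 := by
    have h := hinner z₀ z₀⁻¹
    rw [if_neg (hdual2 z₀ hz₀), if_pos (mul_inv_cancel z₀), zero_add] at h
    have h' := CfsgLib.Char.classInner_irrCharacter (⟨_, hindirr z₀ hz₀⟩ : IrrCharacter G)
      ⟨_, hindirr z₀⁻¹ (hinv1 z₀ hz₀)⟩
    rw [h] at h'
    have he1 : (e : ℂ) + 1 ≠ 0 := by exact_mod_cast (show e + 1 ≠ 0 by omega)
    have hn1 : n ≠ 1 := fun h1 => L.ne_top (Subgroup.index_eq_one.1 h1)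
    split_ifs at h'
    · rw [div_eq_one_iff_eq he1] at h'
      have : (n : ℂ) = ((e + 2 : ℕ) : ℂ) := by push_cast; linear_combination h'
      exact_mod_cast this
    · rw [div_eq_zero_iff, sub_eq_zero] at h'
      exact absurd (by exact_mod_cast h'.resolve_right he1) hn1
  have hJ : ((n : ℂ) - 1) / ((e : ℂ) + 1) = 1 := by
    rw [hn1, div_eq_one_iff_eq (by exact_mod_cast (show e + 1 ≠ 0 by omega))]
    push_cast; ring
  -- values
  have hto : orderOf t = 2 := orderOf_eq_prime (by rw [sq]; exact hel t ht) ht1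
  have htH : t ∈ L.H := (Subgroup.le_normalizer.trans L.normalizer_le) ht
  have hone_apply : ∀ z, Cfsg.indFun L.H (lam z) 1 = (n : ℂ) := by
    intro z
    rw [CfsgLib.Char.indFun_eq_sum_transversal L.H _ (hlamcl z),
      Finset.sum_congr rfl (g := fun _ => (1 : ℂ)) fun q _ => ?_, Finset.sum_const, nsmul_eq_mul,
      mul_one, Finset.card_univ, hn, Subgroup.index_eq_card, Nat.card_eq_fintype_card]
    rw [mul_one, inv_mul_cancel, CfsgLib.Char.extendByZero_apply_mem L.H _ (one_mem _)]
    simp only [lam]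
    rw [show (⟨1, one_mem _⟩ : L.H) = 1 from rfl, QuotientGroup.mk_one, map_one, Units.val_one]
  have ht_apply : ∀ z, Cfsg.indFun L.H (lam z) t = 1 := by
    intro z
    rw [CfsgLib.Char.indFun_eq_sum_transversal L.H _ (hlamcl z), Finset.sum_eq_single q₀]
    · rw [hq₀, extendByZero_out_one L.H _ (hlamcl z) ⟨t, htH⟩]
      simp only [lam]
      rw [(QuotientGroup.eq_one_iff (⟨t, htH⟩ : L.H)).2
        (show t ∈ L.W ⊔ (P : Subgroup G) from Subgroup.mem_sup_right ht), map_one, Units.val_one]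
    · intro q _ hq
      exact CfsgLib.Char.extendByZero_of_notMem L.H _ fun hin =>
        hnH q hq (fixed_coset L hone htH hto hin)
    · exact fun h => absurd (Finset.mem_univ _) h
  -- membership in the block
  have hblock : ∀ χ : IrrCharacter G, (χ : G → ℂ) t ≠ 0 → χ ∈ principalBlock M G := by
    intro χ hχ
    obtain ⟨K, hidx, hreg, -⟩ := exists_local_complement P hM ht (hfix t ht ht1)
    haveI : K.Normal := ⟨fun x hx g => (hreg _).1 (by
      have : orderOf (g * x * g⁻¹) = orderOf x :=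
        orderOf_injective (MulAut.conj g).toMonoidHom (MulAut.conj g).injective x
      rw [Cfsg.IsPRegular, this]
      exact (hreg x).2 hx)⟩
    haveI : Fintype K := Fintype.ofFinite _
    obtain ⟨l, hl⟩ := IsPGroup.iff_card.1 P.isPGroup'
    have hKtriv : ∀ z : K, ((z : Subgroup.centralizer ({t} : Set G)) : G) = 1 := fun z => by
      have h1 := centralizer_eq L hel hW ht ht1 (z : Subgroup.centralizer ({t} : Set G)).2
      have h2 := (hreg _).2 z.2
      rw [Cfsg.IsPRegular, ← Subgroup.orderOf_coe] at h2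
      by_contra hne
      exact h2 (by
        rw [orderOf_eq_prime (p := 2) (by rw [sq]; exact hel _ h1) hne])
    have hKodd : ¬ 2 ∣ Nat.card K := fun h2 => by
      obtain ⟨c, hc⟩ := exists_prime_orderOf_dvd_card' (G := K) 2 h2
      exact (hreg c).2 c.2 (by rw [Subgroup.orderOf_coe, hc])
    have h := CfsgLib.Invol.SectionAverage.sum_section_coset hM (pElement_of_mem_sylow P ht) K hKodd
      (hidx.trans hl) χ
    simp only [hKtriv, mul_one, Finset.sum_const, Finset.card_univ, nsmul_eq_mul] at h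
    by_contra hnot
    rw [if_neg (by rwa [CfsgLib.Invol.BlockCol.mem_pBlock]), mul_eq_zero] at h
    exact hχ (h.resolve_left (Nat.cast_ne_zero.2 Fintype.card_ne_zero))
  -- the induced family
  let F : ((L.H ⧸ U) →* ℂˣ) → IrrCharacter G := fun z =>
    if hz : z ≠ 1 then ⟨_, hindirr z hz⟩ else CfsgLib.Char.principalIrr
  have hF : ∀ z, z ≠ 1 → (F z : G → ℂ) = Cfsg.indFun L.H (lam z) := fun z hz => by
    simp only [F, dif_pos hz]
  set A := (Finset.univ : Finset ((L.H ⧸ U) →* ℂˣ)).erase 1 with hA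
  set I := A.image F with hIdef
  have hIval : ∀ χ ∈ I, C.b χ = 1 ∧ C.m χ = n ∧ χ ∈ C.B ∧ χ ≠ CfsgLib.Char.principalIrr := by
    intro χ hχ
    obtain ⟨z, hz, rfl⟩ := Finset.mem_image.1 hχ
    have hz1 := Finset.ne_of_mem_erase hz
    have h1 : C.b (F z) = 1 := by
      have h := C.val (F z)
      rw [hF z hz1, ht_apply] at h
      exact_mod_cast h.symm
    have h2 : C.m (F z) = n := by
      have h := C.deg (F z)
      rw [hF z hz1, hone_apply] at h
      exact_mod_cast h.symm
    refine ⟨h1, h2, (C.mem _).2 (hblock _ (by rw [C.val, h1]; simp)), fun h => ?_⟩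
    rw [h, C.m_one] at h2
    omega
  have hIcard : 2 * I.card = e - 1 := by
    have hAcard : A.card = e - 1 := by
      rw [hA, Finset.card_erase_of_mem (Finset.mem_univ _), Finset.card_univ, hdual]
    rw [← hAcard, Finset.card_eq_sum_card_image F A, ← hIdef, mul_comm, ← smul_eq_mul,
      ← Finset.sum_const]
    refine Finset.sum_congr rfl fun χ hχ => ?_
    obtain ⟨z, hz, rfl⟩ := Finset.mem_image.1 hχ
    have hz1 := Finset.ne_of_mem_erase hz
    have hset : A.filter (fun w => F w = F z) = {z, z⁻¹} := by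
      ext w
      simp only [Finset.mem_filter, hA, Finset.mem_erase, Finset.mem_univ, and_true,
        Finset.mem_insert, Finset.mem_singleton]
      have key : ∀ w, w ≠ 1 → (F w = F z ↔ w = z ∨ w = z⁻¹) := by
        intro w hw
        have h := CfsgLib.Char.classInner_irrCharacter (F w) (F z)
        rw [hF w hw, hF z hz1, hinner, hJ] at h
        constructor
        · intro heq
          rw [if_pos heq] at h
          by_contra hc
          push Not at hc
          rw [if_neg hc.1, if_neg (show ¬ w * z = 1 from fun h' => hc.2 (hinvof w z h')), add_zero] at h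
          exact zero_ne_one h
        · intro hor
          by_contra hne
          rw [if_neg hne] at h
          rcases hor with rfl | rfl
          · exact hne rfl
          · rw [if_neg (fun h' => hdual2 z hz1 h'.symm), if_pos (inv_mul_cancel z), zero_add] at h
            exact one_ne_zero h
      exact ⟨fun ⟨hw, hwz⟩ => (key w hw).1 hwz, fun h => by
        have hw : w ≠ 1 := by rcases h with rfl | rfl; exacts [hz1, hinv1 z hz1]
        exact ⟨hw, (key w hw).2 h⟩⟩
    rw [hset, Finset.card_pair (hdual2 z hz1)]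
  -- the rest of the block
  set R := (C.B.erase CfsgLib.Char.principalIrr) \ I with hR
  have hIsub : I ⊆ C.B.erase CfsgLib.Char.principalIrr := fun χ hχ =>
    Finset.mem_erase.2 ⟨(hIval χ hχ).2.2.2, (hIval χ hχ).2.2.1⟩
  have hn' : (n : ℝ) = (e : ℝ) + 2 := by rw [hn1]; push_cast; ring
  have hIr : 2 * (I.card : ℝ) = (e : ℝ) - 1 := by
    have : (((2 * I.card : ℕ)) : ℝ) = ((e - 1 : ℕ) : ℝ) := by rw [hIcard]
    push_cast [Nat.cast_sub (show 1 ≤ e by omega)] at this
    exact this
  have hRsq : 2 * ∑ χ ∈ R, (C.b χ : ℝ) ^ 2 = (e : ℝ) + 1 := by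
    have h : ∑ χ ∈ C.B, (C.b χ : ℝ) ^ 2 = (e : ℝ) + 1 := by
      have h := C.sum_sq; rw [hcard] at h; exact_mod_cast h
    rw [← Finset.add_sum_erase _ _ C.one_mem, C.b_one, ← Finset.sum_sdiff hIsub, ← hR,
      Finset.sum_congr (s₁ := I) rfl (g := fun _ => (1 : ℝ)) (fun χ hχ => by rw [(hIval χ hχ).1]; norm_num),
      Finset.sum_const, nsmul_eq_mul, mul_one] at h
    push_cast at h
    linarith
  have hR0 : ∀ χ ∈ R, (C.m χ : ℝ) = -((e : ℝ) * C.b χ) ∧ C.b χ < 0 := by
    have h := sum_shifted L hcard C hS hepos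
    rw [← Finset.sum_sdiff hIsub, ← hR, Finset.sum_congr (s₁ := I) rfl
      (g := fun _ => 1 / (n : ℝ) + 1 / (e : ℝ)) (fun χ (hχ : χ ∈ I) => by
        rw [shifted, (hIval χ hχ).1, (hIval χ hχ).2.1]; norm_num [one_div]),
      Finset.sum_const, nsmul_eq_mul, ← hn, mul_add] at h
    have hz : ∑ χ ∈ R, shifted (e := e) C χ = 0 := by
      have e1 : (n : ℝ) * e * ((I.card : ℝ) * (1 / n + 1 / e)) = (I.card : ℝ) * ((e : ℝ) + n) := by
        have : (n : ℝ) ≠ 0 := by rw [hn']; positivity
        field_simp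
      rw [e1] at h
      have h2 : (n : ℝ) * e * ∑ χ ∈ R, shifted (e := e) C χ = 0 := by
        have e2 : (I.card : ℝ) * ((e : ℝ) + n) = ((e : ℝ) - 1) * ((e : ℝ) + 1) := by
          rw [hn', show (I.card : ℝ) = ((e : ℝ) - 1) / 2 by linarith]; ring
        linarith
      exact (mul_eq_zero.1 h2).resolve_left (by rw [hn']; positivity)
    intro χ hχ
    have h1 := (Finset.sum_eq_zero_iff_of_nonneg fun χ _ => shifted_nonneg hcard C hepos χ).1 hz χ hχ
    have hbne := C.b_ne χ (Finset.mem_of_mem_erase (Finset.mem_sdiff.1 hχ).1)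
    have hm : (0 : ℝ) < C.m χ := Nat.cast_pos.2 (C.m_pos χ)
    rw [shifted, div_add_div _ _ hm.ne' he0.ne', div_eq_zero_iff] at h1
    have h2 := h1.resolve_right (by positivity)
    have h3 : (C.b χ : ℝ) ^ 2 * ((e : ℝ) * C.b χ + C.m χ) = 0 := by linear_combination h2
    have h4 : (e : ℝ) * C.b χ + C.m χ = 0 :=
      (mul_eq_zero.1 h3).resolve_left (pow_ne_zero 2 (by exact_mod_cast hbne))
    refine ⟨by linarith, ?_⟩
    have h5 : (e : ℝ) * C.b χ < 0 := by linarith
    by_contra hb
    have : (0 : ℝ) ≤ C.b χ := by exact_mod_cast not_lt.1 hb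
    nlinarith
  -- the permutation character
  set π : G → ℂ := Cfsg.indFun L.H (lam 1) with hπ
  have hpr : Cfsg.classInner π (CfsgLib.Char.principalIrr : IrrCharacter G).1 = 1 := by
    rw [hπ, CfsgLib.Char.classInner_indFun L.H _ _
      (CfsgLib.Char.IsIrrCharacter.isClassFunction (CfsgLib.Char.principalIrr : IrrCharacter G).2)]
    have h : (fun x : L.H => (CfsgLib.Char.principalIrr : IrrCharacter G).1 (x : G)) =
        fun _ : L.H => (1 : ℂ) := funext fun x => rfl
    rw [h, Cfsg.classInner]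
    simp only [lam, MonoidHom.one_apply, Units.val_one, map_one, mul_one, Finset.sum_const,
      Finset.card_univ, nsmul_eq_mul]
    rw [Nat.card_eq_fintype_card, inv_mul_cancel₀ (Nat.cast_ne_zero.2 Fintype.card_ne_zero)]
  choose mu hmu using fun χ : IrrCharacter G =>
    CfsgLib.Char.IsCharacter.exists_nat_classInner (hindchar 1) χ.2
  have hmu1 : mu CfsgLib.Char.principalIrr = 1 := by
    have h := hmu CfsgLib.Char.principalIrr
    rw [← hπ, hpr] at h
    exact_mod_cast h.symm
  have hmusq : ∑ χ : IrrCharacter G, mu χ ^ 2 = 2 := by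
    have h1 : Cfsg.classInner π π = ∑ χ : IrrCharacter G, (mu χ : ℂ) ^ 2 := by
      rw [hπ]
      conv_lhs => rw [CfsgLib.Char.IsCharacter.eq_sum_classInner (hindchar 1)]
      rw [CfsgLib.Char.classInner_sum_smul_sum_smul]
      simp only [hmu, map_natCast, sq]
    rw [hπ, hinner] at h1
    split_ifs at h1 with ha hb
    rotate_left
    · exact absurd (MonoidHom.ext fun y => by simp) hb
    · exact absurd rfl ha
    · exact absurd rfl ha
    rw [hJ] at h1
    have h2 : ((∑ χ : IrrCharacter G, mu χ ^ 2 : ℕ) : ℂ) = ((2 : ℕ) : ℂ) := by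
      push_cast; rw [← h1]; norm_num
    exact_mod_cast h2
  rw [← Finset.add_sum_erase _ _ (Finset.mem_univ CfsgLib.Char.principalIrr), hmu1] at hmusq
  obtain ⟨ρ, hρ, hρ1, hρu⟩ : ∃ ρ, ρ ≠ CfsgLib.Char.principalIrr ∧ mu ρ = 1 ∧
      ∀ χ, χ ≠ CfsgLib.Char.principalIrr → χ ≠ ρ → mu χ = 0 := by
    obtain ⟨ρ, hρ, hpos⟩ : ∃ ρ ∈ (Finset.univ : Finset (IrrCharacter G)).erase
        CfsgLib.Char.principalIrr, mu ρ ^ 2 ≠ 0 := by
      refine Finset.exists_ne_zero_of_sum_ne_zero ?_
      omega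
    rw [← Finset.add_sum_erase _ _ hρ] at hmusq
    have hρ1 : mu ρ ^ 2 = 1 := by omega
    refine ⟨ρ, Finset.ne_of_mem_erase hρ, Nat.eq_one_of_mul_eq_one_right (by rwa [← sq]), fun χ h1 h2 => ?_⟩
    have hrest : ∑ x ∈ ((Finset.univ : Finset (IrrCharacter G)).erase
        CfsgLib.Char.principalIrr).erase ρ, mu x ^ 2 = 0 := by omega
    have h3 := Finset.sum_eq_zero_iff.1 hrest χ
      (Finset.mem_erase.2 ⟨h2, Finset.mem_erase.2 ⟨h1, Finset.mem_univ _⟩⟩)
    exact (pow_eq_zero_iff two_ne_zero).1 h3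
  have hπdec : ∀ g, π g = 1 + (ρ : G → ℂ) g := by
    intro g
    have h := congrFun (CfsgLib.Char.IsCharacter.eq_sum_classInner (hindchar 1)) g
    simp only [Finset.sum_apply, Pi.smul_apply, smul_eq_mul, hmu] at h
    rw [← Finset.add_sum_erase _ _ (Finset.mem_univ CfsgLib.Char.principalIrr),
      ← Finset.add_sum_erase _ _ (Finset.mem_erase.2 ⟨hρ, Finset.mem_univ _⟩),
      Finset.sum_eq_zero fun χ hχ => by
        rw [hρu χ (Finset.ne_of_mem_erase (Finset.mem_of_mem_erase hχ)) (Finset.ne_of_mem_erase hχ),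
          Nat.cast_zero, zero_mul], hmu1, hρ1, CfsgLib.Char.principalIrr_apply] at h
    rw [hπ, h]
    push_cast
    ring
  have hρm : C.m ρ = e + 1 := by
    have h := hπdec 1
    rw [hπ, hone_apply, C.deg, hn1] at h
    push_cast at h
    have h' : (C.m ρ : ℂ) = ((e + 1 : ℕ) : ℂ) := by push_cast; linear_combination -h
    exact_mod_cast h'
  have hρB : ρ ∉ C.B := fun h => by
    have h1 := hπdec t
    rw [hπ, ht_apply, C.val] at h1
    exact C.b_ne ρ h (by exact_mod_cast (show (C.b ρ : ℂ) = 0 by linear_combination -h1))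
  -- all characters
  set S4 := insert ρ C.B with hS4
  have hBdec : ∀ f : IrrCharacter G → ℝ, ∑ χ ∈ S4, f χ =
      f ρ + (f CfsgLib.Char.principalIrr + (∑ χ ∈ R, f χ + ∑ χ ∈ I, f χ)) := fun f => by
    rw [hS4, Finset.sum_insert hρB, ← Finset.add_sum_erase _ _ C.one_mem,
      ← Finset.sum_sdiff hIsub]
  have hcardG : (Nat.card G : ℝ) = (n : ℝ) * (((e : ℝ) + 1) * e) := by
    rw [← L.H.index_mul_card, card_H_eq L hcard heI hW, ← hn]
    push_cast; ring
  have hall : ∀ χ : IrrCharacter G, χ ∈ S4 := by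
    have hdeg : ∑ χ : IrrCharacter G, (C.m χ : ℝ) ^ 2 = (Nat.card G : ℝ) := by
      have h := CfsgLib.Char.sum_degree_sq (G := G)
      have hm : ∀ χ : IrrCharacter G, CfsgLib.Char.degree (χ : G → ℂ) = C.m χ := fun χ => by
        have := CfsgLib.Char.IsCharacter.degree_cast (CfsgLib.Char.IsIrrCharacter.isCharacter χ.2)
        rw [C.deg] at this
        exact_mod_cast this
      simp only [hm] at h
      exact_mod_cast h
    have hpart : ∑ χ ∈ S4, (C.m χ : ℝ) ^ 2 = (Nat.card G : ℝ) := by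
      rw [hBdec, hρm, C.m_one, Finset.sum_congr (s₁ := R) rfl (g := fun χ => (e : ℝ) ^ 2 * (C.b χ : ℝ) ^ 2)
        (fun χ (hχ : χ ∈ R) => by rw [(hR0 χ hχ).1]; ring), ← Finset.mul_sum,
        Finset.sum_congr (s₁ := I) rfl (g := fun _ => (n : ℝ) ^ 2) (fun χ (hχ : χ ∈ I) => by
          rw [(hIval χ hχ).2.1]), Finset.sum_const, nsmul_eq_mul, hcardG, hn']
      push_cast
      rw [show ∑ χ ∈ R, (C.b χ : ℝ) ^ 2 = ((e : ℝ) + 1) / 2 by linarith,
        show (I.card : ℝ) = ((e : ℝ) - 1) / 2 by linarith]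
      ring
    intro χ
    by_contra hχ
    rw [← Finset.sum_sdiff (Finset.subset_univ S4), hpart, add_eq_right] at hdeg
    have h := (Finset.sum_eq_zero_iff_of_nonneg fun x _ => sq_nonneg _).1 hdeg χ
      (Finset.mem_sdiff.2 ⟨Finset.mem_univ _, hχ⟩)
    have := C.m_pos χ
    simp at h
    omega
  have huniv : (Finset.univ : Finset (IrrCharacter G)) = S4 :=
    (Finset.eq_univ_of_forall hall).symm
  -- involutions
  have hfs : (1 + (n : ℝ) * e) ≤ ∑ χ ∈ S4, (C.m χ : ℝ) := by
    have h := CfsgLib.RealChar.sum_fsInd_mul_apply (1 : G)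
    rw [card_sq_eq_one L hone hel hcard heI ht ht1 hW, huniv] at h
    have hb : ∀ χ : IrrCharacter G,
        (CfsgLib.RealChar.fsInd (χ : G → ℂ) * (χ : G → ℂ) 1).re ≤ (C.m χ : ℝ) := by
      intro χ
      have hm0 : (0 : ℝ) ≤ C.m χ := Nat.cast_nonneg _
      rw [C.deg]
      rcases (CfsgLib.Char.fsIndicator_irr χ.2).1 with h' | h' | h' <;>
        rw [show CfsgLib.RealChar.fsInd (χ : G → ℂ) = CfsgLib.Char.fsIndicator (χ : G → ℂ) from rfl,
          h'] <;> simp
    have h2 := congrArg Complex.re h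
    rw [Complex.re_sum, Complex.natCast_re] at h2
    push_cast at h2
    calc (1 + (n : ℝ) * e) = _ := h2.symm
      _ ≤ _ := Finset.sum_le_sum fun χ _ => hb χ
  rw [hBdec, hρm, C.m_one, Finset.sum_congr (s₁ := R) rfl (g := fun χ => (e : ℝ) * (-(C.b χ : ℝ)))
      (fun χ (hχ : χ ∈ R) => by rw [(hR0 χ hχ).1]; ring), ← Finset.mul_sum,
    Finset.sum_congr (s₁ := I) rfl (g := fun _ => (n : ℝ)) (fun χ (hχ : χ ∈ I) => by
      rw [(hIval χ hχ).2.1]), Finset.sum_const, nsmul_eq_mul, hn'] at hfs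
  push_cast at hfs
  rw [show (I.card : ℝ) = ((e : ℝ) - 1) / 2 by linarith] at hfs
  have hineq : ((e : ℝ) + 1) / 2 ≤ ∑ χ ∈ R, -(C.b χ : ℝ) :=
    le_of_mul_le_mul_left (by nlinarith) he0
  have hterm : ∀ χ ∈ R, -(C.b χ : ℝ) ≤ (C.b χ : ℝ) ^ 2 := fun χ hχ => by
    have : (C.b χ : ℝ) ≤ -1 := by
      have h := (hR0 χ hχ).2
      exact_mod_cast (show C.b χ ≤ -1 by omega)
    nlinarith
  have heq : ∀ χ ∈ R, -(C.b χ : ℝ) = (C.b χ : ℝ) ^ 2 :=
    (Finset.sum_eq_sum_iff_of_le hterm).1
      (le_antisymm (Finset.sum_le_sum hterm) (by linarith))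
  have hRcard : 2 * (R.card : ℝ) = (e : ℝ) + 1 := by
    rw [← hRsq, Finset.card_eq_sum_ones]
    push_cast
    congr 1
    refine Finset.sum_congr rfl fun χ hχ => ?_
    have h := heq χ hχ
    have hb : (C.b χ : ℝ) < 0 := by exact_mod_cast (hR0 χ hχ).2
    nlinarith
  have hB : (C.B.card : ℝ) = ((e + 1 : ℕ) : ℝ) := by
    rw [← Finset.card_erase_add_one C.one_mem, ← Finset.card_sdiff_add_card_eq_card hIsub, ← hR]
    push_cast
    linarith
  rw [hcard, Nat.card_eq_card_finite_toFinset (Set.toFinite _)]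
  have hBset : (Set.toFinite (principalBlock M G)).toFinset = C.B := by
    ext χ; rw [Set.Finite.mem_toFinset, C.mem]
  rw [hBset]
  exact_mod_cast hB

end CfsgLib.AbelianTwo
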