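import Cfsg.Agent.Lib.AbelianTwoBlock.Local
import Cfsg.Agent.Lib.Invol.SectionAverage
import Cfsg.Agent.Lib.Invol.Dihedral
import Cfsg.Agent.Lib.Blk83.InvolutionColumn

/-!
# The sum of cubes over the principal block at an involution

For an elementary abelian Sylow subgroup and one class of involutions, the pairs of involutions
with product in the section of `t` are counted inside an odd subgroup extended by the Sylow
subgroup.
-/

set_option autoImplicit false
set_option maxHeartbeats 1000000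
set_option linter.unusedSectionVars false
set_option linter.style.haveILetI false

open Cfsg
open scoped ComplexConjugate

namespace CfsgLib.AbelianTwo

open Subgroup

universe u

variable {G : Type u} [Group G] [Finite G]

section Coset

variable [Fintype G] [DecidableEq G] (W : Subgroup G)

open scoped Classical in
/-- The involutions in the coset `v W`. -/
noncomputable def cosetInvs (v : G) : Finset G :=
  Finset.univ.filter fun s => s * s = 1 ∧ v * s ∈ W

theorem mem_cosetInvs {v s : G} : s ∈ cosetInvs W v ↔ s * s = 1 ∧ v * s ∈ W := by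
  simp [cosetInvs]

open scoped Classical in
theorem card_conj_fibre {x y₀ : G} (hy₀ : y₀ ∈ W) :
    (Finset.univ.filter fun y : G => y ∈ W ∧ y * x * y⁻¹ = y₀ * x * y₀⁻¹).card =
      Nat.card (W ⊓ centralizer ({x} : Set G) : Subgroup G) := by
  rw [← Fintype.card_subtype, ← Nat.card_eq_fintype_card]
  refine Nat.card_congr
    { toFun := fun y => ⟨y₀⁻¹ * y.1, mem_inf.2 ⟨mul_mem (inv_mem hy₀) y.2.1,
        mem_centralizer_singleton_iff.2 ?_⟩⟩
      invFun := fun c => ⟨y₀ * c.1, mul_mem hy₀ (mem_inf.1 c.2).1, ?_⟩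
      left_inv := fun y => Subtype.ext (mul_inv_cancel_left y₀ y.1)
      right_inv := fun c => Subtype.ext (inv_mul_cancel_left y₀ c.1) }
  · calc y₀⁻¹ * y.1 * x = y₀⁻¹ * (y.1 * x * y.1⁻¹) * y.1 := by group
      _ = y₀⁻¹ * (y₀ * x * y₀⁻¹) * y.1 := by rw [y.2.2]
      _ = x * (y₀⁻¹ * y.1) := by group
  · calc y₀ * c.1 * x * (y₀ * c.1)⁻¹ = y₀ * (c.1 * x) * c.1⁻¹ * y₀⁻¹ := by group
      _ = y₀ * (x * c.1) * c.1⁻¹ * y₀⁻¹ := by
        rw [mem_centralizer_singleton_iff.1 (mem_inf.1 c.2).2]
      _ = y₀ * x * y₀⁻¹ := by group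

variable {W} (hodd : Odd (Nat.card W))

include hodd

theorem eq_one_of_mul_self {x : G} (hx : x ∈ W) (hxx : x * x = 1) : x = 1 := by
  by_contra h
  have h2 : orderOf x = 2 := orderOf_eq_prime (by rw [sq]; exact hxx) h
  have hd : 2 ∣ Nat.card W := by
    rw [← h2, ← orderOf_mk x hx]
    exact orderOf_dvd_natCard _
  exact Nat.not_even_iff_odd.2 hodd (even_iff_two_dvd.2 hd)

theorem odd_orderOf_mem {x : G} (hx : x ∈ W) : Odd (orderOf x) := by
  refine Nat.not_even_iff_odd.1 fun he => Nat.not_even_iff_odd.2 hodd ?_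
  refine even_iff_two_dvd.2 (he.two_dvd.trans ?_)
  rw [← orderOf_mk x hx]
  exact orderOf_dvd_natCard _

/-- Involutions of a coset of an odd subgroup are conjugate under it. -/
theorem exists_conj_coset {v s : G} (hv : v * v = 1) (hs : s * s = 1) (hvs : v * s ∈ W) :
    ∃ y ∈ W, y * v * y⁻¹ = s := by
  obtain ⟨k, hk⟩ := odd_orderOf_mem hodd hvs
  have hvi : v⁻¹ = v := inv_eq_of_mul_eq_one_right hv
  have hsi : s⁻¹ = s := inv_eq_of_mul_eq_one_right hs
  set z := (v * s) ^ (k + 1) with hz
  have hzz : z * z = v * s := by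
    rw [hz, ← pow_add, show k + 1 + (k + 1) = orderOf (v * s) + 1 by omega, pow_succ,
      pow_orderOf_eq_one, one_mul]
  have hinv : z⁻¹ = v * z * v := by
    have h1 : v * (v * s) * v⁻¹ = (v * s)⁻¹ := by
      rw [mul_inv_rev, hvi, hsi, ← mul_assoc, hv, one_mul]
    calc z⁻¹ = ((v * s)⁻¹) ^ (k + 1) := by rw [hz, inv_pow]
      _ = v * z * v := by rw [← h1, conj_pow, hvi, hz]
  refine ⟨z⁻¹, inv_mem (pow_mem hvs _), ?_⟩
  calc z⁻¹ * v * z⁻¹⁻¹ = v * z * (v * v) * z := by rw [inv_inv, hinv]; group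
    _ = v * (z * z) := by rw [hv, mul_one, mul_assoc]
    _ = s := by rw [hzz, ← mul_assoc, hv, one_mul]

open scoped Classical in
theorem card_cosetInvs {v : G} (hv : v * v = 1) (hvW : v ∈ normalizer (W : Set G)) :
    (cosetInvs W v).card * Nat.card (W ⊓ centralizer ({v} : Set G) : Subgroup G) =
      Nat.card W := by
  have hmap : ∀ y ∈ (Finset.univ.filter fun y : G => y ∈ W), y * v * y⁻¹ ∈ cosetInvs W v := by
    intro y hy
    have hy' : y ∈ W := (Finset.mem_filter.1 hy).2
    refine (mem_cosetInvs W).2 ⟨?_, ?_⟩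
    · calc y * v * y⁻¹ * (y * v * y⁻¹) = y * (v * v) * y⁻¹ := by group
        _ = 1 := by rw [hv, mul_one, mul_inv_cancel]
    · rw [show v * (y * v * y⁻¹) = v * y * v * y⁻¹ by group]
      refine mul_mem ?_ (inv_mem hy')
      have h := (mem_normalizer_iff.1 hvW y).1 hy'
      rwa [inv_eq_of_mul_eq_one_right hv] at h
  have h := Finset.card_eq_sum_card_fiberwise hmap
  rw [← Fintype.card_subtype, ← Nat.card_eq_fintype_card] at h
  rw [show Nat.card W = Nat.card {y : G // y ∈ W} from rfl, h, Finset.sum_congr rfl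
    (g := fun _ => Nat.card (W ⊓ centralizer ({v} : Set G) : Subgroup G)) fun s hs => ?_,
    Finset.sum_const, smul_eq_mul]
  obtain ⟨hs2, hvs⟩ := (mem_cosetInvs W).1 hs
  obtain ⟨y₀, hy₀, rfl⟩ := exists_conj_coset hodd hv hs2 hvs
  rw [Finset.filter_filter]
  exact card_conj_fibre W hy₀

/-- The middle involution of a product of two involutions in the coset `W t`. -/
theorem exists_middle {s u t : G} (hs : s * s = 1) (hu : u * u = 1) (ht : t * t = 1)
    (htW : t ∈ normalizer (W : Set G)) (hg : s * u * t ∈ W) :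
    ∃ r : G, r * r = 1 ∧ t * r ∈ W ∧ Commute r s ∧ Commute r u ∧
      ∀ x : G, Commute x (s * u) → Commute x r := by
  have hti : t⁻¹ = t := inv_eq_of_mul_eq_one_right ht
  have hsi : s⁻¹ = s := inv_eq_of_mul_eq_one_right hs
  have hui : u⁻¹ = u := inv_eq_of_mul_eq_one_right hu
  set g := s * u with hgdef
  have hg2 : g * g ∈ W := by
    have h := mul_mem hg ((mem_normalizer_iff.1 htW _).1 hg)
    rw [hti] at h
    have e : g * t * (t * (g * t) * t) = g * (t * t) * g * (t * t) := by group
    rw [e, ht, mul_one, mul_one] at h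
    exact h
  obtain ⟨k, hk⟩ := odd_orderOf_mem hodd hg2
  set r := g ^ orderOf (g * g) with hr
  have hrr : r * r = 1 := by
    rw [hr, ← pow_add, ← two_mul, pow_mul, sq, pow_orderOf_eq_one]
  have hri : r⁻¹ = r := inv_eq_of_mul_eq_one_right hrr
  have hrt : r * t ∈ W := by
    have e : r * t = (g * g) ^ k * (g * t) := by
      rw [hr, hk, pow_succ, pow_mul, sq, mul_assoc]
    rw [e]
    exact mul_mem (pow_mem hg2 k) hg
  refine ⟨r, hrr, ?_, ?_, ?_, fun x hx => hx.pow_right _⟩
  · have := inv_mem hrt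
    rwa [mul_inv_rev, hti, hri] at this
  · have h1 : s * g * s⁻¹ = g⁻¹ := by rw [hgdef, mul_inv_rev, hui, hsi, ← mul_assoc, hs, one_mul]
    have h2 : s * r * s⁻¹ = r := by
      rw [hr, ← conj_pow, h1, inv_pow, ← hr, hri]
    exact (mul_inv_eq_iff_eq_mul.1 h2).symm
  · have h1 : u * g * u⁻¹ = g⁻¹ := by
      rw [hgdef, mul_inv_rev, hui, hsi, mul_assoc, mul_assoc, hu, mul_one]
    have h2 : u * r * u⁻¹ = r := by
      rw [hr, ← conj_pow, h1, inv_pow, ← hr, hri]
    exact (mul_inv_eq_iff_eq_mul.1 h2).symm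

/-- The middle involution is the only commuting one in its coset. -/
theorem middle_unique {r r' t : G} (ht : t * t = 1) (hr : r * r = 1) (hr' : r' * r' = 1)
    (hrW : t * r ∈ W) (hr'W : t * r' ∈ W) (hc : Commute r r') : r' = r := by
  have h1 : r * r' ∈ W := by
    have h := mul_mem (inv_mem hrW) hr'W
    rwa [mul_inv_rev, inv_eq_of_mul_eq_one_right hr, inv_eq_of_mul_eq_one_right ht, mul_assoc,
      ← mul_assoc t, ht, one_mul] at h
  have h2 : r * r' * (r * r') = 1 := by
    calc r * r' * (r * r') = r * (r' * r) * r' := by group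
      _ = r * (r * r') * r' := by rw [hc.eq]
      _ = (r * r) * (r' * r') := by group
      _ = 1 := by rw [hr, hr', one_mul]
  rw [← inv_eq_of_mul_eq_one_right (eq_one_of_mul_self hodd h1 h2), inv_eq_of_mul_eq_one_right hr]

theorem mul_mem_coset {v w t a b : G} (ht : t * t = 1) (hv : v * v = 1) (hw : w * w = 1)
    (hvw : v * w = t) (htW : t ∈ normalizer (W : Set G)) (hvW : v ∈ normalizer (W : Set G))
    (ha : v * a ∈ W) (hb : w * b ∈ W) : a * b * t ∈ W := by
  have htw : t * w = v := by rw [← hvw, mul_assoc, hw, mul_one]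
  have h1 := (mem_normalizer_iff.1 hvW _).1 ha
  rw [inv_eq_of_mul_eq_one_right hv, ← mul_assoc v v, hv, one_mul] at h1
  have h2 := (mem_normalizer_iff.1 htW _).1 hb
  rw [inv_eq_of_mul_eq_one_right ht, ← mul_assoc t w, htw] at h2
  have e : a * b * t = a * v * (v * b * t) := by
    calc a * b * t = a * (v * v) * b * t := by rw [hv, mul_one]
      _ = a * v * (v * b * t) := by group
  rw [e]
  exact mul_mem h1 h2

open scoped Classical in
theorem conj_mem_cosetInvs {v s y : G} (hv : v * v = 1) (hvW : v ∈ normalizer (W : Set G))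
    (hy : y ∈ W) (hs : s ∈ cosetInvs W v) : y * s * y⁻¹ ∈ cosetInvs W v := by
  obtain ⟨hs2, hvs⟩ := (mem_cosetInvs W).1 hs
  refine (mem_cosetInvs W).2 ⟨?_, ?_⟩
  · calc y * s * y⁻¹ * (y * s * y⁻¹) = y * (s * s) * y⁻¹ := by group
      _ = 1 := by rw [hs2, mul_one, mul_inv_cancel]
  · have h := (mem_normalizer_iff.1 hvW y).1 hy
    rw [inv_eq_of_mul_eq_one_right hv] at h
    have e : v * (y * s * y⁻¹) = v * y * v * (v * s) * y⁻¹ := by
      calc v * (y * s * y⁻¹) = v * y * s * y⁻¹ := by group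
        _ = v * y * (v * v) * s * y⁻¹ := by rw [hv, mul_one]
        _ = v * y * v * (v * s) * y⁻¹ := by group
    rw [e]
    exact mul_mem (mul_mem h hvs) (inv_mem hy)

open scoped Classical in
/-- Counting by the middle involution. -/
theorem card_mul_card_eq {v w t : G} (ht : t * t = 1) (hv : v * v = 1) (hw : w * w = 1)
    (hvw : v * w = t)
    (htW : t ∈ normalizer (W : Set G)) (hvW : v ∈ normalizer (W : Set G))
    (hwW : w ∈ normalizer (W : Set G)) :
    (cosetInvs W v).card * (cosetInvs W w).card = (cosetInvs W t).card *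
      ((cosetInvs W v ×ˢ cosetInvs W w).filter fun su =>
        Commute t su.1 ∧ Commute t su.2).card := by
  set F := fun r : G => (cosetInvs W v ×ˢ cosetInvs W w).filter fun su =>
    Commute r su.1 ∧ Commute r su.2 with hF
  have hmid : ∀ su ∈ cosetInvs W v ×ˢ cosetInvs W w, ∃ r ∈ cosetInvs W t,
      su ∈ F r ∧ ∀ r' ∈ cosetInvs W t, su ∈ F r' → r' = r := by
    intro su hsu
    obtain ⟨hs, hu⟩ := Finset.mem_product.1 hsu
    rw [mem_cosetInvs] at hs hu
    obtain ⟨r, hrr, hrt, hrs, hru, hcent⟩ := exists_middle hodd hs.1 hu.1 ht htW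
      (mul_mem_coset hodd ht hv hw hvw htW hvW hs.2 hu.2)
    refine ⟨r, (mem_cosetInvs W).2 ⟨hrr, hrt⟩, Finset.mem_filter.2 ⟨hsu, hrs, hru⟩, ?_⟩
    intro r' hr' h'
    rw [mem_cosetInvs] at hr'
    obtain ⟨-, hs', hu'⟩ := Finset.mem_filter.1 h'
    exact middle_unique hodd ht hrr hr'.1 hrt hr'.2 (hcent r' (hs'.mul_right hu')).symm
  have hunion : cosetInvs W v ×ˢ cosetInvs W w = (cosetInvs W t).biUnion F := by
    ext su
    refine ⟨fun hsu => ?_, fun hsu => ?_⟩
    · obtain ⟨r, hr, h, -⟩ := hmid su hsu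
      exact Finset.mem_biUnion.2 ⟨r, hr, h⟩
    · obtain ⟨r, -, h⟩ := Finset.mem_biUnion.1 hsu
      exact (Finset.mem_filter.1 h).1
  have hdisj : ((cosetInvs W t : Finset G) : Set G).PairwiseDisjoint F := by
    intro r hr r' hr' hne
    refine Finset.disjoint_left.2 fun su h h' => hne ?_
    obtain ⟨r₀, -, -, huniq⟩ := hmid su (Finset.mem_filter.1 h).1
    rw [huniq r hr h, huniq r' hr' h']
  have hfib : ∀ r ∈ cosetInvs W t, (F r).card = (F t).card := by
    intro r hr
    rw [mem_cosetInvs] at hr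
    obtain ⟨y, hy, rfl⟩ := exists_conj_coset hodd ht hr.1 hr.2
    refine Finset.card_bij' (fun su _ => (y⁻¹ * su.1 * y, y⁻¹ * su.2 * y))
      (fun su _ => (y * su.1 * y⁻¹, y * su.2 * y⁻¹)) ?_ ?_ ?_ ?_
    · intro su hsu
      obtain ⟨hm, hs, hu⟩ := Finset.mem_filter.1 hsu
      obtain ⟨hms, hmu⟩ := Finset.mem_product.1 hm
      have h1 := conj_mem_cosetInvs hodd hv hvW (inv_mem hy) hms
      have h2 := conj_mem_cosetInvs hodd hw hwW (inv_mem hy) hmu
      rw [inv_inv] at h1 h2
      refine Finset.mem_filter.2 ⟨Finset.mem_product.2 ⟨h1, h2⟩, ?_, ?_⟩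
      · simpa [mul_assoc] using hs.map (MulAut.conj y⁻¹).toMonoidHom
      · simpa [mul_assoc] using hu.map (MulAut.conj y⁻¹).toMonoidHom
    · intro su hsu
      obtain ⟨hm, hs, hu⟩ := Finset.mem_filter.1 hsu
      obtain ⟨hms, hmu⟩ := Finset.mem_product.1 hm
      exact Finset.mem_filter.2 ⟨Finset.mem_product.2
        ⟨conj_mem_cosetInvs hodd hv hvW hy hms, conj_mem_cosetInvs hodd hw hwW hy hmu⟩,
        hs.map (MulAut.conj y).toMonoidHom, hu.map (MulAut.conj y).toMonoidHom⟩
    · intro su _; simp [mul_assoc]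
    · intro su _; simp [mul_assoc]
  show _ = _ * (F t).card
  rw [← Finset.card_product, hunion, Finset.card_biUnion hdisj, Finset.sum_congr rfl hfib,
    Finset.sum_const, smul_eq_mul]

end Coset

open scoped Classical in
/-- The sum of cubes at an involution. -/
theorem sum_cube_eq {M : Ideal Cfsg.AlgInt} (hM : IsPModular 2 M) (P : Sylow 2 G)
    (hab : IsMulCommutative (P : Subgroup G))
    (hfix : ∀ y ∈ (P : Subgroup G), y ≠ 1 →
      centralizer ({y} : Set G) ⊓ normalizer ((P : Subgroup G) : Set G) ≤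
        centralizer ((P : Subgroup G) : Set G))
    (L : LocalData P) (hone : ∀ s t : G, orderOf s = 2 → orderOf t = 2 → IsConj s t)
    (hel : ∀ x ∈ (P : Subgroup G), x * x = 1) {t : G} (ht : t ∈ (P : Subgroup G)) (ht1 : t ≠ 1) :
    (L.H.index : ℂ) * ((centralizer ((P : Subgroup G) : Set G)).relIndex
        (normalizer ((P : Subgroup G) : Set G)) : ℂ) *
      (∑ᶠ χ ∈ Cfsg.principalBlock M G, (χ : G → ℂ) t ^ 3 / (χ : G → ℂ) 1) =
      (Nat.card (P : Subgroup G) : ℂ) * ((Nat.card (P : Subgroup G) : ℂ) - 2) := by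
  haveI : Fact (Nat.Prime 2) := ⟨Nat.prime_two⟩
  haveI := hab
  cases nonempty_fintype G
  have hodd := L.odd
  set W := L.W with hWdef
  set q := Nat.card (P : Subgroup G) with hqdef
  have htt := hel t ht
  have hti : t⁻¹ = t := inv_eq_of_mul_eq_one_right htt
  have hot : orderOf t = 2 := orderOf_eq_prime (by rw [sq]; exact htt) ht1
  have hPN : (P : Subgroup G) ≤ normalizer (W : Set G) :=
    le_trans (le_trans le_normalizer L.normalizer_le) L.W_normal
  have hPW : ∀ x ∈ (P : Subgroup G), x ∈ W → x = 1 := fun x hx hxW =>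
    eq_one_of_mul_self hodd hxW (hel x hx)
  -- decomposition in the centralisers
  have hdec : ∀ x ∈ (P : Subgroup G), x ≠ 1 → ∀ c ∈ centralizer ({x} : Set G),
      ∃ p ∈ (P : Subgroup G), p * c ∈ W := by
    intro x hx hx1 c hc
    have h2 : c ∈ ((W ⊔ (P : Subgroup G) : Subgroup G) : Set G) :=
      L.centralizer_le_sup x hx hx1 (hel x hx) hc
    rw [sup_comm, coe_mul_of_left_le_normalizer_right _ _ hPN] at h2
    obtain ⟨p, hp, w, hw, rfl⟩ := h2
    exact ⟨p, hp, by rw [← mul_assoc, hel p hp, one_mul]; exact hw⟩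
  -- the local complement
  obtain ⟨K, hidx, hreg, -⟩ := Blk83.exists_local_complement P hM ht (hfix t ht ht1)
  have hKn : K.Normal := ⟨fun n hn g => (hreg _).1 (by
    have : orderOf (g * n * g⁻¹) = orderOf n :=
      orderOf_injective (MulAut.conj g).toMonoidHom (MulAut.conj g).injective n
    rw [Cfsg.IsPRegular, this]
    exact (hreg n).2 hn)⟩
  haveI := hKn
  haveI : Fintype K := Fintype.ofFinite _
  have hKmem : ∀ c : centralizer ({t} : Set G), c ∈ K ↔ (c : G) ∈ W := by
    intro c
    rw [← hreg, Cfsg.IsPRegular, ← Subgroup.orderOf_coe]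
    refine ⟨fun hc => ?_, fun hc h2 => ?_⟩
    · obtain ⟨p, hp, hpc⟩ := hdec t ht ht1 c c.2
      by_cases hp1 : p = 1
      · rwa [hp1, one_mul] at hpc
      · exfalso
        have hcW : ∀ n : ℕ, p ^ n * (c : G) ^ n ∈ W := by
          intro n
          induction n with
          | zero => simp
          | succ n ih =>
            have h := (mem_normalizer_iff.1 (hPN hp) _).1 ih
            have e : p ^ (n + 1) * (c : G) ^ (n + 1) =
                p * (p ^ n * (c : G) ^ n) * p⁻¹ * (p * (c : G)) := by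
              rw [pow_succ', pow_succ]; group
            rw [e]
            exact mul_mem h hpc
        have h := hcW (orderOf (c : G))
        rw [pow_orderOf_eq_one, mul_one] at h
        obtain ⟨k, hk⟩ := Nat.odd_iff.2 (Nat.two_dvd_ne_zero.1 hc)
        rw [hk, pow_succ, pow_mul, sq, hel p hp, one_pow, one_mul] at h
        exact hp1 (hPW p hp h)
    · exact Nat.not_even_iff_odd.2 (odd_orderOf_mem hodd hc) (even_iff_two_dvd.2 h2)
  set k := Nat.card (W ⊓ centralizer ({t} : Set G) : Subgroup G) with hkdef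
  have hKcard : Nat.card K = k := by
    refine Nat.card_congr
      { toFun := fun n => ⟨((n : centralizer ({t} : Set G)) : G),
          mem_inf.2 ⟨(hKmem _).1 n.2, (n : centralizer ({t} : Set G)).2⟩⟩
        invFun := fun x => ⟨⟨(x : G), (mem_inf.1 x.2).2⟩, (hKmem _).2 (mem_inf.1 x.2).1⟩
        left_inv := fun n => rfl
        right_inv := fun x => rfl }
  have hCcard : ∀ x ∈ (P : Subgroup G), x ≠ 1 → Nat.card (centralizer ({x} : Set G)) =
      q * Nat.card (W ⊓ centralizer ({x} : Set G) : Subgroup G) := by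
    intro x hx hx1
    rw [hqdef, ← Nat.card_prod]
    refine (Nat.card_eq_of_bijective (fun a : ↥(P : Subgroup G) ×
      ↥(W ⊓ centralizer ({x} : Set G)) => (⟨(a.1 : G) * a.2, mul_mem
        (Blk83.sylow_le_centralizer_singleton P hx a.1.2) (mem_inf.1 a.2.2).2⟩ :
          centralizer ({x} : Set G))) ⟨?_, ?_⟩).symm
    · rintro ⟨p, w⟩ ⟨p', w'⟩ e
      have e' : (p : G) * w = p' * w' := congrArg Subtype.val e
      have h1 : (p' : G)⁻¹ * p ∈ W := by
        have h2 : (p' : G)⁻¹ * p = w' * (w : G)⁻¹ := by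
          rw [eq_mul_inv_iff_mul_eq, mul_assoc, e', inv_mul_cancel_left]
        rw [h2]
        exact mul_mem (mem_inf.1 w'.2).1 (inv_mem (mem_inf.1 w.2).1)
      have hp : p' = p := Subtype.ext
        (inv_mul_eq_one.1 (hPW _ (mul_mem (inv_mem p'.2) p.2) h1))
      subst hp
      exact Prod.ext rfl (Subtype.ext (mul_left_cancel e'))
    · rintro ⟨c, hc⟩
      obtain ⟨p, hp, hpc⟩ := hdec x hx hx1 c hc
      refine ⟨⟨⟨p, hp⟩, ⟨p * c, mem_inf.2 ⟨hpc,
        mul_mem (Blk83.sylow_le_centralizer_singleton P hx hp) hc⟩⟩⟩, Subtype.ext ?_⟩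
      show p * (p * c) = c
      rw [← mul_assoc, hel p hp, one_mul]
  have hsame : ∀ x ∈ (P : Subgroup G), x ≠ 1 →
      Nat.card (W ⊓ centralizer ({x} : Set G) : Subgroup G) = k := by
    intro x hx hx1
    obtain ⟨a, ha⟩ := isConj_iff.1
      (hone t x hot (orderOf_eq_prime (by rw [sq]; exact hel x hx) hx1))
    have hconj : Nat.card (centralizer ({t} : Set G)) = Nat.card (centralizer ({x} : Set G)) := by
      refine Nat.card_congr ((MulAut.conj a).toEquiv.subtypeEquiv fun c => ?_)
      show c ∈ centralizer ({t} : Set G) ↔ a * c * a⁻¹ ∈ centralizer ({x} : Set G)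
      rw [mem_centralizer_singleton_iff, mem_centralizer_singleton_iff, ← ha,
        show a * c * a⁻¹ * (a * t * a⁻¹) = a * (c * t) * a⁻¹ by group,
        show a * t * a⁻¹ * (a * c * a⁻¹) = a * (t * c) * a⁻¹ by group,
        mul_left_inj, mul_right_inj]
    rw [hCcard t ht ht1, hCcard x hx hx1, ← hkdef] at hconj
    exact (Nat.eq_of_mul_eq_mul_left (hqdef ▸ Nat.card_pos) hconj).symm
  have hkpos : 0 < k := Nat.card_pos
  -- the pairs of involutions over the section
  set NS := Finset.univ.filter fun su : G × G => orderOf su.1 = 2 ∧ orderOf su.2 = 2 ∧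
    t * (su.1 * su.2) ∈ W ∧ t * (su.1 * su.2) ∈ centralizer ({t} : Set G) with hNS
  set V' := (Finset.univ.filter fun x : G => x ∈ (P : Subgroup G)).erase 1 |>.erase t with hV'
  set F := fun v : G => (cosetInvs W v ×ˢ cosetInvs W (v * t)).filter fun su =>
    Commute t su.1 ∧ Commute t su.2 with hFdef
  have hV'mem : ∀ v, v ∈ V' ↔ v ≠ t ∧ v ≠ 1 ∧ v ∈ (P : Subgroup G) := by simp [hV']
  have hord : ∀ {v s : G}, v ∈ (P : Subgroup G) → v ≠ 1 → s * s = 1 → v * s ∈ W →
      orderOf s = 2 := fun {v s} hv hv1 hs hvs => by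
    refine orderOf_eq_prime (by rw [sq]; exact hs) fun h => hv1 (hPW v hv ?_)
    rwa [h, mul_one] at hvs
  have hNSeq : NS = V'.biUnion F := by
    ext su
    refine ⟨fun h => ?_, fun h => ?_⟩
    · obtain ⟨-, hs, hu, hW, hC⟩ := Finset.mem_filter.1 h
      have hs2 := Invol.mul_self_eq_one hs
      have hu2 := Invol.mul_self_eq_one hu
      have hg : su.1 * su.2 * t ∈ W := by
        have h1 := (mem_normalizer_iff.1 (hPN ht) _).1 hW
        rwa [hti, ← mul_assoc t t, htt, one_mul] at h1
      obtain ⟨r, hrr, hrt, hrs, hru, hcent⟩ := exists_middle hodd hs2 hu2 htt (hPN ht) hg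
      have htg : Commute t (su.1 * su.2) := by
        have h1 : Commute t (t * (su.1 * su.2)) := (mem_centralizer_singleton_iff.1 hC).symm
        have h2 := (Commute.refl t).mul_right h1
        rwa [← mul_assoc t t, htt, one_mul] at h2
      have hrt' : t = r := middle_unique hodd htt hrr htt hrt
        (by rw [htt]; exact one_mem _) (hcent t htg).symm
      rw [← hrt'] at hrs hru
      obtain ⟨v, hv, hvs⟩ := hdec t ht ht1 su.1 (mem_centralizer_singleton_iff.2 hrs.eq.symm)
      have hvv := hel v hv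
      have hvu : v * t * su.2 ∈ W := by
        have hconjt := (mem_normalizer_iff.1 (hPN ht) _).1 (inv_mem hvs)
        rw [hti, mul_inv_rev, inv_eq_of_mul_eq_one_right hs2,
          inv_eq_of_mul_eq_one_right hvv] at hconjt
        have hvt : v * t = t * v := Blk83.commute_of_mem_sylow P hv ht
        have e : v * t * su.2 = t * (v * su.1) * t * (t * (su.1 * su.2)) := by
          calc v * t * su.2 = t * v * (su.1 * su.1) * su.2 := by rw [hvt, hs2, mul_one]
            _ = t * (v * su.1) * (t * t) * (su.1 * su.2) := by rw [htt, mul_one]; group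
            _ = t * (v * su.1) * t * (t * (su.1 * su.2)) := by group
        rw [e]
        refine mul_mem ?_ hW
        have h1 := (mem_normalizer_iff.1 (hPN ht) _).1 hvs
        rwa [hti] at h1
      have hv1 : v ≠ 1 := fun e => by
        subst e
        rw [one_mul] at hvs
        exact Invol.ne_one_of_invol hs (eq_one_of_mul_self hodd hvs hs2)
      have hvt : v ≠ t := fun e => by
        subst e
        rw [htt, one_mul] at hvu
        exact Invol.ne_one_of_invol hu (eq_one_of_mul_self hodd hvu hu2)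
      exact Finset.mem_biUnion.2 ⟨v, (hV'mem v).2 ⟨hvt, hv1, hv⟩, Finset.mem_filter.2
        ⟨Finset.mem_product.2 ⟨(mem_cosetInvs W).2 ⟨hs2, hvs⟩, (mem_cosetInvs W).2 ⟨hu2, hvu⟩⟩,
          hrs, hru⟩⟩
    · obtain ⟨v, hvV, hF⟩ := Finset.mem_biUnion.1 h
      obtain ⟨hvt, hv1, hv⟩ := (hV'mem v).1 hvV
      obtain ⟨hm, hs, hu⟩ := Finset.mem_filter.1 hF
      obtain ⟨hms, hmu⟩ := Finset.mem_product.1 hm
      rw [mem_cosetInvs] at hms hmu
      have hvv := hel v hv
      have hvt' : v * t ∈ (P : Subgroup G) := mul_mem hv ht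
      have hw1 : v * t ≠ 1 := fun e => hvt (by rw [mul_eq_one_iff_eq_inv.1 e, hti])
      refine Finset.mem_filter.2 ⟨Finset.mem_univ _, hord hv hv1 hms.1 hms.2,
        hord hvt' hw1 hmu.1 hmu.2, ?_, ?_⟩
      · have h1 := mul_mem_coset hodd htt hvv (hel _ hvt')
          (show v * (v * t) = t by rw [← mul_assoc, hvv, one_mul]) (hPN ht) (hPN hv) hms.2 hmu.2
        have h2 := (mem_normalizer_iff.1 (hPN ht) _).1 h1
        rwa [hti, mul_assoc, mul_assoc _ t t, htt, mul_one] at h2
      · exact mem_centralizer_singleton_iff.2 (((Commute.refl t).mul_right (hs.mul_right hu)).eq).symm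
  have hdisj : ((V' : Finset G) : Set G).PairwiseDisjoint F := by
    intro v hv v' hv' hne
    refine Finset.disjoint_left.2 fun su h h' => hne ?_
    have h1 := ((mem_cosetInvs W).1 (Finset.mem_product.1 (Finset.mem_filter.1 h).1).1).2
    have h2 := ((mem_cosetInvs W).1 (Finset.mem_product.1 (Finset.mem_filter.1 h').1).1).2
    have hvP := ((hV'mem v).1 hv).2.2
    have hvP' := ((hV'mem v').1 hv').2.2
    have h3 := mul_mem h1 (inv_mem h2)
    rw [mul_inv_rev, mul_assoc, mul_inv_cancel_left, inv_eq_of_mul_eq_one_right (hel v' hvP')] at h3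
    have h4 := hPW _ (mul_mem hvP hvP') h3
    rw [mul_eq_one_iff_eq_inv.1 h4, inv_eq_of_mul_eq_one_right (hel v' hvP')]
  have hFcard : ∀ v ∈ V', (F v).card * k = Nat.card W := by
    intro v hvV
    obtain ⟨hvt, hv1, hv⟩ := (hV'mem v).1 hvV
    have hvv := hel v hv
    have hvt' : v * t ∈ (P : Subgroup G) := mul_mem hv ht
    have hw1 : v * t ≠ 1 := fun e => hvt (by rw [mul_eq_one_iff_eq_inv.1 e, hti])
    have hI : ∀ x ∈ (P : Subgroup G), x ≠ 1 → (cosetInvs W x).card * k = Nat.card W :=
      fun x hx hx1 => by rw [← hsame x hx hx1]; exact card_cosetInvs hodd (hel x hx) (hPN hx)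
    have h := card_mul_card_eq hodd htt hvv (hel _ hvt')
      (show v * (v * t) = t by rw [← mul_assoc, hvv, one_mul]) (hPN ht) (hPN hv) (hPN hvt')
    have h1 := hI v hv hv1
    have h2 := hI _ hvt' hw1
    have h3 := hI t ht ht1
    have hI0 : 0 < (cosetInvs W t).card := by
      rcases Nat.eq_zero_or_pos (cosetInvs W t).card with h0 | h0
      · rw [h0, zero_mul] at h3
        exact absurd h3.symm Nat.card_pos.ne'
      · exact h0
    refine Nat.eq_of_mul_eq_mul_left (Nat.mul_pos hI0 hkpos) ?_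
    calc (cosetInvs W t).card * k * ((F v).card * k)
          = (cosetInvs W t).card * (F v).card * k * k := by ring
      _ = (cosetInvs W v).card * k * ((cosetInvs W (v * t)).card * k) := by rw [← h]; ring
      _ = (cosetInvs W t).card * k * Nat.card W := by rw [h1, h2, h3]
  have hN : NS.card * k = (q - 2) * Nat.card W := by
    rw [hNSeq, Finset.card_biUnion hdisj, Finset.sum_mul, Finset.sum_congr rfl hFcard,
      Finset.sum_const, smul_eq_mul]
    congr 1
    rw [hV', Finset.card_erase_of_mem (Finset.mem_erase.2 ⟨ht1, by simp [ht]⟩),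
      Finset.card_erase_of_mem (by simp), ← Fintype.card_subtype, ← Nat.card_eq_fintype_card,
      hqdef]
    rfl
  -- the count of the class algebra
  obtain ⟨l, hl⟩ := IsPGroup.iff_card.1 P.isPGroup'
  have hKodd : ¬ 2 ∣ Nat.card K := fun h2 => by
    obtain ⟨c, hc⟩ := exists_prime_orderOf_dvd_card' (G := K) 2 h2
    exact (hreg c).2 c.2 (by rw [Subgroup.orderOf_coe, hc])
  have havg : ∀ χ : IrrCharacter G,
      ∑ n : K, (χ : G → ℂ) (t * ((n : centralizer ({t} : Set G)) : G)) =
        if χ ∈ Invol.BlockCol.pBlock M G then (Nat.card K : ℂ) * (χ : G → ℂ) t else 0 :=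
    fun χ => by
      convert Invol.SectionAverage.sum_section_coset hM (Blk83.pElement_of_mem_sylow P ht) K
        hKodd (hidx.trans hl) χ using 2
  have hcount := Finset.sum_congr (s₂ := (Finset.univ : Finset K)) rfl (fun n _ =>
    Invol.SectionAverage.sum_sq_mul_div hti (t * ((n : centralizer ({t} : Set G)) : G)))
  rw [← Finset.mul_sum, Finset.sum_comm] at hcount
  simp only [← Finset.sum_div, ← Finset.mul_sum, havg, mul_ite, mul_zero, ite_div, zero_div] at hcount
  rw [Finset.sum_ite_mem, Finset.univ_inter] at hcount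
  have hpB : Invol.BlockCol.pBlock M G = (Set.toFinite (Cfsg.principalBlock M G)).toFinset := by
    ext χ
    rw [Invol.BlockCol.mem_pBlock, Set.Finite.mem_toFinset]
  rw [hpB, ← Nat.cast_sum] at hcount
  have hlhs : ∑ χ ∈ (Set.toFinite (Cfsg.principalBlock M G)).toFinset,
      (χ : G → ℂ) t * (χ : G → ℂ) t * ((Nat.card K : ℂ) * (χ : G → ℂ) t) / (χ : G → ℂ) 1 =
      (Nat.card K : ℂ) *
        ∑ᶠ χ ∈ Cfsg.principalBlock M G, (χ : G → ℂ) t ^ 3 / (χ : G → ℂ) 1 := by
    rw [finsum_mem_eq_finite_toFinset_sum _ (Set.toFinite _), Finset.mul_sum]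
    exact Finset.sum_congr rfl fun χ _ => by ring
  rw [hlhs] at hcount
  -- pairs of conjugating elements
  set S := Finset.univ.filter fun ab : G × G =>
    (ab.1 * t * ab.1⁻¹, ab.2 * t * ab.2⁻¹) ∈ NS with hS
  have hScard : S.card = NS.card * (q * k) ^ 2 := by
    have h := Finset.card_eq_sum_card_fiberwise (s := S) (t := NS)
      (f := fun ab : G × G => (ab.1 * t * ab.1⁻¹, ab.2 * t * ab.2⁻¹))
      (fun ab hab => (Finset.mem_filter.1 hab).2)
    rw [h, Finset.sum_congr rfl (g := fun _ => (q * k) ^ 2) fun su hsu => ?_, Finset.sum_const,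
      smul_eq_mul]
    obtain ⟨-, hs, hu, -, -⟩ := Finset.mem_filter.1 hsu
    obtain ⟨a₀, ha₀⟩ := isConj_iff.1 (hone t su.1 hot hs)
    obtain ⟨b₀, hb₀⟩ := isConj_iff.1 (hone t su.2 hot hu)
    have hfull : ∀ y₀ : G, (Finset.univ.filter fun y : G =>
        y * t * y⁻¹ = y₀ * t * y₀⁻¹).card = q * k := by
      intro y₀
      have := card_conj_fibre (⊤ : Subgroup G) (x := t) (mem_top y₀)
      rw [top_inf_eq, hCcard t ht ht1] at this
      rw [← this]
      congr 1
      ext y
      simp
    have e : (S.filter fun ab : G × G => (ab.1 * t * ab.1⁻¹, ab.2 * t * ab.2⁻¹) = su) =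
        (Finset.univ.filter fun y : G => y * t * y⁻¹ = a₀ * t * a₀⁻¹) ×ˢ
          (Finset.univ.filter fun y : G => y * t * y⁻¹ = b₀ * t * b₀⁻¹) := by
      ext ab
      simp only [hS, Finset.mem_filter, Finset.mem_univ, true_and, Finset.mem_product, ha₀, hb₀,
        Prod.ext_iff]
      constructor
      · rintro ⟨-, h⟩
        exact h
      · intro h
        refine ⟨?_, h⟩
        rw [h.1, h.2]
        exact hsu
    rw [e, Finset.card_product, hfull, hfull, sq]
  have hSsum : (∑ n : K, (Finset.univ.filter fun ab : G × G =>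
      ab.1 * t * ab.1⁻¹ * (ab.2 * t * ab.2⁻¹) =
        t * ((n : centralizer ({t} : Set G)) : G)).card) = S.card := by
    rw [← Finset.card_biUnion]
    · congr 1
      ext ab
      have hconj : ∀ a : G, orderOf (a * t * a⁻¹) = 2 := fun a => by rw [Invol.orderOf_conj, hot]
      simp only [Finset.mem_biUnion, Finset.mem_filter, Finset.mem_univ, true_and, hS, hNS, hconj]
      constructor
      · rintro ⟨n, hn⟩
        rw [hn, ← mul_assoc, htt, one_mul]
        exact ⟨(hKmem _).1 n.2, (n : centralizer ({t} : Set G)).2⟩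
      · rintro ⟨hW, hC⟩
        refine ⟨⟨⟨_, hC⟩, (hKmem _).2 hW⟩, ?_⟩
        show _ = t * (t * _)
        simp [← mul_assoc, htt]
    · intro n _ n' _ hne
      refine Finset.disjoint_left.2 fun ab h h' => hne ?_
      have h1 := (Finset.mem_filter.1 h).2.symm.trans (Finset.mem_filter.1 h').2
      exact Subtype.ext (Subtype.ext (mul_left_cancel h1))
  rw [hSsum, hScard, hKcard, ← Nat.card_eq_fintype_card] at hcount
  -- the order of `G`
  have hG : Nat.card G = L.H.index * (Nat.card W * q *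
      (centralizer ((P : Subgroup G) : Set G)).relIndex
        (normalizer ((P : Subgroup G) : Set G))) := by
    rw [← L.H.index_mul_card, L.card_H]
  have hq2 : 2 ≤ q := by
    rw [hqdef, Nat.succ_le_iff, Finite.one_lt_card_iff_nontrivial]
    exact ⟨⟨t, ht⟩, 1, fun e => ht1 (congrArg Subtype.val e)⟩
  have hNC : (NS.card : ℂ) * k = ((q : ℂ) - 2) * Nat.card W := by
    have := congrArg (Nat.cast : ℕ → ℂ) hN
    push_cast [Nat.cast_sub hq2] at this
    exact this
  rw [hG] at hcount
  push_cast at hcount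
  have hne : ((Nat.card W : ℂ) * q * k) ≠ 0 := by
    have h1 : (Nat.card W : ℂ) ≠ 0 := Nat.cast_ne_zero.2 Nat.card_pos.ne'
    have h2 : (q : ℂ) ≠ 0 := Nat.cast_ne_zero.2 (by omega)
    have h3 : (k : ℂ) ≠ 0 := Nat.cast_ne_zero.2 hkpos.ne'
    exact mul_ne_zero (mul_ne_zero h1 h2) h3
  refine mul_left_cancel₀ hne ?_
  linear_combination hcount + ((q : ℂ) ^ 2 * k) * hNC

end CfsgLib.AbelianTwo
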