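import Cfsg.Agent.Lib.AbelianTwoBlock.SumBound
import Cfsg.Agent.Lib.AbelianTwoBlock.SectionCount

/-!
# Sylow order sixteen with inertial index fifteen

A weight bound on the negative terms of the cube sum bounds the index of the strongly embedded
subgroup, so its odd core is trivial; counting involutions coset by coset then shows that every
two-point stabiliser has order fifteen.
-/

set_option autoImplicit false
set_option maxHeartbeats 1000000
set_option linter.style.haveILetI false

open Cfsg
open scoped ComplexConjugate IsMulCommutative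

namespace CfsgLib.AbelianTwo

open CfsgLib.Blk83

universe u

variable {G : Type u} [Group G] [Finite G]

/-- The average of a character over a nontrivial subgroup is less than its degree when the group has
no odd core and no involution lies in the kernel. -/
theorem exists_avg_lt [Fintype G] (χ : IrrCharacter G) (W : Subgroup G) [Fintype W] (hW : W ≠ ⊥)
    (hcore : ∀ N : Subgroup G, N.Normal → Odd (Nat.card N) → N = ⊥)
    {m : ℕ} (hm : (χ : G → ℂ) 1 = m)
    (hinv : ∀ s : G, orderOf s = 2 → (χ : G → ℂ) s ≠ m) :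
    ∃ a : ℕ, a < m ∧ ∑ w : W, (χ : G → ℂ) w = (Nat.card W : ℂ) * a := by
  classical
  obtain ⟨f, n, ρ, hirr, rfl⟩ := χ
  haveI := hirr
  haveI : Fact (Nat.Prime 2) := ⟨Nat.prime_two⟩
  haveI : Invertible (Nat.card W : ℂ) := invertibleOfNonzero (by simp)
  have hmn : m = n := by
    have h : ρ.character 1 = (m : ℂ) := hm
    rw [ρ.char_one, Module.finrank_fin_fun] at h
    exact_mod_cast h.symm
  set σ : Representation ℂ W (Fin n → ℂ) := ρ.comp W.subtype with hσ
  refine ⟨Module.finrank ℂ (Representation.invariants σ), ?_, ?_⟩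
  · rw [hmn]
    refine lt_of_le_of_ne ((Submodule.finrank_le _).trans_eq (Module.finrank_fin_fun ℂ)) fun h => ?_
    have htop : Representation.invariants σ = ⊤ :=
      Submodule.eq_top_of_finrank_eq (h.trans (Module.finrank_fin_fun ℂ).symm)
    have hker : W ≤ MonoidHom.ker ρ := fun w hw => MonoidHom.mem_ker.2 (LinearMap.ext fun v =>
      (Representation.mem_invariants (ρ := σ) v).1 (htop ▸ Submodule.mem_top) ⟨w, hw⟩)
    by_cases hodd : Odd (Nat.card (MonoidHom.ker ρ))
    · exact hW (le_bot_iff.1 (hcore _ inferInstance hodd ▸ hker))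
    · obtain ⟨x, hx⟩ := exists_prime_orderOf_dvd_card' (G := MonoidHom.ker ρ) 2
        (even_iff_two_dvd.1 (Nat.not_odd_iff_even.1 hodd))
      refine hinv (x : G) (by rw [Subgroup.orderOf_coe, hx]) ?_
      show ρ.character x = (m : ℂ)
      rw [(CfsgLib.Char.character_eq_degree_iff ρ (x : G)).2 (MonoidHom.mem_ker.1 x.2),
        Module.finrank_fin_fun, hmn]
  · rw [← Representation.card_inv_mul_sum_char_eq_finrank, ← mul_assoc,
      mul_inv_cancel₀ (by simp), one_mul]
    rfl

omit [Finite G] in
/-- The stabiliser does not depend on the representative of the coset. -/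
theorem pointStab_mul_right {H : Subgroup G} (g : G) {k : G} (hk : k ∈ H) :
    pointStab H (g * k) = pointStab H g := by
  ext x
  rw [mem_pointStab, mem_pointStab]
  refine and_congr_right fun _ => ?_
  rw [show (g * k)⁻¹ * x * (g * k) = k⁻¹ * (g⁻¹ * x * g) * k by group,
    Subgroup.mul_mem_cancel_right _ hk, Subgroup.mul_mem_cancel_left _ (inv_mem hk)]

variable {M : Ideal Cfsg.AlgInt} {P : Sylow 2 G} [IsMulCommutative (P : Subgroup G)]
  (L : LocalData P) (hM : IsPModular 2 M)
  (hfix : ∀ y ∈ (P : Subgroup G), y ≠ 1 →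
    Subgroup.centralizer ({y} : Set G) ⊓ Subgroup.normalizer ((P : Subgroup G) : Set G) ≤
      Subgroup.centralizer ((P : Subgroup G) : Set G))
  (hone : ∀ s t : G, orderOf s = 2 → orderOf t = 2 → IsConj s t)
  (hel : ∀ x ∈ (P : Subgroup G), x * x = 1)
  (hcard : Nat.card (P : Subgroup G) = 16)
  (heI : (Subgroup.centralizer ((P : Subgroup G) : Set G)).relIndex
    (Subgroup.normalizer ((P : Subgroup G) : Set G)) = 15)
  {t : G} (ht : t ∈ (P : Subgroup G)) (ht1 : t ≠ 1) (C : Column P M t)
  (hS : (L.H.index : ℂ) * ((15 : ℕ) : ℂ) *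
    (∑ᶠ χ ∈ principalBlock M G, (χ : G → ℂ) t ^ 3 / (χ : G → ℂ) 1) =
      (Nat.card (P : Subgroup G) : ℂ) * ((Nat.card (P : Subgroup G) : ℂ) - 2))
  (hcore : ∀ N : Subgroup G, N.Normal → Odd (Nat.card N) → N = ⊥)

include hM hfix hone hel ht ht1 in
/-- The members of the principal block are constant on `WP` outside `W`. -/
theorem apply_outside {χ : IrrCharacter G} (hχ : χ ∈ principalBlock M G) {u : G}
    (hu : u ∈ L.W ⊔ (P : Subgroup G)) (huW : u ∉ L.W) : (χ : G → ℂ) u = (χ : G → ℂ) t := by
  haveI : Fact (Nat.Prime 2) := ⟨Nat.prime_two⟩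
  have hsq : u * u ∈ L.W := by
    have h : u ∈ ((L.W ⊔ (P : Subgroup G) : Subgroup G) : Set G) := hu
    rw [Subgroup.coe_mul_of_right_le_normalizer_left _ _ (sylow_le_normalizer_W L)] at h
    obtain ⟨w, hw, p, hp, rfl⟩ := h
    have h1 := (Subgroup.mem_normalizer_iff.1 (sylow_le_normalizer_W L hp) w).1 hw
    rw [inv_eq_of_mul_eq_one_right (hel p hp)] at h1
    have h2 : w * p * (w * p) = w * (p * w * p) := by group
    show w * p * (w * p) ∈ L.W
    rw [h2]
    exact mul_mem hw h1
  set a := orderOf (u * u) with ha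
  have hodd : Odd a := L.odd.of_dvd_nat (Subgroup.orderOf_dvd_natCard _ hsq)
  set s := u ^ a with hsdef
  have hss : s * s = 1 := by
    rw [hsdef, ← (Commute.refl u).mul_pow, pow_orderOf_eq_one]
  have hs1 : s ≠ 1 := fun h =>
    huW (mem_W_of_odd L hu (hodd.of_dvd_nat (orderOf_dvd_iff_pow_eq_one.2 h)))
  have hy : s * u ∈ L.W := by
    obtain ⟨j, hj⟩ := hodd
    rw [hsdef, ← pow_succ, show a + 1 = 2 * (j + 1) by omega, pow_mul, sq]
    exact pow_mem hsq _
  have hyodd : ¬ 2 ∣ orderOf (s * u) := fun h =>
    Nat.not_even_iff_odd.2 (L.odd.of_dvd_nat (Subgroup.orderOf_dvd_natCard _ hy))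
      (even_iff_two_dvd.2 h)
  have hcomm : Commute s (s * u) := (Commute.refl s).mul_right (Commute.pow_self u a)
  obtain ⟨c, hc⟩ := isConj_iff.1 (hone s t (orderOf_eq_prime (by rw [sq]; exact hss) hs1)
    (orderOf_eq_prime (by rw [sq]; exact hel t ht) ht1))
  have hcomm' : Commute t (c * (s * u) * c⁻¹) := hc ▸ hcomm.map (MulAut.conj c).toMonoidHom
  have hreg : ¬ 2 ∣ orderOf (c * (s * u) * c⁻¹) := by
    rwa [← MulEquiv.orderOf_eq (MulAut.conj c) (s * u)] at hyodd
  rw [← apply_mul_regular P hfix hM hχ ht ht1 hcomm' hreg]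
  refine CfsgLib.Char.IsClassFunction.eq_of_isConj
    (CfsgLib.Char.IsIrrCharacter.isClassFunction χ.2) (isConj_iff.2 ⟨c, ?_⟩)
  rw [← hc, show c * s * c⁻¹ * (c * (s * u) * c⁻¹) = c * (s * s * u) * c⁻¹ by group, hss, one_mul]

include hM hfix hone hel hcard ht ht1 hcore C in
/-- A member with negative value has large degree unless `W` is trivial. -/
theorem sixteen_le (hW : L.W ≠ ⊥) {χ : IrrCharacter G} (hχ : χ ∈ C.B) (hb : C.b χ < 0) :
    16 ≤ (C.m χ : ℤ) + 15 * C.b χ := by
  classical
  haveI : Fact (Nat.Prime 2) := ⟨Nat.prime_two⟩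
  haveI := Fintype.ofFinite G
  set U := L.W ⊔ (P : Subgroup G) with hU
  haveI := Fintype.ofFinite U
  haveI := Fintype.ofFinite L.W
  have hb' := (C.mem χ).1 hχ
  have hsb : ∀ s : G, orderOf s = 2 → (χ : G → ℂ) s = C.b χ := fun s hs => by
    rw [← C.val]
    exact CfsgLib.Char.IsClassFunction.eq_of_isConj
      (CfsgLib.Char.IsIrrCharacter.isClassFunction χ.2)
      (hone s t hs (orderOf_eq_prime (by rw [sq]; exact hel t ht) ht1))
  -- the congruence on `P`
  obtain ⟨c', hc'⟩ := exists_nat_sum_eq χ (P : Subgroup G)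
  rw [← Finset.add_sum_erase _ _ (Finset.mem_univ (1 : (P : Subgroup G))), OneMemClass.coe_one,
    C.deg, Finset.sum_congr rfl (g := fun _ => (C.b χ : ℂ)) fun y hy => hsb _
      (orderOf_eq_prime (by rw [sq]; exact hel y y.2)
        fun h => Finset.ne_of_mem_erase hy (Subtype.ext h)),
    Finset.sum_const, Finset.card_erase_of_mem (Finset.mem_univ _), Finset.card_univ,
    ← Nat.card_eq_fintype_card, hcard, nsmul_eq_mul] at hc'
  have hcong : (C.m χ : ℤ) + 15 * C.b χ = 16 * c' := by
    exact_mod_cast (show ((C.m χ : ℂ) + 15 * (C.b χ : ℂ)) = 16 * (c' : ℂ) by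
      norm_num at hc' ⊢; exact hc')
  -- the averages
  obtain ⟨a, ham, ha⟩ := exists_avg_lt χ L.W hW hcore (C.deg χ) fun s hs h => by
    rw [hsb s hs] at h
    have h' : C.b χ = (C.m χ : ℤ) := by exact_mod_cast h
    omega
  obtain ⟨c, hc⟩ := exists_nat_sum_eq χ U
  have hsum : ∑ u : U, (χ : G → ℂ) u =
      (Nat.card L.W : ℂ) * a - (Nat.card L.W : ℂ) * C.b χ + (Nat.card U : ℂ) * C.b χ := by
    have h1 : ∀ u : U, (χ : G → ℂ) u =
        (if (u : G) ∈ L.W then (χ : G → ℂ) u - C.b χ else 0) + C.b χ := fun u => by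
      split_ifs with h
      · ring
      · rw [zero_add, apply_outside L hM hfix hone hel ht ht1 hb' u.2 h, C.val]
    have h2 : ∑ u ∈ Finset.univ.filter (fun u : U => (u : G) ∈ L.W),
        ((χ : G → ℂ) u - C.b χ) = ∑ w : L.W, ((χ : G → ℂ) w - C.b χ) := by
      refine Finset.sum_bij (fun u hu => (⟨(u : G), (Finset.mem_filter.1 hu).2⟩ : L.W))
        (fun _ _ => Finset.mem_univ _)
        (fun x _ y _ h => Subtype.ext (congrArg (Subtype.val (p := (· ∈ L.W))) h))
        (fun w _ => ⟨⟨(w : G), Subgroup.mem_sup_left w.2⟩,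
          Finset.mem_filter.2 ⟨Finset.mem_univ _, w.2⟩, rfl⟩) (fun _ _ => rfl)
    rw [Finset.sum_congr rfl fun u _ => h1 u, Finset.sum_add_distrib, ← Finset.sum_filter, h2,
      Finset.sum_sub_distrib, ha, Finset.sum_const, Finset.sum_const, Finset.card_univ,
      Finset.card_univ, ← Nat.card_eq_fintype_card, ← Nat.card_eq_fintype_card, nsmul_eq_mul,
      nsmul_eq_mul]
  rw [hsum, hU, card_sup, hcard] at hc
  have h3 : (a : ℂ) + 15 * (C.b χ : ℂ) = 16 * (c : ℂ) := by
    refine mul_left_cancel₀ (Nat.cast_ne_zero.2 (Nat.card_pos (α := L.W)).ne') ?_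
    push_cast at hc
    linear_combination hc
  have h4 : (a : ℤ) + 15 * C.b χ = 16 * c := by exact_mod_cast h3
  omega

/-- The weight bounding a negative term of the cube sum. -/
def negWeight (b : ℤ) : ℤ :=
  33 * (if b = -1 then 1 else 0) + 174 * (if b = -2 then 1 else 0) +
    443 * (if b = -3 then 1 else 0)

include hM hfix hone hel hcard ht ht1 hcore hS C in
/-- A bound on the index when `W` is not trivial. -/
theorem index_le_of_ne_bot (hW : L.W ≠ ⊥) : L.H.index ≤ 47 := by
  classical
  set B' := C.B.erase CfsgLib.Char.principalIrr with hB'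
  have hsq : ∑ χ ∈ B', C.b χ ^ 2 = 15 := by
    have h := C.sum_sq
    rw [← Finset.add_sum_erase _ _ C.one_mem, C.b_one, hcard] at h
    push_cast at h
    linarith
  have hlow : ∀ χ ∈ B', -((negWeight (C.b χ) : ℝ) / 1000) ≤ (C.b χ : ℝ) ^ 3 / C.m χ := by
    intro χ hχ
    have hm : (0 : ℝ) < C.m χ := Nat.cast_pos.2 (C.m_pos χ)
    rcases le_or_gt 0 (C.b χ) with hb | hb
    · have h0 : negWeight (C.b χ) = 0 := by
        rw [negWeight, if_neg (by omega), if_neg (by omega), if_neg (by omega)]; norm_num
      rw [h0]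
      have hb' : (0 : ℝ) ≤ C.b χ := by exact_mod_cast hb
      simpa using div_nonneg (pow_nonneg hb' 3) hm.le
    · have h2 : C.b χ ^ 2 ≤ 15 := hsq ▸ Finset.single_le_sum (fun i _ => sq_nonneg (C.b i)) hχ
      have h3 : -3 ≤ C.b χ := by nlinarith
      have h16 := sixteen_le L hM hfix hone hel hcard ht ht1 C hcore hW
        (Finset.mem_of_mem_erase hχ) hb
      have h16' : (16 : ℝ) ≤ (C.m χ : ℝ) + 15 * (C.b χ : ℝ) := by exact_mod_cast h16
      rw [le_div_iff₀ hm]
      rcases (show C.b χ = -1 ∨ C.b χ = -2 ∨ C.b χ = -3 by omega) with h | h | h <;>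
      · rw [h] at h16' ⊢
        norm_num [negWeight]
        push_cast at h16'
        linarith
  have hweight : ∑ χ ∈ B', negWeight (C.b χ) ≤ 683 := by
    have hle : ∑ χ ∈ B', ((if C.b χ = -1 then (1 : ℤ) else 0) +
        4 * (if C.b χ = -2 then 1 else 0) + 9 * (if C.b χ = -3 then 1 else 0)) ≤ 15 := by
      refine (Finset.sum_le_sum fun χ _ => ?_).trans hsq.le
      split_ifs with h1 h2 h3 <;> nlinarith
    simp only [Finset.sum_add_distrib, ← Finset.mul_sum, Finset.sum_boole] at hle
    simp only [negWeight, Finset.sum_add_distrib, ← Finset.mul_sum, Finset.sum_boole]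
    generalize (B'.filter fun χ => C.b χ = -1).card = k₁ at hle ⊢
    generalize (B'.filter fun χ => C.b χ = -2).card = k₂ at hle ⊢
    generalize (B'.filter fun χ => C.b χ = -3).card = k₃ at hle ⊢
    have : k₂ ≤ 3 := by omega
    have : k₃ ≤ 1 := by omega
    interval_cases k₂ <;> interval_cases k₃ <;> omega
  have hB : (Set.toFinite (principalBlock M G)).toFinset = C.B := by
    ext χ; rw [Set.Finite.mem_toFinset, C.mem]
  rw [finsum_mem_eq_finite_toFinset_sum _ (Set.toFinite _), hB, hcard] at hS
  simp only [C.val, C.deg] at hS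
  push_cast at hS
  have h : (L.H.index : ℝ) * 15 * (∑ χ ∈ C.B, (C.b χ : ℝ) ^ 3 / C.m χ) = 224 := by
    apply Complex.ofReal_injective
    push_cast
    linear_combination hS
  rw [← Finset.add_sum_erase _ _ C.one_mem, C.b_one, C.m_one, ← hB'] at h
  push_cast at h
  rw [one_pow, div_one] at h
  have h1 := Finset.sum_le_sum hlow
  rw [Finset.sum_neg_distrib, ← Finset.sum_div] at h1
  have h2 : ∑ χ ∈ B', (negWeight (C.b χ) : ℝ) ≤ 683 := by exact_mod_cast hweight
  by_contra hn
  have hn' : (48 : ℝ) ≤ L.H.index := by exact_mod_cast (Nat.succ_le_of_lt (not_le.1 hn))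
  nlinarith

include hone hel hcard heI hM hfix hS hcore ht ht1 C in
/-- `W` is trivial. -/
theorem fifteen_W_eq_bot : L.W = ⊥ := by
  classical
  haveI : Fact (Nat.Prime 2) := ⟨Nat.prime_two⟩
  by_contra hW
  have hn := index_le_of_ne_bot L hM hfix hone hel hcard ht ht1 C hS hcore hW
  obtain ⟨j, hj⟩ := exists_index_eq L hone
  rw [hcard] at hj
  refine hW ((Subgroup.eq_bot_iff_forall _).2 fun w hw => ?_)
  have hmem : w ∈ L.H.normalCore := fun g => by
    by_cases hgH : g⁻¹ ∈ L.H
    · exact mul_mem (mul_mem (by simpa using inv_mem hgH) (L.W_le hw)) hgH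
    · set D := pointStab L.H g⁻¹ with hD
      have hDH : D ≤ L.H := inf_le_left
      obtain ⟨l, hl⟩ := card_pointStab_mul_dvd L hone hgH
      rw [← hD, hcard] at hl
      -- the orbit
      have horb : 16 * l + 1 ≤ L.H.index := by
        let F : Option (L.H ⧸ D.subgroupOf L.H) → G ⧸ L.H := fun o => o.elim (QuotientGroup.mk 1)
          (Quotient.lift (fun h : L.H => (QuotientGroup.mk ((h : G) * g⁻¹) : G ⧸ L.H)) (by
            intro a b hab
            have h := (mem_pointStab.1 (Subgroup.mem_subgroupOf.1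
              (QuotientGroup.leftRel_apply.1 hab))).2
            rw [QuotientGroup.eq]
            simpa [mul_assoc] using h))
        have hbase : ∀ b : L.H, (QuotientGroup.mk (1 : G) : G ⧸ L.H) ≠
            QuotientGroup.mk ((b : G) * g⁻¹) := fun b h => by
          rw [QuotientGroup.eq, inv_one, one_mul] at h
          exact hgH ((L.H.mul_mem_cancel_left b.2).1 h)
        have hF : Function.Injective F := by
          intro o o' h
          rcases o with _ | p <;> rcases o' with _ | q
          · rfl
          · induction q using QuotientGroup.induction_on with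
            | H b => exact absurd h (hbase b)
          · induction p using QuotientGroup.induction_on with
            | H b => exact absurd h.symm (hbase b)
          · induction p using QuotientGroup.induction_on with
            | H a =>
              induction q using QuotientGroup.induction_on with
              | H b =>
                have h' : (QuotientGroup.mk ((a : G) * g⁻¹) : G ⧸ L.H) =
                    QuotientGroup.mk ((b : G) * g⁻¹) := h
                congr 1
                rw [QuotientGroup.eq] at h' ⊢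
                rw [Subgroup.mem_subgroupOf]
                refine mem_pointStab.2 ⟨(a⁻¹ * b).2, ?_⟩
                simpa [mul_assoc] using h'
        have h1 := Nat.card_le_card_of_injective F hF
        rw [Finite.card_option, ← Subgroup.index_eq_card, ← Subgroup.index_eq_card] at h1
        have h2 := (D.subgroupOf L.H).index_mul_card
        rw [Nat.card_congr (Subgroup.subgroupOfEquivOfLe hDH).toEquiv, hl, mul_assoc,
          mul_comm (Nat.card D)] at h2
        rwa [Nat.eq_of_mul_eq_mul_right Nat.card_pos h2] at h1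
      -- the order of the stabiliser
      rw [L.card_H, heI, hcard] at hl
      have hl' : 15 * Nat.card L.W = Nat.card D * l := by linarith
      have hlodd : Odd l := by
        have : Odd (Nat.card D * l) := hl' ▸ (Nat.odd_iff.2 rfl : Odd 15).mul L.odd
        exact (Nat.odd_mul.1 this).2
      obtain rfl : l = 1 := by
        obtain ⟨i, hi⟩ := hlodd
        omega
      have hr : L.W.relIndex D ∣ 15 := by
        have h1 := relIndex_W_dvd L hDH
        rw [heI, hcard] at h1
        refine Nat.Coprime.dvd_of_dvd_mul_left ?_ h1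
        have h2 : L.W.relIndex D ∣ Nat.card D := Subgroup.index_dvd_card (L.W.subgroupOf D)
        exact ((Nat.coprime_two_right.2 ((pointStab_odd L hone hgH).of_dvd_nat h2)).pow_right 4)
      have hWD : L.W.relIndex D * Nat.card (L.W ⊓ D : Subgroup G) = Nat.card D := by
        have h := (L.W.subgroupOf D).index_mul_card
        rw [← h]
        congr 1
        rw [← Subgroup.inf_subgroupOf_right]
        exact (Nat.card_congr (Subgroup.subgroupOfEquivOfLe inf_le_right).toEquiv).symm
      have hDW : D.relIndex L.W * Nat.card (L.W ⊓ D : Subgroup G) = Nat.card L.W := by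
        have h := (D.subgroupOf L.W).index_mul_card
        rw [← h, inf_comm]
        congr 1
        rw [← Subgroup.inf_subgroupOf_right]
        exact (Nat.card_congr (Subgroup.subgroupOfEquivOfLe inf_le_right).toEquiv).symm
      have hpos : 0 < Nat.card (L.W ⊓ D : Subgroup G) := Nat.card_pos
      rw [← hWD, ← hDW, mul_one, ← mul_assoc] at hl'
      have hkey := Nat.eq_of_mul_eq_mul_right hpos hl'
      have h15 := Nat.le_of_dvd (by norm_num) hr
      have hne : D.relIndex L.W ≠ 0 := (D.subgroupOf L.W).index_ne_zero_of_finite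
      have h1 : D.relIndex L.W = 1 := by omega
      have := (mem_pointStab.1 (Subgroup.relIndex_eq_one.1 h1 hw)).2
      simpa using this
  rw [normalCore_eq_bot L hone hcore] at hmem
  exact hmem

include hone hel hcard heI hM hfix hS hcore ht ht1 C in
/-- `W` is trivial and the two-point stabilisers have order fifteen. -/
theorem fifteen_core :
    L.W = ⊥ ∧ ∀ g : G, g ∉ L.H → Nat.card (pointStab L.H g) = 15 := by
  classical
  haveI : Fact (Nat.Prime 2) := ⟨Nat.prime_two⟩
  have hW := fifteen_W_eq_bot L hM hfix hone hel hcard heI ht ht1 C hS hcore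
  refine ⟨hW, ?_⟩
  haveI := Fintype.ofFinite G
  haveI := Fintype.ofFinite (G ⧸ L.H)
  have hot : orderOf t = 2 := orderOf_eq_prime (by rw [sq]; exact hel t ht) ht1
  have hHeq : L.H = Subgroup.normalizer ((P : Subgroup G) : Set G) := by
    rw [L.eq_sup, hW, bot_sup_eq]
  have hHcard : Nat.card L.H = 240 := by
    rw [L.card_H, hW, heI, hcard, Subgroup.card_bot]
  have hCt : Subgroup.centralizer ({t} : Set G) = (P : Subgroup G) := by
    refine le_antisymm ?_ (sylow_le_centralizer_singleton P ht)
    simpa [hW] using L.centralizer_le_sup t ht ht1 (hel t ht)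
  set I := Finset.univ.filter fun s : G => orderOf s = 2 with hI
  -- the number of involutions
  have hIcard : I.card = L.H.index * 15 := by
    have hfib : ∀ s ∈ I,
        ((Finset.univ : Finset G).filter fun a => a * t * a⁻¹ = s).card = 16 := by
      intro s hs
      obtain ⟨a₀, rfl⟩ := isConj_iff.1 (hone t s hot (Finset.mem_filter.1 hs).2)
      have h := card_conj_fibre (⊤ : Subgroup G) (x := t) (Subgroup.mem_top a₀)
      rw [top_inf_eq, hCt, hcard] at h
      rw [← h]
      congr 1
      ext y
      simp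
    have hmap : Set.MapsTo (fun a : G => a * t * a⁻¹) ((Finset.univ : Finset G) : Set G)
        (I : Set G) := fun a _ =>
      Finset.mem_coe.2 (Finset.mem_filter.2 ⟨Finset.mem_univ _, by rw [Invol.orderOf_conj, hot]⟩)
    have h := Finset.card_eq_sum_card_fiberwise hmap
    rw [Finset.sum_congr rfl hfib, Finset.sum_const, smul_eq_mul, Finset.card_univ,
      ← Nat.card_eq_fintype_card, ← L.H.index_mul_card, hHcard] at h
    omega
  -- the fibres over the cosets
  have hbound : ∀ g : G, g ∉ L.H →
      (I.filter fun s : G => (QuotientGroup.mk s : G ⧸ L.H) = QuotientGroup.mk g).card ≤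
        Nat.card (pointStab L.H g) := by
    intro g hg
    set F := I.filter fun s : G => (QuotientGroup.mk s : G ⧸ L.H) = QuotientGroup.mk g with hF
    rcases F.eq_empty_or_nonempty with h0 | ⟨s₀, hs₀⟩
    · rw [h0]; simp
    obtain ⟨hs₀I, hs₀q⟩ := Finset.mem_filter.1 hs₀
    have hs₀2 := Invol.mul_self_eq_one (Finset.mem_filter.1 hs₀I).2
    have hk : s₀⁻¹ * g ∈ L.H := QuotientGroup.eq.1 hs₀q
    rw [show g = s₀ * (s₀⁻¹ * g) by group, pointStab_mul_right _ hk]
    haveI := Fintype.ofFinite (pointStab L.H s₀)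
    rw [← Finset.card_attach, Nat.card_eq_fintype_card, ← Finset.card_univ]
    have hmem : ∀ s ∈ F, s₀ * s ∈ pointStab L.H s₀ := by
      intro s hs
      obtain ⟨hsI, hsq⟩ := Finset.mem_filter.1 hs
      have h1 : s₀⁻¹ * s ∈ L.H := QuotientGroup.eq.1 (hs₀q.trans hsq.symm)
      rw [inv_eq_of_mul_eq_one_right hs₀2] at h1
      refine mem_pointStab.2 ⟨h1, ?_⟩
      have h2 := inv_mem h1
      rw [mul_inv_rev, inv_eq_of_mul_eq_one_right hs₀2,
        Invol.inv_eq_self (Finset.mem_filter.1 hsI).2] at h2
      rwa [inv_eq_of_mul_eq_one_right hs₀2, ← mul_assoc, hs₀2, one_mul]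
    refine Finset.card_le_card_of_injOn (fun s => ⟨s₀ * s.1, hmem _ s.2⟩)
      (fun _ _ => Finset.mem_coe.2 (Finset.mem_univ _)) fun a _ b _ h => Subtype.ext ?_
    exact mul_left_cancel (congrArg (Subtype.val (p := (· ∈ pointStab L.H s₀))) h)
  have hbase : (I.filter fun s : G => (QuotientGroup.mk s : G ⧸ L.H) = QuotientGroup.mk 1).card
      ≤ 15 := by
    refine (Finset.card_le_card (t := (Finset.univ.filter fun s : G =>
      s ∈ (P : Subgroup G)).erase 1) fun s hs => ?_).trans (le_of_eq ?_)
    · obtain ⟨hsI, hsq⟩ := Finset.mem_filter.1 hs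
      have hso := (Finset.mem_filter.1 hsI).2
      rw [QuotientGroup.eq, mul_one, inv_mem_iff] at hsq
      obtain ⟨h, hhH, hh⟩ := involution_conj_mem L hsq hso
      rw [hHeq] at hhH
      refine Finset.mem_erase.2 ⟨Invol.ne_one_of_invol hso, Finset.mem_filter.2
        ⟨Finset.mem_univ _, ?_⟩⟩
      exact (Subgroup.mem_normalizer_iff.1 hhH s).2 hh
    · rw [Finset.card_erase_of_mem (by simp), ← Fintype.card_subtype, ← Nat.card_eq_fintype_card]
      show Nat.card (P : Subgroup G) - 1 = 15
      rw [hcard]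
  have hdvd : ∀ g : G, g ∉ L.H → Nat.card (pointStab L.H g) ≤ 15 := by
    intro g hg
    have h := card_pointStab_mul_dvd L hone hg
    rw [hHcard, hcard] at h
    exact Nat.le_of_dvd (by norm_num)
      (Nat.dvd_of_mul_dvd_mul_right (by norm_num : 0 < 16) (h.trans (by norm_num)))
  have hall : ∀ q : G ⧸ L.H,
      (I.filter fun s : G => (QuotientGroup.mk s : G ⧸ L.H) = q).card ≤ 15 := by
    intro q
    induction q using QuotientGroup.induction_on with
    | H g =>
      by_cases hg : g ∈ L.H
      · rw [show (QuotientGroup.mk g : G ⧸ L.H) = QuotientGroup.mk 1 by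
          rw [QuotientGroup.eq, mul_one]; exact inv_mem hg]
        exact hbase
      · exact (hbound g hg).trans (hdvd g hg)
  have heq : ∀ q ∈ (Finset.univ : Finset (G ⧸ L.H)),
      (I.filter fun s : G => (QuotientGroup.mk s : G ⧸ L.H) = q).card = 15 := by
    refine (Finset.sum_eq_sum_iff_of_le fun q _ => hall q).1 ?_
    rw [← Finset.card_eq_sum_card_fiberwise fun _ _ => Finset.mem_coe.2 (Finset.mem_univ _),
      hIcard, Finset.sum_const, Finset.card_univ, smul_eq_mul, Subgroup.index_eq_card,
      Nat.card_eq_fintype_card]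
  intro g hg
  exact le_antisymm (hdvd g hg) ((heq _ (Finset.mem_univ _)).ge.trans (hbound g hg))

end CfsgLib.AbelianTwo
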