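import Cfsg.Agent.Lib.AbelianTwoBlock.Local
import Cfsg.Agent.Lib.Signalizer.SolvableFunctor
import Cfsg.Agent.Lib.FT.Final
import Cfsg.Agent.Lib.Solvable.SmallOrder
import Cfsg.Agent.Lib.Invol.Dihedral
import Cfsg.Agent.Lib.HomogComplement.Basic

/-!
# The strongly embedded subgroup of an abelian Sylow 2-subgroup with 2-nilpotent centralisers

For an abelian Sylow 2-subgroup of rank at least three whose normaliser acts freely, the odd cores
of the involution centralisers form a solvable signalizer functor.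
-/

set_option autoImplicit false
set_option linter.style.haveILetI false

namespace CfsgLib.AbelianTwo

open scoped Pointwise
open Subgroup

universe u

variable {G : Type u} [Group G] [Finite G]

/-- The subgroup generated by the elements of odd order centralising `a`. -/
def oddTheta (a : G) : Subgroup G :=
  closure {x | x ∈ centralizer ({a} : Set G) ∧ Odd (orderOf x)}

omit [Finite G] in
theorem oddTheta_conj (a n x : G) (hx : x ∈ oddTheta a) :
    n * x * n⁻¹ ∈ oddTheta (n * a * n⁻¹) := by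
  suffices h : oddTheta a ≤ (oddTheta (n * a * n⁻¹)).comap (MulAut.conj n).toMonoidHom from h hx
  rw [oddTheta, closure_le]
  rintro y ⟨hy, hodd⟩
  refine subset_closure ⟨mem_centralizer_singleton_iff.2 ?_, ?_⟩
  · have h := mem_centralizer_singleton_iff.1 hy
    show n * y * n⁻¹ * (n * a * n⁻¹) = n * a * n⁻¹ * (n * y * n⁻¹)
    calc n * y * n⁻¹ * (n * a * n⁻¹) = n * (y * a) * n⁻¹ := by group
      _ = n * (a * y) * n⁻¹ := by rw [h]
      _ = n * a * n⁻¹ * (n * y * n⁻¹) := by group
  · show Odd (orderOf (n * y * n⁻¹))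
    rwa [Invol.orderOf_conj]

/-- The centraliser of a non-identity element of the Sylow subgroup is 2-nilpotent. -/
theorem oddTheta_spec (P : Sylow 2 G) (hab : IsMulCommutative (P : Subgroup G))
    (hfix : ∀ y ∈ (P : Subgroup G), y ≠ 1 →
      centralizer ({y} : Set G) ⊓ normalizer ((P : Subgroup G) : Set G) ≤
        centralizer ((P : Subgroup G) : Set G))
    {t : G} (ht : t ∈ (P : Subgroup G)) (ht1 : t ≠ 1) :
    (∀ x, x ∈ oddTheta t ↔ x ∈ centralizer ({t} : Set G) ∧ Odd (orderOf x)) ∧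
      Odd (Nat.card (oddTheta t)) ∧
      centralizer ({t} : Set G) ≤ oddTheta t ⊔ (P : Subgroup G) := by
  classical
  haveI := hab
  have hle := Blk83.sylow_le_centralizer_singleton P ht
  set C := centralizer ({t} : Set G) with hC
  let PS : Sylow 2 C := P.subtype hle
  have hnorm : normalizer ((PS : Subgroup C) : Set C) ≤
      centralizer ((PS : Subgroup C) : Set C) := by
    intro c hc
    have h1 : (c : G) ∈ normalizer ((P : Subgroup G) : Set G) := by
      refine mem_normalizer_fintype fun x hx => ?_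
      exact (mem_normalizer_iff.mp hc ⟨x, hle hx⟩).mp hx
    have h2 := hfix t ht ht1 ⟨c.2, h1⟩
    exact mem_centralizer_iff.mpr fun d hd => Subtype.ext (mem_centralizer_iff.mp h2 d hd)
  have hcompl := MonoidHom.ker_transferSylow_isComplement' PS hnorm
  have hnd := MonoidHom.not_dvd_card_ker_transferSylow PS hnorm
  set f := MonoidHom.transferSylow PS hnorm
  have hoddK : ∀ x ∈ f.ker.map C.subtype, Odd (orderOf x) := by
    rintro x ⟨c, hc, rfl⟩
    refine Nat.not_even_iff_odd.1 fun he => hnd ?_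
    have h2 : 2 ∣ orderOf c := by
      rw [← orderOf_injective C.subtype C.subtype_injective c]
      exact he.two_dvd
    exact h2.trans (by rw [← orderOf_mk c hc]; exact orderOf_dvd_natCard _)
  have hK : oddTheta t = f.ker.map C.subtype := by
    refine le_antisymm ?_ ?_
    · rw [oddTheta, closure_le]
      rintro x ⟨hxC, hxodd⟩
      refine ⟨⟨x, hxC⟩, ?_, rfl⟩
      show (⟨x, hxC⟩ : C) ∈ f.ker
      rw [MonoidHom.mem_ker, ← orderOf_eq_one_iff]
      have h1 : orderOf (f ⟨x, hxC⟩) ∣ orderOf x :=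
        (orderOf_map_dvd f _).trans (by rw [orderOf_mk])
      obtain ⟨k, hk⟩ := IsPGroup.iff_orderOf.mp PS.isPGroup' (f ⟨x, hxC⟩)
      rcases k with _ | k
      · simpa using hk
      · exact absurd ((dvd_pow_self 2 k.succ_ne_zero).trans (hk ▸ h1))
          (Nat.not_even_iff_odd.2 hxodd ∘ even_iff_two_dvd.2)
    · intro x hx
      refine subset_closure ⟨?_, hoddK x hx⟩
      obtain ⟨c, -, rfl⟩ := hx
      exact c.2
  refine ⟨fun x => ⟨fun hx => ?_, fun hx => subset_closure hx⟩, ?_, ?_⟩
  · rw [hK] at hx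
    refine ⟨?_, hoddK x hx⟩
    obtain ⟨c, -, rfl⟩ := hx
    exact c.2
  · rw [hK, card_subtype]
    exact Nat.not_even_iff_odd.1 fun he => hnd he.two_dvd
  · intro x hx
    obtain ⟨⟨⟨k, hk⟩, s, hs⟩, hks⟩ := hcompl.2 ⟨x, hx⟩
    have hval : (k : G) * (s : G) = x := congrArg Subtype.val hks
    rw [← hval, hK]
    exact mul_mem_sup (mem_map_of_mem C.subtype hk) hs

/-- In rank at least three the involution centralisers generate a proper subgroup, and the
involutions are conjugate. -/
theorem exists_localData (P : Sylow 2 G) (hab : IsMulCommutative (P : Subgroup G))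
    (hfix : ∀ y ∈ (P : Subgroup G), y ≠ 1 →
      centralizer ({y} : Set G) ⊓ normalizer ((P : Subgroup G) : Set G) ≤
        centralizer ((P : Subgroup G) : Set G))
    (hns : ¬ Group.IsSolvable G)
    (h3 : 8 ≤ Nat.card {x : (P : Subgroup G) // x * x = 1}) :
    Nonempty (LocalData P) ∧
      (∀ s t : G, orderOf s = 2 → orderOf t = 2 → IsConj s t) := by
  classical
  haveI := hab
  have hcomm : ∀ {x y : G}, x ∈ (P : Subgroup G) → y ∈ (P : Subgroup G) → x * y = y * x :=
    fun hx hy => Blk83.commute_of_mem_sylow P hx hy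
  -- the elementary abelian subgroup
  let V : Subgroup G :=
    { carrier := {x | x ∈ (P : Subgroup G) ∧ x * x = 1}
      mul_mem' := fun {a b} ha hb => ⟨mul_mem ha.1 hb.1, by
        calc a * b * (a * b) = a * (b * a) * b := by group
          _ = a * (a * b) * b := by rw [hcomm hb.1 ha.1]
          _ = (a * a) * (b * b) := by group
          _ = 1 := by rw [ha.2, hb.2, one_mul]⟩
      one_mem' := ⟨one_mem _, one_mul 1⟩
      inv_mem' := fun {a} ha => ⟨inv_mem ha.1, by rw [← mul_inv_rev, ha.2, inv_one]⟩ }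
  have hVmem : ∀ x, x ∈ V ↔ x ∈ (P : Subgroup G) ∧ x * x = 1 := fun x => Iff.rfl
  have hVP : V ≤ (P : Subgroup G) := fun x hx => hx.1
  have hV : Cfsg.IsElementaryAbelian 2 V :=
    ⟨⟨⟨fun x y => Subtype.ext (hcomm x.2.1 y.2.1)⟩⟩, fun a ha => by rw [pow_two]; exact ha.2⟩
  have hVcard : 8 ≤ Nat.card V := by
    refine h3.trans (le_of_eq (Nat.card_congr ?_))
    exact
      { toFun := fun x => ⟨(x.1 : G), x.1.2, congrArg Subtype.val x.2⟩
        invFun := fun x => ⟨⟨(x : G), x.2.1⟩, Subtype.ext x.2.2⟩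
        left_inv := fun x => rfl
        right_inv := fun x => rfl }
  -- the functor
  have hθ : Cfsg.IsSolvableSignalizerFunctor 2 V oddTheta := by
    refine ⟨⟨fun a ha ha1 x hx => ((oddTheta_spec P hab hfix ha.1 ha1).1 x).1 hx |>.1,
      fun a ha ha1 => ?_, fun a ha ha1 b hb x hx => ?_, fun a ha ha1 b hb hb1 x hx => ?_⟩,
      fun a ha ha1 => ?_⟩
    · intro hd
      exact Nat.not_even_iff_odd.2 (oddTheta_spec P hab hfix ha.1 ha1).2.1 (even_iff_two_dvd.2 hd)
    · have h := oddTheta_conj a b x hx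
      have he : b * a * b⁻¹ = a := by rw [hcomm hb.1 ha.1, mul_inv_cancel_right]
      rwa [he] at h
    · exact ((oddTheta_spec P hab hfix hb.1 hb1).1 x).2
        ⟨hx.2, (((oddTheta_spec P hab hfix ha.1 ha1).1 x).1 hx.1).2⟩
    · exact CfsgLib.FT.solvable_of_odd (oddTheta_spec P hab hfix ha.1 ha1).2.1
  haveI : Fact (Nat.Prime 2) := ⟨Nat.prime_two⟩
  obtain ⟨hWfam, hWC⟩ := CfsgLib.Signalizer.iSup_functor_spec hV (by norm_num; exact hVcard) hθ
  set W : Subgroup G := ⨆ a : {a : G // a ∈ V ∧ a ≠ 1}, oddTheta (a : G) with hW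
  have hWodd : Odd (Nat.card W) :=
    Nat.not_even_iff_odd.1 fun he => hWfam.2.1 he.two_dvd
  set NP := normalizer ((P : Subgroup G) : Set G) with hNP
  have hPNP : (P : Subgroup G) ≤ NP := le_normalizer
  have hNW : NP ≤ normalizer (W : Set G) := by
    intro n hn
    have h : W ≤ W.comap (MulAut.conj n).toMonoidHom := by
      refine iSup_le fun a x hx => ?_
      have hmem : n * (a : G) * n⁻¹ ∈ V ∧ n * (a : G) * n⁻¹ ≠ 1 := by
        refine ⟨⟨(mem_normalizer_iff.1 hn _).1 a.2.1.1, ?_⟩, fun e => a.2.2 ?_⟩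
        · calc n * (a : G) * n⁻¹ * (n * (a : G) * n⁻¹) = n * ((a : G) * a) * n⁻¹ := by group
            _ = 1 := by rw [a.2.1.2, mul_one, mul_inv_cancel]
        · exact conj_eq_one_iff.1 e
      exact le_iSup (fun b : {a : G // a ∈ V ∧ a ≠ 1} => oddTheta (b : G))
        ⟨n * (a : G) * n⁻¹, hmem⟩ (oddTheta_conj (a : G) n x hx)
    exact mem_normalizer_fintype fun x hx => h hx
  set H := W ⊔ NP with hH
  have hHW : H ≤ normalizer (W : Set G) := sup_le le_normalizer hNW
  have hPH : (P : Subgroup G) ≤ H := hPNP.trans le_sup_right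
  have hcsup : ∀ t ∈ (P : Subgroup G), t ≠ 1 → t * t = 1 →
      centralizer ({t} : Set G) ≤ W ⊔ (P : Subgroup G) := fun t ht ht1 ht2 =>
    (oddTheta_spec P hab hfix ht ht1).2.2.trans (sup_le_sup_right
      (le_iSup (fun b : {a : G // a ∈ V ∧ a ≠ 1} => oddTheta (b : G)) ⟨t, ⟨ht, ht2⟩, ht1⟩) _)
  -- properness
  have hne : H ≠ ⊤ := by
    intro he
    apply hns
    have hNs : Group.IsSolvable NP := by
      have hq : Odd (Nat.card (NP ⧸ (P : Subgroup G).subgroupOf NP)) := by
        refine Nat.not_even_iff_odd.1 fun hev => P.not_dvd_index ?_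
        refine dvd_trans ?_ (relIndex_dvd_index_of_le hPNP)
        exact hev.two_dvd
      haveI : ((P : Subgroup G).subgroupOf NP).Normal := normal_in_normalizer
      refine CfsgLib.Solvable.isSolvable_of_normal ((P : Subgroup G).subgroupOf NP) ?_
        (CfsgLib.FT.solvable_of_odd hq)
      refine Group.isSolvable_of_comm fun a b => ?_
      exact Subtype.ext (Subtype.ext (hcomm a.2 b.2))
    have hs : Group.IsSolvable ↥(NP ⊔ W) :=
      CfsgLib.Components.isSolvable_sup hNs hWfam.1 hNW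
    rw [sup_comm, ← hH, he] at hs
    haveI := hs
    exact Group.isSolvable_of_surjective (f := (topEquiv : (⊤ : Subgroup G) ≃* G).toMonoidHom)
      (MulEquiv.surjective _)
  -- centralisers of involutions
  have hcent : ∀ t ∈ H, orderOf t = 2 → centralizer ({t} : Set G) ≤ H := by
    intro t htH ht c hc
    have hz : IsPGroup 2 (zpowers (⟨t, htH⟩ : H)) :=
      IsPGroup.of_card (n := 1) (by rw [Nat.card_zpowers, orderOf_mk, ht, pow_one])
    obtain ⟨S, hS⟩ := hz.exists_le_sylow
    obtain ⟨h, hh⟩ := MulAction.exists_smul_eq H S (P.subtype hPH)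
    have hmem : h * ⟨t, htH⟩ * h⁻¹ ∈ ((P.subtype hPH : Sylow 2 H) : Subgroup H) := by
      rw [← hh]
      exact smul_mem_pointwise_smul _ (MulAut.conj h) _ (hS (mem_zpowers _))
    have hP' : (h : G) * t * (h : G)⁻¹ ∈ (P : Subgroup G) := hmem
    have ht2 : t * t = 1 := Invol.mul_self_eq_one ht
    have h2 : (h : G) * t * (h : G)⁻¹ * ((h : G) * t * (h : G)⁻¹) = 1 := by
      calc (h : G) * t * (h : G)⁻¹ * ((h : G) * t * (h : G)⁻¹)
            = (h : G) * (t * t) * (h : G)⁻¹ := by group
        _ = 1 := by rw [ht2, mul_one, mul_inv_cancel]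
    have h1 : (h : G) * t * (h : G)⁻¹ ≠ 1 := fun e =>
      Invol.ne_one_of_invol ht (conj_eq_one_iff.1 e)
    have hc' : (h : G) * c * (h : G)⁻¹ ∈ centralizer ({(h : G) * t * (h : G)⁻¹} : Set G) := by
      refine mem_centralizer_singleton_iff.2 ?_
      calc (h : G) * c * (h : G)⁻¹ * ((h : G) * t * (h : G)⁻¹)
            = (h : G) * (c * t) * (h : G)⁻¹ := by group
        _ = (h : G) * (t * c) * (h : G)⁻¹ := by rw [mem_centralizer_singleton_iff.1 hc]
        _ = (h : G) * t * (h : G)⁻¹ * ((h : G) * c * (h : G)⁻¹) := by group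
    have h3' : (h : G) * c * (h : G)⁻¹ ∈ H :=
      sup_le le_sup_left hPH (hcsup _ hP' h1 h2 hc')
    have := mul_mem (mul_mem (inv_mem h.2) h3') h.2
    simpa [mul_assoc] using this
  -- the order of `H`
  have hcard : Nat.card H = Nat.card W * Nat.card (P : Subgroup G) *
      (centralizer ((P : Subgroup G) : Set G)).relIndex NP := by
    set CP := centralizer ((P : Subgroup G) : Set G) with hCP
    have hCN : CP ≤ NP := centralizer_le_normalizer _
    have hWP : ∀ x ∈ W, x ∈ (P : Subgroup G) → x = 1 := by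
      intro x hxW hxP
      obtain ⟨k, hk⟩ := IsPGroup.iff_orderOf.mp P.isPGroup' ⟨x, hxP⟩
      rw [orderOf_mk] at hk
      have h1 : orderOf x ∣ Nat.card W := by
        rw [← orderOf_mk x hxW]; exact orderOf_dvd_natCard _
      rcases k with _ | k
      · exact orderOf_eq_one_iff.1 (by simpa using hk)
      · exact absurd (even_iff_two_dvd.2 ((dvd_pow_self 2 k.succ_ne_zero).trans (hk ▸ h1)))
          (Nat.not_even_iff_odd.2 hWodd)
    have hWN : NP ⊓ W ≤ CP := by
      rintro x ⟨hxN, hxW⟩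
      refine mem_centralizer_iff.2 fun p hp => ?_
      have h1 : x * p * x⁻¹ * p⁻¹ ∈ (P : Subgroup G) :=
        mul_mem ((mem_normalizer_iff.1 hxN p).1 hp) (inv_mem hp)
      have h2 : x * p * x⁻¹ * p⁻¹ ∈ W := by
        rw [mul_assoc, mul_assoc]
        refine mul_mem hxW ?_
        rw [← mul_assoc]
        exact (mem_normalizer_iff.1 (hNW (hPNP hp)) _).1 (inv_mem hxW)
      have h3 := mul_inv_eq_one.1 (hWP _ h2 h1)
      rw [mul_inv_eq_iff_eq_mul] at h3
      exact h3.symm
    have hCPcard : Nat.card CP = Nat.card ↥(NP ⊓ W) * Nat.card (P : Subgroup G) := by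
      obtain ⟨a, ha, ha1⟩ := CfsgLib.Signalizer.exists_ne_one_of_card_le (p := 2) (n := 3)
        (A := V) (by norm_num) (by norm_num; exact hVcard)
      have hPCP : (P : Subgroup G) ≤ CP := fun x hx =>
        mem_centralizer_iff.2 fun y hy => hcomm hy hx
      rw [← Nat.card_prod]
      refine (Nat.card_eq_of_bijective
        (fun q : ↥(NP ⊓ W) × ↥(P : Subgroup G) =>
          (⟨(q.1 : G) * q.2, mul_mem (hWN q.1.2) (hPCP q.2.2)⟩ : CP)) ⟨?_, ?_⟩).symm
      · rintro ⟨w, p⟩ ⟨w', p'⟩ e
        have e' : (w : G) * p = w' * p' := congrArg Subtype.val e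
        have e'' : (w' : G)⁻¹ * w = p' * (p : G)⁻¹ := by
          rw [eq_mul_inv_iff_mul_eq, mul_assoc, e', inv_mul_cancel_left]
        have hone := hWP _ (mul_mem (inv_mem w'.2.2) w.2.2)
          (e''.symm ▸ mul_mem p'.2 (inv_mem p.2))
        have hw : w = w' := Subtype.ext (inv_mul_eq_one.1 hone).symm
        subst hw
        exact Prod.ext rfl (Subtype.ext (mul_left_cancel e'))
      · rintro ⟨c, hc⟩
        have hca : c ∈ centralizer ({a} : Set G) :=
          centralizer_le (Set.singleton_subset_iff.2 (hVP ha)) hc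
        have h2 : c ∈ ((W ⊔ (P : Subgroup G) : Subgroup G) : Set G) := hcsup a ha.1 ha1 ha.2 hca
        rw [sup_comm, coe_mul_of_left_le_normalizer_right _ _ (hPNP.trans hNW)] at h2
        obtain ⟨p, hp, w, hw, rfl⟩ := h2
        have hwC : w ∈ CP := by
          have := mul_mem (inv_mem (hPCP hp)) hc
          rwa [inv_mul_cancel_left] at this
        refine ⟨⟨⟨w, hCN hwC, hw⟩, ⟨p, hp⟩⟩, Subtype.ext ?_⟩
        exact (mem_centralizer_iff.1 hwC p hp).symm
    have h1 := CfsgLib.HomogComplement.card_sup_mul hNW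
    rw [sup_comm, ← hH] at h1
    have h2 : Nat.card CP * CP.relIndex NP = Nat.card NP := by
      rw [← relIndex_bot_left CP, relIndex_mul_relIndex _ _ _ bot_le hCN, relIndex_bot_left]
    rw [← h2, hCPcard] at h1
    refine Nat.eq_of_mul_eq_mul_right (m := Nat.card ↥(NP ⊓ W)) Nat.card_pos ?_
    rw [h1]
    ring
  refine ⟨⟨{
    H := H
    W := W
    W_le := le_sup_left
    W_normal := hHW
    odd := hWodd
    ne_top := hne
    normalizer_le := le_sup_right
    eq_sup := rfl
    card_H := hcard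
    centralizer_le_sup := hcsup
    centralizer_le := hcent }⟩, ?_⟩
  -- one class of involutions
  obtain ⟨t₀, ht₀, ht₀1⟩ := CfsgLib.Signalizer.exists_ne_one_of_card_le (p := 2) (n := 3)
    (A := V) (by norm_num) (by norm_num; exact hVcard)
  have ht₀2 : orderOf t₀ = 2 := Invol.orderOf_eq_two ht₀1 ht₀.2
  obtain ⟨s₀, hs₀, hs₀H⟩ : ∃ s : G, orderOf s = 2 ∧ s ∉ H := by
    by_contra hcon
    push Not at hcon
    refine hne (eq_top_iff.2 fun g _ => ?_)
    have hg : g * t₀ * g⁻¹ ∈ H := hcon _ (by rw [Invol.orderOf_conj, ht₀2])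
    have hle : (MulAut.conj g • (P : Subgroup G)) ≤ H := by
      rintro x ⟨p, hp, rfl⟩
      refine hcent _ hg (by rw [Invol.orderOf_conj, ht₀2]) (mem_centralizer_singleton_iff.2 ?_)
      show g * p * g⁻¹ * (g * t₀ * g⁻¹) = g * t₀ * g⁻¹ * (g * p * g⁻¹)
      calc g * p * g⁻¹ * (g * t₀ * g⁻¹) = g * (p * t₀) * g⁻¹ := by group
        _ = g * (t₀ * p) * g⁻¹ := by rw [hcomm hp ht₀.1]
        _ = g * t₀ * g⁻¹ * (g * p * g⁻¹) := by group
    obtain ⟨h, hh⟩ := MulAction.exists_smul_eq H ((g • P : Sylow 2 G).subtype hle) (P.subtype hPH)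
    have hN : (h : G) * g ∈ NP := by
      refine mem_normalizer_fintype fun x hx => ?_
      have h1 : (⟨g * x * g⁻¹, hle ⟨x, hx, rfl⟩⟩ : H) ∈
          (((g • P : Sylow 2 G).subtype hle : Sylow 2 H) : Subgroup H) := ⟨x, hx, rfl⟩
      have h2 : h * ⟨g * x * g⁻¹, hle ⟨x, hx, rfl⟩⟩ * h⁻¹ ∈
          ((P.subtype hPH : Sylow 2 H) : Subgroup H) := by
        rw [← hh]
        exact smul_mem_pointwise_smul _ (MulAut.conj h) _ h1
      have h3 : (h : G) * (g * x * g⁻¹) * (h : G)⁻¹ ∈ (P : Subgroup G) := h2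
      have e : (h : G) * g * x * ((h : G) * g)⁻¹ = (h : G) * (g * x * g⁻¹) * (h : G)⁻¹ := by group
      rw [e]
      exact h3
    have := mul_mem (inv_mem h.2) ((le_sup_right : NP ≤ H) hN)
    rwa [inv_mul_cancel_left] at this
  have hkey : ∀ s t : G, orderOf s = 2 → orderOf t = 2 → s ∉ H → t ∈ H → IsConj s t := by
    intro s t hs ht hsH htH
    have hs2 := Invol.mul_self_eq_one hs
    have ht2 := Invol.mul_self_eq_one ht
    rcases Nat.even_or_odd (orderOf (s * t)) with hev | hodd
    · exfalso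
      set z := (s * t) ^ (orderOf (s * t) / 2) with hz
      have hz2 : orderOf z = 2 := Invol.middle_orderOf hev (orderOf_pos _)
      have hzs : s * z * s = z⁻¹ := by
        have hb : s * (s * t) * s⁻¹ = (s * t)⁻¹ := by
          rw [mul_inv_rev, Invol.inv_eq_self hs, Invol.inv_eq_self ht, ← mul_assoc, hs2, one_mul]
        calc s * z * s = s * z * s⁻¹ := by rw [Invol.inv_eq_self hs]
          _ = (s * (s * t) * s⁻¹) ^ (orderOf (s * t) / 2) := by rw [hz, conj_pow]
          _ = z⁻¹ := by rw [hb, inv_pow]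
      have hzt : t * z * t = z⁻¹ := by
        have hb : t * (s * t) * t⁻¹ = (s * t)⁻¹ := by
          rw [mul_inv_rev, Invol.inv_eq_self hs, Invol.inv_eq_self ht, mul_assoc, mul_assoc, ht2,
            mul_one]
        calc t * z * t = t * z * t⁻¹ := by rw [Invol.inv_eq_self ht]
          _ = (t * (s * t) * t⁻¹) ^ (orderOf (s * t) / 2) := by rw [hz, conj_pow]
          _ = z⁻¹ := by rw [hb, inv_pow]
      rw [Invol.inv_eq_self hz2] at hzs hzt
      have hzC : z ∈ centralizer ({t} : Set G) := by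
        refine mem_centralizer_singleton_iff.2 ?_
        calc z * t = t * z * t * t := by rw [hzt]
          _ = t * z := by rw [mul_assoc, ht2, mul_one]
      have hzH : z ∈ H := hcent t htH ht hzC
      refine hsH (hcent z hzH hz2 (mem_centralizer_singleton_iff.2 ?_))
      calc s * z = s * z * s * s := by rw [mul_assoc (s * z), hs2, mul_one]
        _ = z * s := by rw [hzs]
    · exact Invol.isConj_of_odd hs2 ht2 hodd
  intro s t hs ht
  have hto : ∀ x : G, orderOf x = 2 → IsConj x t₀ := by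
    intro x hx
    have ht₀H : t₀ ∈ H := hPH ht₀.1
    by_cases hxH : x ∈ H
    · exact ((hkey s₀ x hs₀ hx hs₀H hxH).symm).trans (hkey s₀ t₀ hs₀ ht₀2 hs₀H ht₀H)
    · exact hkey x t₀ hx ht₀2 hxH ht₀H
  exact (hto s hs).trans (hto t ht).symm

end CfsgLib.AbelianTwo
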