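import Cfsg.Agent.Lib.Char.Induced

/-!
# Inner products of induced class functions
-/

set_option autoImplicit false

open scoped ComplexConjugate

namespace CfsgLib.AbelianTwo

universe u

variable {G : Type u} [Group G] [Fintype G]

/-- Inner products of induced class functions as sums over cosets. -/
theorem card_mul_classInner_indFun (H : Subgroup G) [Fintype H] [Fintype (G ⧸ H)]
    (f₁ f₂ : H → ℂ) (hf₂ : Cfsg.IsClassFunction H f₂) :
    (Nat.card H : ℂ) * Cfsg.classInner (Cfsg.indFun H f₁) (Cfsg.indFun H f₂) =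
      ∑ q : G ⧸ H, ∑ h : H, f₁ h * conj (Cfsg.extendByZero H f₂ (q.out⁻¹ * h * q.out)) := by
  classical
  rw [CfsgLib.Char.classInner_indFun H f₁ _ (CfsgLib.Char.isClassFunction_indFun H f₂),
    Cfsg.classInner, ← mul_assoc, mul_inv_cancel₀ (Nat.cast_ne_zero.2 Nat.card_pos.ne'), one_mul,
    Finset.sum_comm]
  refine Finset.sum_congr rfl fun h _ => ?_
  rw [CfsgLib.Char.indFun_eq_sum_transversal H f₂ hf₂, map_sum, Finset.mul_sum]

/-- The term of the base coset. -/
theorem extendByZero_out_one (H : Subgroup G) (f : H → ℂ) (hf : Cfsg.IsClassFunction H f) (h : H) :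
    Cfsg.extendByZero H f
      ((QuotientGroup.mk (1 : G) : G ⧸ H).out⁻¹ * h * (QuotientGroup.mk (1 : G) : G ⧸ H).out) =
      f h := by
  have hc : (QuotientGroup.mk (1 : G) : G ⧸ H).out ∈ H := by
    obtain ⟨k, hk⟩ := QuotientGroup.mk_out_eq_mul H (1 : G)
    rw [hk, one_mul]
    exact k.2
  have h' := CfsgLib.Char.extendByZero_conj H f hf ⟨_, hc⟩⁻¹ (h : G)
  simp only [InvMemClass.coe_inv, inv_inv] at h'
  rw [h', CfsgLib.Char.extendByZero_coe]

end CfsgLib.AbelianTwo
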