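import Cfsg.Agent.Lib.Blk83.AbelianExceptional

/-!
# Local data of a group with abelian Sylow 2-subgroup and 2-nilpotent involution centralisers
-/

set_option autoImplicit false

namespace CfsgLib.AbelianTwo

universe u

/-- An odd subgroup `W` normal in a proper subgroup `H` containing all involution centralisers. -/
structure LocalData {G : Type u} [Group G] (P : Sylow 2 G) where
  /-- the strongly embedded subgroup -/
  H : Subgroup G
  /-- its odd core -/
  W : Subgroup G
  W_le : W ≤ H
  W_normal : H ≤ Subgroup.normalizer (W : Set G)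
  odd : Odd (Nat.card W)
  ne_top : H ≠ ⊤
  normalizer_le : Subgroup.normalizer ((P : Subgroup G) : Set G) ≤ H
  eq_sup : H = W ⊔ Subgroup.normalizer ((P : Subgroup G) : Set G)
  card_H : Nat.card H = Nat.card W * Nat.card (P : Subgroup G) *
    (Subgroup.centralizer ((P : Subgroup G) : Set G)).relIndex
      (Subgroup.normalizer ((P : Subgroup G) : Set G))
  centralizer_le_sup : ∀ t ∈ (P : Subgroup G), t ≠ 1 → t * t = 1 →
    Subgroup.centralizer ({t} : Set G) ≤ W ⊔ (P : Subgroup G)
  centralizer_le : ∀ t ∈ H, orderOf t = 2 → Subgroup.centralizer ({t} : Set G) ≤ H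

end CfsgLib.AbelianTwo
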