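import Cfsg.Agent.Lib.AbelianTwoBlock.Quotient
import Cfsg.Agent.Lib.Blk83.OneBlock
import Cfsg.Agent.Lib.InvChar.SolvableCore

/-!
# The solvable case: at least as many Brauer characters as the inertial index
-/

set_option autoImplicit false
set_option maxHeartbeats 1000000

open Cfsg

namespace CfsgLib.AbelianTwo

universe u

variable {G : Type u} [Group G] [Finite G] {M : Ideal Cfsg.AlgInt}

/-- The linear characters of an abelian quotient of odd order give independent regular parts. -/
theorem le_blockRank_of_normal [Fact (Nat.Prime 2)] (hall : ∀ χ : IrrCharacter G, χ ∈ principalBlock M G)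
    (C : Subgroup G) [C.Normal] (hq : IsMulCommutative (G ⧸ C)) (hodd : Odd (Nat.card (G ⧸ C))) :
    Nat.card (G ⧸ C) ≤ blockRank 2 (principalBlock M G) := by
  classical
  haveI := Fintype.ofFinite G
  letI : CommGroup (G ⧸ C) :=
    { (inferInstance : Group (G ⧸ C)) with mul_comm := hq.is_comm.comm }
  haveI := CfsgLib.Blk83.FreeOrbit.finite_dual (A := G ⧸ C)
  haveI := Fintype.ofFinite ((G ⧸ C) →* ℂˣ)
  let v : ((G ⧸ C) →* ℂˣ) → G → ℂ := fun z =>
    pRegularPart 2 fun g => ((z.comp (QuotientGroup.mk' C)) g : ℂ)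
  have hv : ∀ z, v z ∈ Submodule.span ℂ
      ((fun χ : IrrCharacter G => pRegularPart 2 (χ : G → ℂ)) '' principalBlock M G) := fun z =>
    Submodule.subset_span
      ⟨⟨_, CfsgLib.Char.isIrrCharacter_linear (z.comp (QuotientGroup.mk' C))⟩, hall _, rfl⟩
  -- every class of the quotient contains an element of odd order
  have hsurj : ∀ q : G ⧸ C, ∃ g : G, ¬ 2 ∣ orderOf g ∧ QuotientGroup.mk g = q := by
    intro q
    obtain ⟨g, rfl⟩ := QuotientGroup.mk_surjective q
    obtain ⟨x, y, hxy, -, ⟨k, hk⟩, hy⟩ := CfsgLib.Blocks.exists_isPPart Nat.prime_two g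
    refine ⟨y, hy, ?_⟩
    have hx : (QuotientGroup.mk x : G ⧸ C) = 1 := by
      rw [← orderOf_eq_one_iff]
      have h1 := orderOf_map_dvd (QuotientGroup.mk' C) x
      rw [hk] at h1
      refine Nat.eq_one_of_dvd_coprimes ?_ h1 (orderOf_dvd_natCard _)
      refine Nat.Coprime.pow_left k ?_
      exact Nat.coprime_two_left.2 hodd
    rw [← hxy, QuotientGroup.mk_mul, hx, one_mul]
  have hli : LinearIndependent ℂ v := by
    rw [Fintype.linearIndependent_iff]
    intro c hc z
    have h0 : ∀ q : G ⧸ C, ∑ w, c w * (w q : ℂ) = 0 := fun q => by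
      obtain ⟨g, hg, rfl⟩ := hsurj q
      have h := congrFun hc g
      simp only [Finset.sum_apply, Pi.smul_apply, smul_eq_mul, Pi.zero_apply, v, pRegularPart,
        MonoidHom.coe_comp, Function.comp_apply, QuotientGroup.coe_mk'] at h
      simpa [show IsPRegular 2 g from hg] using h
    have hd := linearIndependent_monoidHom (G ⧸ C) ℂ
    let w' : ((G ⧸ C) →* ℂˣ) → (G ⧸ C →* ℂ) := fun w => (Units.coeHom ℂ).comp w
    have hinj : Function.Injective w' := fun a b h => MonoidHom.ext fun q =>
      Units.ext (DFunLike.congr_fun h q)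
    have h2 := hd.comp w' hinj
    rw [Fintype.linearIndependent_iff] at h2
    exact h2 c (funext fun q => by simpa [w'] using h0 q) z
  calc Nat.card (G ⧸ C) = Fintype.card ((G ⧸ C) →* ℂˣ) := by
        rw [← Nat.card_eq_fintype_card, CommGroup.card_monoidHom_of_hasEnoughRootsOfUnity]
    _ = Module.finrank ℂ (Submodule.span ℂ (Set.range v)) := (finrank_span_eq_card hli).symm
    _ ≤ _ := Submodule.finrank_mono (Submodule.span_le.2 (by rintro _ ⟨z, rfl⟩; exact hv z))

/-- The lower bound in a solvable group, when groups of the order of the inertial index are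
abelian. -/
theorem le_blockRank_of_solvable' [Group.IsSolvable G] (hM : IsPModular 2 M) (P : Sylow 2 G)
    (hab : IsMulCommutative (P : Subgroup G))
    (he : ∀ (A : Type u) [Group A] [Finite A],
      Nat.card A = (Subgroup.centralizer ((P : Subgroup G) : Set G)).relIndex
        (Subgroup.normalizer ((P : Subgroup G) : Set G)) → IsMulCommutative A) :
    (Subgroup.centralizer ((P : Subgroup G) : Set G)).relIndex
      (Subgroup.normalizer ((P : Subgroup G) : Set G)) ≤ blockRank 2 (principalBlock M G) := by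
  classical
  haveI : Fact (Nat.Prime 2) := ⟨Nat.prime_two⟩
  haveI := CfsgLib.Solvable.pPrimeCore_normal 2 G
  set N := Cfsg.pPrimeCore 2 G with hNdef
  have hN : ¬ 2 ∣ Nat.card N :=
    Nat.prime_two.coprime_iff_not_dvd.1 (CfsgLib.Solvable.pPrimeCore_card_coprime 2 G).symm
  obtain ⟨Q, hQab, -, -, heQ, -⟩ := exists_quotient_sylow P hab N hN
  rw [← heQ] at he ⊢
  rw [← blockRank_quotient hM N hN]
  haveI : Group.IsSolvable (G ⧸ N) :=
    Group.isSolvable_of_surjective (QuotientGroup.mk'_surjective N)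
  have hO : Cfsg.oddCore (G ⧸ N) = ⊥ := CfsgLib.Solvable.pPrimeCore_quotient_eq_bot N hNdef
  have hC := CfsgLib.InvChar.centralizer_pCore_two_le hO
  haveI := CfsgLib.Solvable.pCore_normal 2 (G ⧸ N)
  have hle : Cfsg.pCore 2 (G ⧸ N) ≤ (Q : Subgroup (G ⧸ N)) := by
    obtain ⟨R, hR⟩ := (CfsgLib.Solvable.pCore_isPGroup 2 (G ⧸ N)).exists_le_sylow
    obtain ⟨g, rfl⟩ := MulAction.exists_smul_eq (G ⧸ N) R Q
    intro x hx
    rw [Sylow.coe_subgroup_smul, Subgroup.mem_pointwise_smul_iff_inv_smul_mem]
    refine hR ?_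
    simp only [MulAut.smul_def, MulAut.conj_inv_apply]
    have := Subgroup.Normal.conj_mem (H := Cfsg.pCore 2 (G ⧸ N)) inferInstance x hx g⁻¹
    simpa using this
  have hQeq : (Q : Subgroup (G ⧸ N)) = Cfsg.pCore 2 (G ⧸ N) := by
    refine le_antisymm (fun x hx => hC (Subgroup.mem_centralizer_iff.2 fun a ha => ?_)) hle
    exact congrArg Subtype.val
      (hQab.is_comm.comm (⟨a, hle ha⟩ : (Q : Subgroup (G ⧸ N))) ⟨x, hx⟩)
  have hall := CfsgLib.Blk83.mem_principalBlock_of_centralizer_pCore_le (G := G ⧸ N) hM hC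
  haveI : (Q : Subgroup (G ⧸ N)).Normal := hQeq ▸ inferInstance
  haveI : (Subgroup.centralizer ((Q : Subgroup (G ⧸ N)) : Set (G ⧸ N))).Normal :=
    Subgroup.normal_centralizer
  rw [Subgroup.normalizer_eq_top, Subgroup.relIndex_top_right, Subgroup.index_eq_card] at he ⊢
  refine le_blockRank_of_normal hall _ (he _ rfl) (Nat.not_even_iff_odd.1 fun hev => ?_)
  have hdvd : (Subgroup.centralizer ((Q : Subgroup (G ⧸ N)) : Set (G ⧸ N))).index ∣
      (Q : Subgroup (G ⧸ N)).index :=
    Subgroup.index_dvd_of_le fun x hx => Subgroup.mem_centralizer_iff.2 fun a ha =>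
      congrArg Subtype.val (hQab.is_comm.comm (⟨a, ha⟩ : (Q : Subgroup (G ⧸ N))) ⟨x, hx⟩)
  rw [Subgroup.index_eq_card] at hdvd
  exact Q.not_dvd_index (hev.two_dvd.trans hdvd)

/-- The lower bound in a solvable group. -/
theorem le_blockRank_of_solvable [Group.IsSolvable G] (hM : IsPModular 2 M) (P : Sylow 2 G)
    (hab : IsMulCommutative (P : Subgroup G))
    (he : ((Subgroup.centralizer ((P : Subgroup G) : Set G)).relIndex
      (Subgroup.normalizer ((P : Subgroup G) : Set G))).Prime) :
    (Subgroup.centralizer ((P : Subgroup G) : Set G)).relIndex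
      (Subgroup.normalizer ((P : Subgroup G) : Set G)) ≤ blockRank 2 (principalBlock M G) :=
  le_blockRank_of_solvable' hM P hab fun A _ _ hA => by
    haveI : Fact (Nat.card A).Prime := ⟨hA ▸ he⟩
    haveI := isCyclic_of_prime_card (α := A) rfl
    exact IsCyclic.isMulCommutative

end CfsgLib.AbelianTwo
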