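import Cfsg.Agent.Lib.AbelianTwoBlock.Reduce
import Cfsg.Agent.Lib.AbelianTwoBlock.Solvable
import Cfsg.Agent.Lib.AbelianTwoBlock.Elementary
import Cfsg.Agent.Lib.AbelianTwoBlock.Functor
import Cfsg.Agent.Lib.AbelianTwoBlock.SectionCount
import Cfsg.Agent.Lib.AbelianTwoBlock.Endgame
import Cfsg.Agent.Lib.Invol.KleinPrincipal
import Cfsg.Agent.S0205

/-!
# The principal 2-block for an abelian Sylow subgroup with prime inertial index
-/

set_option autoImplicit false
set_option maxHeartbeats 1000000

open Cfsg

namespace CfsgLib.AbelianTwo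

universe u

variable {G : Type u} [Group G] [Finite G] {M : Ideal Cfsg.AlgInt}

/-- An odd normal subgroup with solvable quotient forces solvability. -/
theorem solvable_of_odd_normal (N : Subgroup G) [N.Normal] (hN : Odd (Nat.card N))
    [Group.IsSolvable (G ⧸ N)] : Group.IsSolvable G := by
  haveI : Group.IsSolvable N := Cfsg.Agent.S0205.result hN
  exact Group.isSolvable_of_ker_le_range N.subtype (QuotientGroup.mk' N) (by simp)

/-- The non-solvable case. -/
theorem card_eq_of_not_solvable (hM : IsPModular 2 M) (P : Sylow 2 G)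
    (hab : IsMulCommutative (P : Subgroup G))
    (hfix : ∀ y ∈ (P : Subgroup G), y ≠ 1 →
      Subgroup.centralizer ({y} : Set G) ⊓ Subgroup.normalizer ((P : Subgroup G) : Set G) ≤
        Subgroup.centralizer ((P : Subgroup G) : Set G))
    (he : ((Subgroup.centralizer ((P : Subgroup G) : Set G)).relIndex
      (Subgroup.normalizer ((P : Subgroup G) : Set G))).Prime)
    (hns : ¬ Group.IsSolvable G) :
    Nat.card (principalBlock M G) = Nat.card (P : Subgroup G) ∧
      Nat.card (P : Subgroup G) = (Subgroup.centralizer ((P : Subgroup G) : Set G)).relIndex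
        (Subgroup.normalizer ((P : Subgroup G) : Set G)) + 1 := by
  classical
  haveI : Fact (Nat.Prime 2) := ⟨Nat.prime_two⟩
  obtain ⟨hel, hcard, hone⟩ := elementary_of_not_solvable hM P hab hfix he hns
  refine ⟨?_, hcard⟩
  obtain ⟨k, hk⟩ := IsPGroup.iff_card.1 P.isPGroup'
  have h2 := he.two_le
  rcases Nat.lt_or_ge k 3 with hk3 | hk3
  · -- a four-group
    have hk2 : k = 2 := by
      by_contra hne
      have h3 : 2 ^ k ≤ 2 ^ 1 := Nat.pow_le_pow_right (by norm_num) (by omega)
      rw [← hk, hcard] at h3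
      omega
    subst hk2
    have hP4 : Nat.card (P : Subgroup G) = 4 := by rw [hk]; norm_num
    have hK : IsKleinFour (P : Subgroup G) := by
      refine ⟨hP4, ?_⟩
      have hdvd : Monoid.exponent (P : Subgroup G) ∣ 2 :=
        Monoid.exponent_dvd_of_forall_pow_eq_one fun x => by
          rw [sq]; exact Subtype.ext (hel x x.2)
      rcases (Nat.dvd_prime Nat.prime_two).1 hdvd with h | h
      · have : Subsingleton (P : Subgroup G) := Monoid.exp_eq_one_iff.1 h
        rw [Nat.card_of_subsingleton (1 : (P : Subgroup G))] at hP4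
        norm_num at hP4
      · exact h
    obtain ⟨ρ, s, hinj, hρ0, hB, -⟩ := CfsgLib.Invol.KleinBlock.exists_four P hK hone hM
    have hset : principalBlock M G = Set.range ρ := by
      ext χ
      rw [← CfsgLib.Invol.BlockCol.mem_pBlock, hB, Set.mem_range]
    rw [hset, Nat.card_range_of_injective hinj, hP4, Nat.card_fin]
  · -- the quotient by the odd core
    haveI := CfsgLib.Solvable.pPrimeCore_normal 2 G
    set N := Cfsg.pPrimeCore 2 G with hNdef
    have hN : ¬ 2 ∣ Nat.card N :=
      Nat.prime_two.coprime_iff_not_dvd.1 (CfsgLib.Solvable.pPrimeCore_card_coprime 2 G).symm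
    obtain ⟨Q, hQab, -, hQcard, heQ, hQfix'⟩ := exists_quotient_sylow P hab N hN
    have hQfix := hQfix' hfix
    have hnsQ : ¬ Group.IsSolvable (G ⧸ N) := fun h => hns <| by
      haveI := h
      exact solvable_of_odd_normal N (Nat.not_even_iff_odd.1 fun h' => hN h'.two_dvd)
    have heQ' := heQ.symm ▸ he
    obtain ⟨helQ, hcardQ, -⟩ := elementary_of_not_solvable hM Q hQab hQfix heQ' hnsQ
    have h8 : 8 ≤ Nat.card {x : (Q : Subgroup (G ⧸ N)) // x * x = 1} := by
      rw [Nat.card_congr (Equiv.subtypeUnivEquiv fun x : (Q : Subgroup (G ⧸ N)) =>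
        Subtype.ext (helQ x x.2)), hQcard, hk]
      calc 8 = 2 ^ 3 := by norm_num
        _ ≤ 2 ^ k := Nat.pow_le_pow_right (by norm_num) hk3
    obtain ⟨⟨L⟩, honeQ⟩ := exists_localData Q hQab hQfix hnsQ h8
    have hcore : ∀ K : Subgroup (G ⧸ N), K.Normal → Odd (Nat.card K) → K = ⊥ := by
      intro K hK hodd
      have h1 := CfsgLib.Solvable.pPrimeCore_quotient_eq_bot (p := 2) N hNdef
      exact le_bot_iff.1 (h1 ▸ CfsgLib.Solvable.le_pPrimeCore hK (Nat.coprime_two_right.2 hodd))
    haveI := hQab
    obtain ⟨t, ht, ht1⟩ : ∃ t ∈ (Q : Subgroup (G ⧸ N)), t ≠ 1 := by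
      refine (Subgroup.bot_or_exists_ne_one _).resolve_left fun h => ?_
      have h1 : Nat.card (Q : Subgroup (G ⧸ N)) = 1 := by rw [h]; exact Subgroup.card_bot
      rw [h1, heQ] at hcardQ
      omega
    set e := (Subgroup.centralizer ((Q : Subgroup (G ⧸ N)) : Set (G ⧸ N))).relIndex
      (Subgroup.normalizer ((Q : Subgroup (G ⧸ N)) : Set (G ⧸ N))) with hedef
    have hS := sum_cube_eq hM Q hQab hQfix L honeQ helQ ht ht1
    rw [← hedef] at hS
    obtain ⟨C⟩ := exists_column Q hM hQfix honeQ helQ ht ht1
    have hW := W_eq_bot L hM hQfix honeQ helQ heQ' hcardQ hedef.symm ht ht1 C hS hcore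
    have hsmall := index_le L heQ' hcardQ C hS
    have hDcard : ∀ g : G ⧸ N, g ∉ L.H → Nat.card (pointStab L.H g) = e := by
      intro g hg
      obtain ⟨-, -, hl⟩ := relIndex_pointStab L honeQ heQ' hcardQ hedef.symm hsmall hg
      rw [hW, Subgroup.relIndex_bot_right, mul_one, card_H_eq L hcardQ hedef.symm hW, hcardQ,
        mul_comm] at hl
      exact (Nat.eq_of_mul_eq_mul_right (Nat.succ_pos e) hl).symm
    have hodd : Odd e := by
      obtain ⟨l, hl⟩ := IsPGroup.iff_card.1 Q.isPGroup'
      rw [hcardQ] at hl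
      rcases l with _ | l
      · simp at hl; exact absurd (heQ.symm.trans hl) he.ne_zero
      · rw [pow_succ] at hl
        exact ⟨2 ^ l - 1, by have := Nat.one_le_two_pow (n := l); omega⟩
    have hquot : haveI := sup_normal L
        IsMulCommutative (L.H ⧸ (L.W ⊔ (Q : Subgroup (G ⧸ N))).subgroupOf L.H) := by
      haveI := sup_normal L
      haveI : Fact (Nat.card (L.H ⧸ (L.W ⊔ (Q : Subgroup (G ⧸ N))).subgroupOf L.H)).Prime :=
        ⟨by rw [← Subgroup.index_eq_card, sup_index L hedef.symm]; exact heQ'⟩
      haveI := isCyclic_of_prime_card (α := L.H ⧸ (L.W ⊔ (Q : Subgroup (G ⧸ N))).subgroupOf L.H) rfl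
      exact IsCyclic.isMulCommutative
    have hend := card_block_endgame L hM hQfix honeQ helQ heQ'.one_lt hodd hcardQ hedef.symm ht ht1
      hW hDcard C hS hquot
    rw [card_principalBlock_quotient hM N hN, hQcard] at hend
    exact hend

/-- The invariants for a free inertial action of prime order. -/
theorem invariants_of_free (hM : IsPModular 2 M) (P : Sylow 2 G)
    (hab : IsMulCommutative (P : Subgroup G))
    (hfix : ∀ y ∈ (P : Subgroup G), y ≠ 1 →
      Subgroup.centralizer ({y} : Set G) ⊓ Subgroup.normalizer ((P : Subgroup G) : Set G) ≤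
        Subgroup.centralizer ((P : Subgroup G) : Set G))
    (he : ((Subgroup.centralizer ((P : Subgroup G) : Set G)).relIndex
      (Subgroup.normalizer ((P : Subgroup G) : Set G))).Prime) :
    blockRank 2 (principalBlock M G) = (Subgroup.centralizer ((P : Subgroup G) : Set G)).relIndex
        (Subgroup.normalizer ((P : Subgroup G) : Set G)) ∧
      (¬ Group.IsSolvable G → Nat.card (principalBlock M G) = Nat.card (P : Subgroup G)) := by
  classical
  haveI : Fact (Nat.Prime 2) := ⟨Nat.prime_two⟩
  obtain ⟨n, hk, hn⟩ := card_eq_rank_add hM P hab hfix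
  have hne : (P : Subgroup G) ≠ ⊥ := fun h => he.ne_one <| by
    rw [Subgroup.relIndex_eq_one, h, Subgroup.coe_bot]
    intro x _
    exact Subgroup.mem_centralizer_iff.2 fun y hy => by
      rw [Set.mem_singleton_iff.1 hy, one_mul, mul_one]
  have hle := blockRank_le hM P hab hfix rfl hne
  by_cases hs : Group.IsSolvable G
  · haveI := hs
    exact ⟨le_antisymm hle (le_blockRank_of_solvable hM P hab he), fun h => absurd hs h⟩
  · obtain ⟨hcard, hP⟩ := card_eq_of_not_solvable hM P hab hfix he hs
    rw [hP] at hn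
    have hn1 : n = 1 := Nat.eq_of_mul_eq_mul_right he.pos (by omega)
    exact ⟨by omega, fun _ => hcard⟩

/-- The invariants for a prime inertial index, with the parameters of the free part. -/
theorem exists_invariants (hM : IsPModular 2 M) (P : Sylow 2 G)
    (hab : IsMulCommutative (P : Subgroup G))
    (he : ((Subgroup.centralizer ((P : Subgroup G) : Set G)).relIndex
      (Subgroup.normalizer ((P : Subgroup G) : Set G))).Prime) :
    ∃ z n : ℕ, Nat.card (P : Subgroup G) =
        z * (n * (Subgroup.centralizer ((P : Subgroup G) : Set G)).relIndex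
          (Subgroup.normalizer ((P : Subgroup G) : Set G)) + 1) ∧
      Nat.card (principalBlock M G) = z * ((Subgroup.centralizer ((P : Subgroup G) : Set G)).relIndex
          (Subgroup.normalizer ((P : Subgroup G) : Set G)) + n) ∧
      blockRank 2 (principalBlock M G) = (Subgroup.centralizer ((P : Subgroup G) : Set G)).relIndex
          (Subgroup.normalizer ((P : Subgroup G) : Set G)) ∧
      (¬ Group.IsSolvable G → Nat.card (principalBlock M G) = Nat.card (P : Subgroup G)) := by
  classical
  haveI : Fact (Nat.Prime 2) := ⟨Nat.prime_two⟩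
  obtain ⟨K, m, hK, Q, hidx, hcomm, hQab, hQfix, heQ, hcardQ⟩ := exists_free_kernel P hab he
  obtain ⟨hcard, hrank⟩ := principalBlock_restrict K hidx hcomm hM P hab
  rw [← heQ] at he
  obtain ⟨n, hk, hn⟩ := card_eq_rank_add hM Q hQab hQfix
  obtain ⟨hl, hns⟩ := invariants_of_free hM Q hQab hQfix he
  rw [heQ] at hl hn
  refine ⟨K.index, n, ?_, ?_, hrank.trans hl, fun hsol => ?_⟩
  · rw [← hcardQ, ← hn]
  · rw [hcard, hk, hl]
  · have hKs : ¬ Group.IsSolvable K := fun h => hsol <| by
      haveI := h
      letI : CommGroup (G ⧸ K) :=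
        { (inferInstance : Group (G ⧸ K)) with
          mul_comm := ((Subgroup.Normal.quotient_commutative_iff_commutator_le (N := K)).2
            hcomm).is_comm.comm }
      exact Group.isSolvable_of_ker_le_range K.subtype (QuotientGroup.mk' K) (by simp)
    rw [hcard, hns hKs, hcardQ]

end CfsgLib.AbelianTwo
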