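import Cfsg.Agent.Lib.AbelianTwoBlock.Count
import Cfsg.Agent.Lib.Blk83.PrincipalKernel
import Cfsg.Agent.Lib.BlockPrincipal.RealOddOrbit

/-!
# Passing to the quotient by an odd normal subgroup
-/

set_option autoImplicit false
set_option maxHeartbeats 1000000

open Cfsg

namespace CfsgLib.AbelianTwo

universe u

variable {G : Type u} [Group G] [Finite G] {p : ℕ} [Fact p.Prime]

/-- The Sylow subgroup in the quotient and its normalizer data. -/
theorem exists_quotient_sylow (P : Sylow p G) (hab : IsMulCommutative (P : Subgroup G))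
    (N : Subgroup G) [N.Normal] (hN : ¬ p ∣ Nat.card N) :
    ∃ Q : Sylow p (G ⧸ N), IsMulCommutative (Q : Subgroup (G ⧸ N)) ∧
      (Q : Subgroup (G ⧸ N)) = (P : Subgroup G).map (QuotientGroup.mk' N) ∧
      Nat.card (Q : Subgroup (G ⧸ N)) = Nat.card (P : Subgroup G) ∧
      (Subgroup.centralizer ((Q : Subgroup (G ⧸ N)) : Set (G ⧸ N))).relIndex
          (Subgroup.normalizer ((Q : Subgroup (G ⧸ N)) : Set (G ⧸ N))) =
        (Subgroup.centralizer ((P : Subgroup G) : Set G)).relIndex
          (Subgroup.normalizer ((P : Subgroup G) : Set G)) ∧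
      ((∀ y ∈ (P : Subgroup G), y ≠ 1 →
          Subgroup.centralizer ({y} : Set G) ⊓ Subgroup.normalizer ((P : Subgroup G) : Set G) ≤
            Subgroup.centralizer ((P : Subgroup G) : Set G)) →
        ∀ y ∈ (Q : Subgroup (G ⧸ N)), y ≠ 1 →
          Subgroup.centralizer ({y} : Set (G ⧸ N)) ⊓
              Subgroup.normalizer ((Q : Subgroup (G ⧸ N)) : Set (G ⧸ N)) ≤
            Subgroup.centralizer ((Q : Subgroup (G ⧸ N)) : Set (G ⧸ N))) := by
  classical
  set f := QuotientGroup.mk' N with hf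
  set Q : Sylow p (G ⧸ N) := P.mapSurjective (QuotientGroup.mk'_surjective N) with hQdef
  have hQ : (Q : Subgroup (G ⧸ N)) = (P : Subgroup G).map f := rfl
  -- `P` meets `N` trivially
  have hPN : ∀ x ∈ (P : Subgroup G), x ∈ N → x = 1 := fun x hx hxN => by
    obtain ⟨k, hk⟩ := CfsgLib.Blk83.pElement_of_mem_sylow P hx
    refine orderOf_eq_one_iff.1 ?_
    rw [hk]
    have h1 : p ^ k ∣ Nat.card N := hk ▸ Subgroup.orderOf_dvd_natCard _ hxN
    rcases Nat.eq_zero_or_pos k with rfl | hk0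
    · rfl
    · exact absurd ((dvd_pow_self p hk0.ne').trans h1) hN
  have hmove : ∀ n ∈ Subgroup.normalizer ((P : Subgroup G) : Set G), ∀ x ∈ (P : Subgroup G),
      f n * f x = f x * f n → n * x = x * n := by
    intro n hn x hx h
    have h1 : n * x * n⁻¹ * x⁻¹ ∈ N := by
      rw [← QuotientGroup.eq_one_iff]
      show f (n * x * n⁻¹ * x⁻¹) = 1
      rw [map_mul, map_mul, map_mul, map_inv, map_inv, h]
      group
    have h2 := hPN _ ((P : Subgroup G).mul_mem ((Subgroup.mem_normalizer_iff.1 hn x).1 hx)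
      ((P : Subgroup G).inv_mem hx)) h1
    have h3 : n * x * n⁻¹ = x := mul_inv_eq_one.1 h2
    exact mul_inv_eq_iff_eq_mul.1 h3
  have hnorm : Subgroup.normalizer ((Q : Subgroup (G ⧸ N)) : Set (G ⧸ N)) =
      (Subgroup.normalizer ((P : Subgroup G) : Set G)).map f := by
    rw [hQ]
    exact (CfsgLib.RealOdd2.map_normalizer_sylow f (QuotientGroup.mk'_surjective N) P).symm
  have hcen : ∀ n ∈ Subgroup.normalizer ((P : Subgroup G) : Set G),
      f n ∈ Subgroup.centralizer ((Q : Subgroup (G ⧸ N)) : Set (G ⧸ N)) ↔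
        n ∈ Subgroup.centralizer ((P : Subgroup G) : Set G) := by
    intro n hn
    constructor
    · intro h
      refine Subgroup.mem_centralizer_iff.2 fun x hx => ?_
      exact (hmove n hn x hx
        (Subgroup.mem_centralizer_iff.1 h (f x) ⟨x, hx, rfl⟩).symm).symm
    · intro h
      refine Subgroup.mem_centralizer_iff.2 ?_
      rintro _ ⟨x, hx, rfl⟩
      rw [← map_mul, ← map_mul, Subgroup.mem_centralizer_iff.1 h x hx]
  refine ⟨Q, ?_, hQ, ?_, ?_, ?_⟩
  · refine ⟨⟨?_⟩⟩
    rintro ⟨_, a, ha, rfl⟩ ⟨_, b, hb, rfl⟩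
    refine Subtype.ext ?_
    show f a * f b = f b * f a
    rw [← map_mul, ← map_mul,
      show a * b = b * a from congrArg Subtype.val
        (hab.is_comm.comm (⟨a, ha⟩ : (P : Subgroup G)) ⟨b, hb⟩)]
  · rw [hQ]
    refine Nat.card_congr (Equiv.ofBijective
      (fun x : (P : Subgroup G) => (⟨f x, x, x.2, rfl⟩ : (P : Subgroup G).map f))
      ⟨fun a b hab' => Subtype.ext ?_, ?_⟩).symm
    · have h : (a : G)⁻¹ * b ∈ N := QuotientGroup.eq.1 (congrArg Subtype.val hab')
      exact inv_mul_eq_one.1 (hPN _ ((P : Subgroup G).mul_mem ((P : Subgroup G).inv_mem a.2) b.2) h)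
    · rintro ⟨_, x, hx, rfl⟩
      exact ⟨⟨x, hx⟩, rfl⟩
  · rw [hnorm, ← Subgroup.relIndex_comap, ← Subgroup.inf_relIndex_right
      ((Subgroup.centralizer ((Q : Subgroup (G ⧸ N)) : Set (G ⧸ N))).comap f),
      ← Subgroup.inf_relIndex_right (Subgroup.centralizer ((P : Subgroup G) : Set G))]
    congr 1
    ext n
    exact ⟨fun h => ⟨(hcen n h.2).1 h.1, h.2⟩, fun h => ⟨(hcen n h.2).2 h.1, h.2⟩⟩
  · intro hfix y hy hy1 z hz
    obtain ⟨x, hx, rfl⟩ := hy
    obtain ⟨hz1, hz2⟩ := hz
    have hz2' := hnorm.le hz2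
    obtain ⟨n, hn, rfl⟩ := hz2'
    refine (hcen n hn).2 (hfix x hx (fun h => hy1 (by rw [h, map_one])) ⟨?_, hn⟩)
    exact Subgroup.mem_centralizer_singleton_iff.2
      (hmove n hn x hx (Subgroup.mem_centralizer_singleton_iff.1 hz1))

variable {M : Ideal Cfsg.AlgInt}

/-- The number of characters of the principal block. -/
theorem card_principalBlock_quotient (hM : IsPModular p M) (N : Subgroup G) [N.Normal]
    (hN : ¬ p ∣ Nat.card N) :
    Nat.card (principalBlock M (G ⧸ N)) = Nat.card (principalBlock M G) :=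
  Nat.card_congr (CfsgLib.Blk83.inflIrr_bijOn hM N hN).equiv

/-- The rank of the principal block. -/
theorem blockRank_quotient (hM : IsPModular p M) (N : Subgroup G) [N.Normal]
    (hN : ¬ p ∣ Nat.card N) :
    blockRank p (principalBlock M (G ⧸ N)) = blockRank p (principalBlock M G) := by
  classical
  let L : (G ⧸ N → ℂ) →ₗ[ℂ] (G → ℂ) := LinearMap.funLeft ℂ ℂ (QuotientGroup.mk' N)
  have hinj : Function.Injective L :=
    LinearMap.funLeft_injective_of_surjective _ _ _ (QuotientGroup.mk'_surjective N)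
  have hL : ∀ η : IrrCharacter (G ⧸ N), L (pRegularPart p (η : G ⧸ N → ℂ)) =
      pRegularPart p (CfsgLib.Blk83.inflIrr N η : G → ℂ) := fun η => funext fun g => by
    simp only [L, LinearMap.funLeft_apply, pRegularPart, CfsgLib.Blk83.inflIrr_apply,
      QuotientGroup.coe_mk']
    exact if_congr (CfsgLib.Blk83.isPRegular_mk_iff N hN g).symm rfl rfl
  set S : Submodule ℂ (G ⧸ N → ℂ) := Submodule.span ℂ
    ((fun η : IrrCharacter (G ⧸ N) => pRegularPart p (η : G ⧸ N → ℂ)) '' principalBlock M (G ⧸ N))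
  have hmap : S.map L = Submodule.span ℂ
      ((fun χ : IrrCharacter G => pRegularPart p (χ : G → ℂ)) '' principalBlock M G) := by
    rw [Submodule.map_span]
    congr 1
    rw [← (CfsgLib.Blk83.inflIrr_bijOn hM N hN).image_eq, Set.image_image, Set.image_image]
    exact Set.image_congr fun η _ => hL η
  rw [Cfsg.blockRank, Cfsg.blockRank, ← hmap]
  exact (Submodule.equivMapOfInjective L hinj S).finrank_eq

end CfsgLib.AbelianTwo
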