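import Cfsg.Agent.Lib.AbelianTwoBlock.Restrict
import Cfsg.Agent.Lib.Transfer.AbelianSylow

/-!
# Removing the central part of an abelian Sylow subgroup

For a prime inertial index the kernel of the focal transfer has a Sylow subgroup on which the
inertial quotient acts freely.
-/

set_option autoImplicit false
set_option maxHeartbeats 1000000

open Cfsg

namespace CfsgLib.AbelianTwo

universe u

variable {G : Type u} [Group G] [Finite G]

theorem relIndex_prime_cases {C N : Subgroup G} (hCN : C ≤ N) (he : (C.relIndex N).Prime)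
    {H : Subgroup G} (hCH : C ≤ H) : H ⊓ N ≤ C ∨ N ≤ H := by
  have h := Subgroup.relIndex_mul_relIndex C (H ⊓ N) N (le_inf hCH hCN) inf_le_right
  rcases (Nat.dvd_prime he).1 ⟨_, h.symm⟩ with h1 | h1
  · exact Or.inl (Subgroup.relIndex_eq_one.1 h1)
  · refine Or.inr (le_trans (Subgroup.relIndex_eq_one.1
      (show (H ⊓ N).relIndex N = 1 from ?_)) inf_le_left)
    rw [h1] at h
    exact (Nat.mul_eq_left he.ne_zero).1 h

variable {p : ℕ} [Fact p.Prime]

/-- The reduction to a free action. -/
theorem exists_free_kernel (P : Sylow p G) (hab : IsMulCommutative (P : Subgroup G))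
    (he : ((Subgroup.centralizer ((P : Subgroup G) : Set G)).relIndex
      (Subgroup.normalizer ((P : Subgroup G) : Set G))).Prime) :
    ∃ (K : Subgroup G) (m : ℕ) (_ : K.Normal) (Q : Sylow p K),
      K.index = p ^ m ∧ commutator G ≤ K ∧ IsMulCommutative (Q : Subgroup K) ∧
      (∀ y ∈ (Q : Subgroup K), y ≠ 1 →
        Subgroup.centralizer ({y} : Set K) ⊓ Subgroup.normalizer ((Q : Subgroup K) : Set K) ≤
          Subgroup.centralizer ((Q : Subgroup K) : Set K)) ∧
      (Subgroup.centralizer ((Q : Subgroup K) : Set K)).relIndex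
          (Subgroup.normalizer ((Q : Subgroup K) : Set K)) =
        (Subgroup.centralizer ((P : Subgroup G) : Set G)).relIndex
          (Subgroup.normalizer ((P : Subgroup G) : Set G)) ∧
      K.index * Nat.card (Q : Subgroup K) = Nat.card (P : Subgroup G) := by
  classical
  set K := (P : Subgroup G).transferFocal.ker with hKdef
  have hcop : Nat.Coprime (P : Subgroup G).index
      (Nat.card ((P : Subgroup G) ⧸ (P : Subgroup G).focalSubgroupOf)) :=
    CfsgLib.Transfer.coprime_card_quotient_focal (CfsgLib.Transfer.coprime_card_index_sylow P)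
  have hKP : K ⊓ (P : Subgroup G) = (P : Subgroup G).focalSubgroup :=
    CfsgLib.Transfer.ker_transferFocal_inf_of_coprime hcop
  have hcommK : commutator G ≤ K := CfsgLib.Transfer.commutator_le_ker_transferFocal _
  have hsurj := CfsgLib.Transfer.transferFocal_surjective_of_coprime hcop
  obtain ⟨m, hm⟩ : ∃ m, K.index = p ^ m := by
    rw [hKdef, Subgroup.index_ker, MonoidHom.range_eq_top.2 hsurj, Subgroup.card_top]
    exact IsPGroup.iff_card.1 (P.2.to_quotient _)
  have hcomm : ∀ x ∈ (P : Subgroup G), ∀ y ∈ (P : Subgroup G), x * y = y * x := fun x hx y hy =>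
    congrArg Subtype.val (hab.is_comm.comm (⟨x, hx⟩ : (P : Subgroup G)) ⟨y, hy⟩)
  set A : Subgroup G := K ⊓ (P : Subgroup G) with hA
  set CP := Subgroup.centralizer ((P : Subgroup G) : Set G) with hCP
  set NP := Subgroup.normalizer ((P : Subgroup G) : Set G) with hNP
  set CA := Subgroup.centralizer (A : Set G) with hCA
  set NA := Subgroup.normalizer (A : Set G) with hNA
  have hPA : (P : Subgroup G) ≤ CA := fun x hx =>
    Subgroup.mem_centralizer_iff.2 fun a ha => hcomm a ha.2 x hx
  have hCPN : CP ≤ NP := Subgroup.centralizer_le_normalizer _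
  have hPC : (P : Subgroup G) ≤ CP := fun x hx =>
    Subgroup.mem_centralizer_iff.2 fun a ha => hcomm a ha x hx
  have hCPA : CP ≤ CA := Subgroup.centralizer_le (fun a ha => ha.2)
  have hNPA : NP ≤ NA := fun n hn => by
    refine Subgroup.mem_normalizer_iff.2 fun a => ?_
    rw [hA, Subgroup.mem_inf, Subgroup.mem_inf, Subgroup.mem_normalizer_iff.1 hn a]
    exact and_congr_left fun _ =>
      ⟨fun h => Subgroup.Normal.conj_mem inferInstance a h n, fun h => by
        simpa [mul_assoc] using Subgroup.Normal.conj_mem (H := K) inferInstance _ h n⁻¹⟩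
  -- the centraliser in the normalizer
  have hinf : CA ⊓ NP ≤ CP := by
    rcases relIndex_prime_cases hCPN he hCPA with h | h
    · exact h
    · exfalso
      refine he.ne_one (Subgroup.relIndex_eq_one.2 fun n hn => Subgroup.mem_centralizer_iff.2 ?_)
      intro x hx
      have hs := CfsgLib.Transfer.abelian_sylow_sup P hab
      rw [← CfsgLib.Transfer.abelian_sylow_focal_eq P hab, ← hKP] at hs
      refine (Subgroup.mem_centralizer_iff.1 (show n ∈ Subgroup.centralizer
        ((A ⊔ ((P : Subgroup G) ⊓ Subgroup.centralizer (NP : Set G)) : Subgroup G) : Set G) from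
          ?_) x (hs.ge hx))
      rw [Subgroup.sup_eq_closure, Subgroup.centralizer_closure]
      refine Subgroup.mem_centralizer_iff.2 ?_
      rintro y (hy | hy)
      · exact Subgroup.mem_centralizer_iff.1 (h hn) y hy
      · exact (Subgroup.mem_centralizer_iff.1 hy.2 n hn).symm
  -- the action is free
  have hfree : ∀ y ∈ A, y ≠ 1 → Subgroup.centralizer ({y} : Set G) ⊓ NP ≤ CP := by
    intro y hy hy1
    have hle : CP ≤ Subgroup.centralizer ({y} : Set G) :=
      Subgroup.centralizer_le (by simpa using hy.2)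
    rcases relIndex_prime_cases hCPN he hle with h | h
    · exact h
    · exfalso
      refine hy1 (CfsgLib.Transfer.abelian_sylow_centralPart_inf_commutator P hab hy.2 ?_ ?_)
      · exact Subgroup.mem_centralizer_iff.2 fun n hn =>
          (Subgroup.mem_centralizer_singleton_iff.1 (h hn))
      · have : y ∈ (P : Subgroup G).focalSubgroup := hKP ▸ hy
        exact (P : Subgroup G).focalSubgroup_le_commutator this
  -- the normalizer of `A`
  have hfrat : ∀ n ∈ NA, ∃ c ∈ CA, c * n ∈ NP := by
    intro n hn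
    let P₁ : Sylow p CA := P.subtype hPA
    have hconjCA : ∀ g ∈ (P : Subgroup G), n * g * n⁻¹ ∈ CA := fun g hg => by
      refine Subgroup.mem_centralizer_iff.2 fun a ha => ?_
      have ha' : n⁻¹ * a * n ∈ A := (Subgroup.mem_normalizer_iff''.1 hn a).1 ha
      have h1 : (n⁻¹ * a * n) * g = g * (n⁻¹ * a * n) :=
        Subgroup.mem_centralizer_iff.1 (hPA hg) _ ha'
      calc a * (n * g * n⁻¹) = n * ((n⁻¹ * a * n) * g) * n⁻¹ := by group
        _ = n * (g * (n⁻¹ * a * n)) * n⁻¹ := by rw [h1]
        _ = n * g * n⁻¹ * a := by group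
    let P₂ : Sylow p CA := (MulAut.conj n • P).subtype (fun g hg => by
      obtain ⟨g', hg', rfl⟩ := hg
      simpa using hconjCA g' hg')
    obtain ⟨c, hc⟩ := MulAction.exists_smul_eq CA P₂ P₁
    refine ⟨c, c.2, Subgroup.mem_normalizer_fintype fun g hg => ?_⟩
    have h1 : (⟨n * g * n⁻¹, hconjCA g hg⟩ : CA) ∈ (P₂ : Subgroup CA) := ⟨g, hg, by simp⟩
    have h2 : c * ⟨n * g * n⁻¹, hconjCA g hg⟩ * c⁻¹ ∈ (P₁ : Subgroup CA) := by
      rw [← hc]
      exact Subgroup.smul_mem_pointwise_smul _ (MulAut.conj c) _ h1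
    have h3 : (c : G) * (n * g * n⁻¹) * (c : G)⁻¹ ∈ (P : Subgroup G) := h2
    have e : (c : G) * n * g * ((c : G) * n)⁻¹ = (c : G) * (n * g * n⁻¹) * (c : G)⁻¹ := by group
    rw [e]
    exact h3
  have hNPK : ∀ n ∈ NA ⊓ K, n ∈ CA ⊔ (NP ⊓ K) := by
    rintro n ⟨hn, hnK⟩
    obtain ⟨c, hc, hcn⟩ := hfrat n hn
    -- `K P = G`, so an element of `P` moves `c n` into `K`
    have htop : K ⊔ (P : Subgroup G) = ⊤ := by
      refine eq_top_iff.2 fun g _ => ?_
      obtain ⟨x, hx⟩ := QuotientGroup.mk_surjective ((P : Subgroup G).transferFocal g)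
      obtain ⟨q, hq⟩ := (powCoprime hcop.symm).surjective (x : _ ⧸ (P : Subgroup G).focalSubgroupOf)
      obtain ⟨y, rfl⟩ := QuotientGroup.mk_surjective q
      have h1 : g * (y : G)⁻¹ ∈ K := by
        rw [hKdef, MonoidHom.mem_ker, map_mul, map_inv, Subgroup.transferFocal_eq_pow]
        simp only [powCoprime_apply] at hq
        rw [hq, ← hx, mul_inv_cancel]
      have := Subgroup.mul_mem_sup h1 y.2
      simpa using this
    obtain ⟨k, hk, y, hy, hky⟩ := Subgroup.mem_sup_of_normal_left.mp
      (show c * n ∈ K ⊔ (P : Subgroup G) by rw [htop]; trivial)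
    have hkN : k ∈ NP ⊓ K := by
      refine ⟨?_, hk⟩
      have : k = c * n * y⁻¹ := by rw [← hky]; group
      rw [this]
      exact NP.mul_mem hcn (NP.inv_mem (Subgroup.le_normalizer hy))
    have hn' : n = c⁻¹ * (k * y) := by rw [hky]; group
    rw [hn']
    exact mul_mem (Subgroup.mem_sup_left (inv_mem hc))
      (mul_mem (Subgroup.mem_sup_right hkN) (Subgroup.mem_sup_left (hPA hy)))
  -- the Sylow subgroup of `K`
  obtain ⟨k₀, hk₀⟩ := IsPGroup.iff_card.1 P.2
  have hcardA : K.index * Nat.card A = Nat.card (P : Subgroup G) := by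
    have h1 := (P : Subgroup G).card_eq_card_quotient_mul_card_subgroup
    have h2 := Subgroup.card_eq_card_quotient_mul_card_subgroup (P : Subgroup G).focalSubgroupOf
    rw [h2, hKdef, Subgroup.index_ker, MonoidHom.range_eq_top.2 hsurj, Subgroup.card_top,
      show A = (P : Subgroup G).focalSubgroup from hKP]
    congr 1
    exact (Nat.card_congr (Subgroup.subgroupOfEquivOfLe (P : Subgroup G).focalSubgroup_le).toEquiv).symm
  have hQ : IsPGroup p (A.subgroupOf K) := (P.2.to_le inf_le_right).comap_subtype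
  have hQidx : ¬ p ∣ (A.subgroupOf K).index := by
    intro hd
    have h1 : Nat.card (A.subgroupOf K) = Nat.card A :=
      Nat.card_congr (Subgroup.subgroupOfEquivOfLe inf_le_left).toEquiv
    have h2 : (A.subgroupOf K).index = (P : Subgroup G).index := by
      have a := (A.subgroupOf K).index_mul_card
      have b := (P : Subgroup G).index_mul_card
      have c := K.index_mul_card
      rw [h1] at a
      rw [← hcardA, ← c, ← a] at b
      have hpos : 0 < K.index * Nat.card A :=
        Nat.mul_pos (Nat.pos_of_ne_zero K.index_ne_zero_of_finite) Nat.card_pos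
      exact Nat.eq_of_mul_eq_mul_right hpos (by rw [b]; ring)
    exact P.not_dvd_index (h2 ▸ hd)
  set Q : Sylow p K := hQ.toSylow hQidx with hQdef
  have hQmem : ∀ x : K, x ∈ (Q : Subgroup K) ↔ (x : G) ∈ A := fun x => Iff.rfl
  have hC : Subgroup.centralizer ((Q : Subgroup K) : Set K) = CA.subgroupOf K := by
    ext x
    rw [Subgroup.mem_subgroupOf, Subgroup.mem_centralizer_iff, hCA, Subgroup.mem_centralizer_iff]
    exact ⟨fun h a ha => congrArg Subtype.val (h ⟨a, ha.1⟩ ha),
      fun h a ha => Subtype.ext (h a ((hQmem a).1 ha))⟩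
  have hN : Subgroup.normalizer ((Q : Subgroup K) : Set K) = NA.subgroupOf K := by
    ext x
    rw [Subgroup.mem_subgroupOf, Subgroup.mem_normalizer_iff, hNA, Subgroup.mem_normalizer_iff]
    refine ⟨fun h a => ?_, fun h a => h a⟩
    constructor
    · intro ha
      exact (h ⟨a, ha.1⟩).1 ha
    · intro ha
      have haK : a ∈ K := by
        have := Subgroup.Normal.conj_mem (H := K) inferInstance _ ha.1 (x : G)⁻¹
        simpa [mul_assoc] using this
      exact (h ⟨a, haK⟩).2 ha
  refine ⟨K, m, inferInstance, Q, hm, hcommK, ⟨⟨fun a b => Subtype.ext (Subtype.ext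
    (hcomm _ ((hQmem a).1 a.2).2 _ ((hQmem b).1 b.2).2))⟩⟩, ?_, ?_, ?_⟩
  · intro y hy hy1 n hn
    rw [hC, Subgroup.mem_subgroupOf]
    obtain ⟨hny, hnN'⟩ := hn
    have hnN : (n : G) ∈ NA := hN.le hnN'
    have hyA : (y : G) ∈ A := (hQmem y).1 hy
    obtain ⟨c, hc, hcn⟩ := hfrat n hnN
    have hny' : (n : G) * y = (y : G) * n :=
      congrArg Subtype.val (Subgroup.mem_centralizer_singleton_iff.1 hny)
    have hcy : (y : G) * c = c * y := Subgroup.mem_centralizer_iff.1 hc _ hyA
    have hmem : c * n ∈ Subgroup.centralizer ({(y : G)} : Set G) := by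
      refine Subgroup.mem_centralizer_singleton_iff.2 ?_
      rw [mul_assoc, hny', ← mul_assoc, ← hcy, mul_assoc]
    have hcn' := hCPA (hfree _ hyA (fun h => hy1 (Subtype.ext h)) ⟨hmem, hcn⟩)
    have : (n : G) = c⁻¹ * (c * n) := by group
    rw [this]
    exact mul_mem (inv_mem hc) hcn'
  · rw [hC, hN]
    -- restriction maps the two normalizers onto the same automorphism group
    have h1 : (CA.subgroupOf K).relIndex (NA.subgroupOf K) = CA.relIndex (NA ⊓ K) := by
      rw [Subgroup.subgroupOf, Subgroup.relIndex_comap, Subgroup.subgroupOf_map_subtype]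
    have hker : CA.subgroupOf NA = A.normalizerMonoidHom.ker := by
      rw [Subgroup.normalizerMonoidHom_ker]
    have himg : ∀ X : Subgroup G, X ≤ NA →
        CA.relIndex X = Nat.card ((X.subgroupOf NA).map A.normalizerMonoidHom) := fun X hX => by
      rw [← Subgroup.relIndex_ker, ← hker, Subgroup.relIndex_subgroupOf hX]
    have hL : NP ⊓ K ≤ NA := inf_le_left.trans hNPA
    have h2 : (((NA ⊓ K).subgroupOf NA).map A.normalizerMonoidHom) =
        ((NP ⊓ K).subgroupOf NA).map A.normalizerMonoidHom := by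
      refine le_antisymm ?_ (Subgroup.map_mono fun x hx => ⟨x.2, hx.2⟩)
      rintro _ ⟨x, hx, rfl⟩
      obtain ⟨c, hc, hcn⟩ : ∃ c ∈ CA, c * (x : G) ∈ NP ⊓ K := by
        have h := hNPK x hx
        have hsup : CA ⊔ (NP ⊓ K) ≤ NA := sup_le (Subgroup.centralizer_le_normalizer _) hL
        have h' : (x : G) ∈ ((CA ⊔ (NP ⊓ K) : Subgroup G) : Set G) := h
        rw [Subgroup.coe_mul_of_right_le_normalizer_left _ _
          (hL.trans (CfsgLib.Blocks.Pairs.normalizer_le_normalizer_centralizer A))] at h'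
        obtain ⟨c, hc, l, hl, hcl⟩ := h'
        exact ⟨c⁻¹, inv_mem hc, by rw [← hcl, ← mul_assoc, inv_mul_cancel, one_mul]; exact hl⟩
      refine ⟨⟨c * (x : G), hL hcn⟩, hcn, ?_⟩
      have hcA : (⟨c, Subgroup.centralizer_le_normalizer _ hc⟩ : NA) ∈ A.normalizerMonoidHom.ker := by
        rw [← hker]; exact hc
      rw [show (⟨c * (x : G), hL hcn⟩ : NA) =
        ⟨c, Subgroup.centralizer_le_normalizer _ hc⟩ * x from rfl, map_mul,
        MonoidHom.mem_ker.1 hcA, one_mul]
    rw [h1, himg _ inf_le_left, h2, ← himg _ hL]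
    have h3 : CA.relIndex (NP ⊓ K) = CP.relIndex (NP ⊓ K) := by
      rw [← Subgroup.inf_relIndex_right CA, ← Subgroup.inf_relIndex_right CP]
      congr 1
      exact le_antisymm (fun x hx => ⟨hinf ⟨hx.1, hx.2.1⟩, hx.2⟩) (inf_le_inf_right _ hCPA)
    rw [h3]
    have h4 := Subgroup.relIndex_inf_mul_relIndex CP NP K
    have h4' := Subgroup.relIndex_inf_mul_relIndex CP K NP
    rw [inf_comm K NP] at h4'
    have h5 := Subgroup.relIndex_mul_relIndex (CP ⊓ K) CP NP inf_le_left hCPN
    rw [Subgroup.inf_relIndex_left] at h5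
    have hX : ∀ X : Subgroup G, (P : Subgroup G) ≤ X → K.relIndex X = K.index := by
      intro X hX
      have htop : X ⊔ K = ⊤ := by
        refine eq_top_iff.2 ?_
        refine le_trans ?_ (sup_le_sup_right hX K)
        have hdvd1 := Subgroup.index_dvd_of_le (le_sup_right : K ≤ (P : Subgroup G) ⊔ K)
        have hdvd2 := Subgroup.index_dvd_of_le (le_sup_left : (P : Subgroup G) ≤ (P : Subgroup G) ⊔ K)
        rw [hm] at hdvd1
        obtain ⟨i, -, hi⟩ := (Nat.dvd_prime_pow (Fact.out : p.Prime)).1 hdvd1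
        rw [top_le_iff, ← Subgroup.index_eq_one, hi]
        rcases Nat.eq_zero_or_pos i with rfl | hi0
        · rfl
        · exact absurd ((dvd_pow_self p hi0.ne').trans (hi ▸ hdvd2)) P.not_dvd_index
      rw [← Subgroup.relIndex_sup_right X K, htop, Subgroup.relIndex_top_right]
    rw [hX NP Subgroup.le_normalizer] at h4'
    rw [hX CP hPC, ← h4', mul_comm] at h5
    exact (Nat.eq_of_mul_eq_mul_right (Nat.pos_of_ne_zero K.index_ne_zero_of_finite) h5).symm
  · rw [← hcardA]
    congr 1
    exact Nat.card_congr (Subgroup.subgroupOfEquivOfLe inf_le_left).toEquiv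

end CfsgLib.AbelianTwo
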