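import Cfsg.Agent.Lib.AbelianTwoBlock.Count
import Cfsg.Agent.Lib.Blk83.PrincipalKernel
import Cfsg.Agent.Lib.Char.Induced
import Cfsg.Agent.Lib.Char.Twist

/-!
# The principal block and normal subgroups with abelian quotient of prime power order

For an abelian Sylow subgroup every member of the principal block restricts irreducibly to such a
subgroup, and every member of the principal block of the subgroup extends in exactly as many ways
as the index.
-/

set_option autoImplicit false
set_option maxHeartbeats 1000000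

open Cfsg
open scoped ComplexConjugate

namespace CfsgLib.AbelianTwo

universe u

variable {G : Type u} [Group G] [Finite G] {p : ℕ} [Fact p.Prime] {M : Ideal Cfsg.AlgInt}

theorem mem_principalBlock_iff_sum [Fintype G] (hM : IsPModular p M) (ψ : IrrCharacter G) :
    ψ ∈ principalBlock M G ↔ ∑ g : G, pRegularPart p (ψ : G → ℂ) g ≠ 0 := by
  rw [CfsgLib.Blk83.mem_principalBlock_iff p hM, CfsgLib.Blk83.regMult]
  have h1 : (p : ℂ) ^ (Nat.card G).factorization p * (Nat.card G : ℂ)⁻¹ ≠ 0 :=
    mul_ne_zero (pow_ne_zero _ (Nat.cast_ne_zero.2 (Fact.out : p.Prime).ne_zero))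
      (inv_ne_zero (Nat.cast_ne_zero.2 Nat.card_pos.ne'))
  rw [mul_ne_zero_iff]
  exact and_iff_right h1

section Restrict

variable (K : Subgroup G) [K.Normal] {m : ℕ} (hidx : K.index = p ^ m)

include hidx in
/-- Elements of order prime to `p` lie in a normal subgroup of `p`-power index. -/
theorem mem_of_isPRegular {g : G} (hg : ¬ p ∣ orderOf g) : g ∈ K := by
  rw [← QuotientGroup.eq_one_iff, ← orderOf_eq_one_iff]
  have h1 : orderOf (QuotientGroup.mk g : G ⧸ K) ∣ p ^ m :=
    hidx ▸ K.index_eq_card ▸ orderOf_dvd_natCard _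
  exact Nat.eq_one_of_dvd_coprimes ((((Fact.out : p.Prime).coprime_iff_not_dvd).2 hg).pow_left m).symm
    (orderOf_map_dvd (QuotientGroup.mk' K) g) h1

include hidx in
theorem sum_regular_restrict [Fintype G] [Fintype K] (f : G → ℂ) :
    ∑ g : G, pRegularPart p f g = ∑ k : K, pRegularPart p (fun k : K => f k) k := by
  classical
  have h : ∀ k : K, pRegularPart p (fun k : K => f k) k = pRegularPart p f (k : G) := fun k => by
    simp only [pRegularPart, IsPRegular, Subgroup.orderOf_coe]
    split_ifs <;> simp_all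
  simp only [h]
  rw [← Finset.sum_subtype (Finset.univ.filter (· ∈ K)) (fun g => by simp) (pRegularPart p f),
    Finset.sum_filter]
  refine Finset.sum_congr rfl fun g _ => ?_
  by_cases hg : g ∈ K
  · rw [if_pos hg]
  · rw [if_neg hg]
    exact if_neg fun hr : IsPRegular p g => hg (mem_of_isPRegular K hidx hr)

variable (hcomm : commutator G ≤ K)

/-- The linear characters trivial on `K`, as characters of the quotient. -/
noncomputable def twistFun (z : (G ⧸ K) →* ℂˣ) (g : G) : ℂ := (z (QuotientGroup.mk g) : ℂ)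

/-- The twist of an irreducible character by a linear character trivial on `K`. -/
noncomputable def twist (z : (G ⧸ K) →* ℂˣ) (χ : IrrCharacter G) : IrrCharacter G :=
  ⟨fun g => twistFun K z g * (χ : G → ℂ) g,
    CfsgLib.Char.IsIrrCharacter.linear_mul χ.2 (z.comp (QuotientGroup.mk' K))⟩

theorem twist_apply (z : (G ⧸ K) →* ℂˣ) (χ : IrrCharacter G) (g : G) :
    (twist K z χ : G → ℂ) g = (z (QuotientGroup.mk g) : ℂ) * (χ : G → ℂ) g := rfl

theorem twist_apply_mem (z : (G ⧸ K) →* ℂˣ) (χ : IrrCharacter G) {g : G} (hg : g ∈ K) :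
    (twist K z χ : G → ℂ) g = (χ : G → ℂ) g := by
  rw [twist_apply, (QuotientGroup.eq_one_iff g).2 hg, map_one, Units.val_one, one_mul]

include hidx in
theorem twist_mem (hM : IsPModular p M) (z : (G ⧸ K) →* ℂˣ) {χ : IrrCharacter G}
    (hχ : χ ∈ principalBlock M G) : twist K z χ ∈ principalBlock M G := by
  classical
  haveI := Fintype.ofFinite G
  rw [mem_principalBlock_iff_sum hM] at hχ ⊢
  rw [sum_regular_restrict K hidx] at hχ ⊢
  simp only [twist_apply_mem K z χ (SetLike.coe_mem _)]
  exact hχ

include hidx in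
theorem twist_ne (hM : IsPModular p M) (P : Sylow p G) (hab : IsMulCommutative (P : Subgroup G))
    {z : (G ⧸ K) →* ℂˣ} (hz : z ≠ 1) {χ : IrrCharacter G} (hχ : χ ∈ principalBlock M G) :
    twist K z χ ≠ χ := by
  classical
  obtain ⟨u, hu, hzu⟩ : ∃ u ∈ (P : Subgroup G), z (QuotientGroup.mk u) ≠ 1 := by
    by_contra hall
    push Not at hall
    refine hz (MonoidHom.ext fun w => ?_)
    induction w using QuotientGroup.induction_on with
    | H g =>
      have htop : K ⊔ (P : Subgroup G) = ⊤ := by
        rw [← Subgroup.index_eq_one]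
        obtain ⟨i, -, hi⟩ := (Nat.dvd_prime_pow (Fact.out : p.Prime)).1
          (hidx ▸ Subgroup.index_dvd_of_le (le_sup_left : K ≤ K ⊔ (P : Subgroup G)))
        have h2 : (K ⊔ (P : Subgroup G)).index ∣ (P : Subgroup G).index :=
          Subgroup.index_dvd_of_le le_sup_right
        rw [hi] at h2 ⊢
        rcases Nat.eq_zero_or_pos i with rfl | hi0
        · rfl
        · exact absurd ((dvd_pow_self p hi0.ne').trans h2) P.not_dvd_index
      obtain ⟨k, hk, y, hy, rfl⟩ := Subgroup.mem_sup_of_normal_left.mp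
        (show g ∈ K ⊔ (P : Subgroup G) by rw [htop]; trivial)
      rw [QuotientGroup.mk_mul, (QuotientGroup.eq_one_iff k).2 hk, one_mul, hall y hy]
      rfl
  obtain ⟨x, y, hxu, -, hy, hne⟩ := exists_section_apply_ne_zero hM P hab hu hχ
  intro he
  have h1 := congrArg (fun η : IrrCharacter G => (η : G → ℂ) (x * y)) he
  simp only [twist_apply] at h1
  have hzx : z (QuotientGroup.mk (x * y)) = z (QuotientGroup.mk u) := by
    obtain ⟨c, rfl⟩ := isConj_iff.1 hxu
    rw [QuotientGroup.mk_mul, (QuotientGroup.eq_one_iff y).2 (mem_of_isPRegular K hidx hy), mul_one,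
      QuotientGroup.mk_mul, QuotientGroup.mk_mul, QuotientGroup.mk_inv, map_mul, map_mul, map_inv,
      mul_comm (z (c : G ⧸ K)), mul_inv_cancel_right]
  rw [hzx] at h1
  exact hzu (Units.ext (mul_eq_right₀ hne |>.1 h1))

include hcomm in
theorem sum_twistFun (g : G) [Fintype ((G ⧸ K) →* ℂˣ)] [Decidable (g ∈ K)] :
    ∑ z : (G ⧸ K) →* ℂˣ, twistFun K z g = if g ∈ K then (K.index : ℂ) else 0 := by
  classical
  letI : CommGroup (G ⧸ K) :=
    { (inferInstance : Group (G ⧸ K)) with
      mul_comm := ((Subgroup.Normal.quotient_commutative_iff_commutator_le (N := K)).2 hcomm).is_comm.comm }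
  have h := CfsgLib.Blk83.FreeOrbit.sum_dual (A := G ⧸ K) (QuotientGroup.mk g)
  rw [K.index_eq_card]
  simp only [twistFun]
  refine h.trans (if_congr (QuotientGroup.eq_one_iff g) rfl rfl)

include hcomm in
theorem card_dual : Nat.card ((G ⧸ K) →* ℂˣ) = K.index := by
  letI : CommGroup (G ⧸ K) :=
    { (inferInstance : Group (G ⧸ K)) with
      mul_comm := ((Subgroup.Normal.quotient_commutative_iff_commutator_le (N := K)).2 hcomm).is_comm.comm }
  rw [K.index_eq_card]
  exact CommGroup.card_monoidHom_of_hasEnoughRootsOfUnity (G ⧸ K) ℂ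

include hcomm in
theorem finite_dual_quot : Finite ((G ⧸ K) →* ℂˣ) :=
  Nat.finite_of_card_ne_zero (by rw [card_dual K hcomm]; exact K.index_ne_zero_of_finite)

include hcomm in
theorem classInner_restrict [Fintype G] [Fintype K] [Fintype ((G ⧸ K) →* ℂˣ)]
    (χ χ' : IrrCharacter G) :
    Cfsg.classInner (fun k : K => (χ : G → ℂ) k) (fun k : K => (χ' : G → ℂ) k) =
      ∑ z : (G ⧸ K) →* ℂˣ, Cfsg.classInner (twist K z χ : G → ℂ) (χ' : G → ℂ) := by
  classical
  simp only [Cfsg.classInner, twist_apply, ← Finset.mul_sum]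
  rw [Finset.sum_comm]
  have h : ∀ g : G, ∑ z : (G ⧸ K) →* ℂˣ,
      (z (QuotientGroup.mk g) : ℂ) * (χ : G → ℂ) g * conj ((χ' : G → ℂ) g) =
      (if g ∈ K then (K.index : ℂ) else 0) * ((χ : G → ℂ) g * conj ((χ' : G → ℂ) g)) := fun g => by
    rw [← sum_twistFun K hcomm g, Finset.sum_mul]
    exact Finset.sum_congr rfl fun z _ => by rw [twistFun, mul_assoc]
  rw [Finset.sum_congr rfl fun g _ => h g]
  simp only [ite_mul, zero_mul, ← Finset.sum_filter, ← Finset.mul_sum]
  rw [Finset.sum_subtype (Finset.univ.filter fun g : G => g ∈ K) (p := (· ∈ K)) (fun g => by simp)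
    (fun g => (χ : G → ℂ) g * conj ((χ' : G → ℂ) g)), ← K.index_mul_card, Nat.cast_mul]
  field_simp [Nat.cast_ne_zero.2 K.index_ne_zero_of_finite,
    Nat.cast_ne_zero.2 (Nat.card_pos (α := K)).ne']

include hidx hcomm in
/-- The number of characters and the rank. -/
theorem principalBlock_restrict (hM : IsPModular p M) (P : Sylow p G)
    (hab : IsMulCommutative (P : Subgroup G)) :
    Nat.card (principalBlock M G) = K.index * Nat.card (principalBlock M K) ∧
      blockRank p (principalBlock M G) = blockRank p (principalBlock M K) := by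
  classical
  haveI := Fintype.ofFinite G
  haveI := Fintype.ofFinite K
  haveI := finite_dual_quot K hcomm
  haveI := Fintype.ofFinite ((G ⧸ K) →* ℂˣ)
  have hinner : ∀ χ ∈ principalBlock M G, ∀ χ' : IrrCharacter G,
      Cfsg.classInner (fun k : K => (χ : G → ℂ) k) (fun k : K => (χ' : G → ℂ) k) =
        if ∃ z, twist K z χ = χ' then 1 else 0 := by
    intro χ hχ χ'
    rw [classInner_restrict K hcomm]
    simp only [CfsgLib.Char.classInner_irrCharacter]
    split_ifs with hz
    · obtain ⟨z₀, rfl⟩ := hz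
      rw [Finset.sum_eq_single z₀ (fun z _ hne => if_neg fun he => hne ?_)
        (fun h => absurd (Finset.mem_univ _) h), if_pos rfl]
      by_contra hzz
      refine twist_ne K hidx hM P hab (z := z * z₀⁻¹) (fun h1 => hzz (mul_inv_eq_one.1 h1))
        (χ := χ) hχ (Subtype.ext (funext fun g => ?_))
      have h1 := congrArg (fun η : IrrCharacter G => (η : G → ℂ) g) he
      simp only [twist_apply] at h1 ⊢
      rw [MonoidHom.mul_apply, MonoidHom.inv_apply, mul_comm (z _), Units.val_mul, mul_assoc, h1,
        Units.inv_mul_cancel_left]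
    · exact Finset.sum_eq_zero fun z _ => if_neg fun he => hz ⟨z, he⟩
  have hirr : ∀ χ : principalBlock M G, Cfsg.IsIrrCharacter K (fun k : K => (χ.1 : G → ℂ) k) :=
    fun χ => CfsgLib.Char.IsCharacter.isIrrCharacter_of_classInner_self
      (CfsgLib.Char.IsCharacter.restrict (CfsgLib.Char.IsIrrCharacter.isCharacter χ.1.2) K)
      (by rw [hinner χ.1 χ.2 χ.1, if_pos ⟨1, Subtype.ext (funext fun g => by simp [twist_apply])⟩])
  have hmem : ∀ χ : principalBlock M G, (⟨_, hirr χ⟩ : IrrCharacter K) ∈ principalBlock M K := by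
    intro χ
    rw [mem_principalBlock_iff_sum hM]
    have h := (mem_principalBlock_iff_sum hM χ.1).1 χ.2
    rwa [sum_regular_restrict K hidx] at h
  let r : principalBlock M G → principalBlock M K := fun χ => ⟨⟨_, hirr χ⟩, hmem χ⟩
  have hr : ∀ χ k, ((r χ).1 : K → ℂ) k = (χ.1 : G → ℂ) (k : G) := fun _ _ => rfl
  have hsurj : Function.Surjective r := by
    rintro ⟨ψ, hψ⟩
    by_contra hno
    push Not at hno
    rw [mem_principalBlock_iff_sum hM] at hψ
    refine hψ ?_
    set f : G → ℂ := fun g => if p ∣ orderOf g then 0 else 1 with hf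
    have hfcl : Cfsg.IsClassFunction G f := fun g c => by
      have : orderOf (c * g * c⁻¹) = orderOf g :=
        orderOf_injective (MulAut.conj c).toMonoidHom (MulAut.conj c).injective g
      simp only [hf, this]
    have h1 := CfsgLib.Char.sum_indFun_mul K (ψ : K → ℂ) f hfcl
    have h2 : ∀ χ : IrrCharacter G,
        Cfsg.classInner (Cfsg.indFun K (ψ : K → ℂ)) (χ : G → ℂ) * ∑ g : G, (χ : G → ℂ) g * f g = 0 := by
      intro χ
      by_cases hχ : χ ∈ principalBlock M G
      · rw [CfsgLib.Char.classInner_indFun K _ _ (CfsgLib.Char.IsIrrCharacter.isClassFunction χ.2)]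
        have hne : ψ ≠ (r ⟨χ, hχ⟩).1 := fun he => hno ⟨χ, hχ⟩ (Subtype.ext he.symm)
        have h3 := CfsgLib.Char.classInner_irrCharacter ψ (r ⟨χ, hχ⟩).1
        rw [if_neg hne] at h3
        exact mul_eq_zero_of_left h3 _
      · refine mul_eq_zero_of_right _ ?_
        have h3 := mt (mem_principalBlock_iff_sum hM χ).2 hχ
        push Not at h3
        rw [← h3]
        refine Finset.sum_congr rfl fun g _ => ?_
        simp only [pRegularPart, IsPRegular, hf]
        split_ifs <;> simp_all
    have hind : ∑ g : G, Cfsg.indFun K (ψ : K → ℂ) g * f g = 0 := by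
      rw [CfsgLib.Char.IsClassFunction.eq_sum_classInner (θ := Cfsg.indFun K (ψ : K → ℂ))
        (CfsgLib.Char.isClassFunction_indFun K _)]
      simp only [Finset.sum_apply, Pi.smul_apply, smul_eq_mul, Finset.sum_mul]
      rw [Finset.sum_comm]
      refine Finset.sum_eq_zero fun χ _ => ?_
      rw [← h2 χ, Finset.mul_sum]
      exact Finset.sum_congr rfl fun g _ => by ring
    rw [hind, eq_comm, mul_eq_zero, mul_eq_zero] at h1
    have h4 := (h1.resolve_left (Nat.cast_ne_zero.2 Nat.card_pos.ne')).resolve_left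
      (inv_ne_zero (Nat.cast_ne_zero.2 Nat.card_pos.ne'))
    rw [← h4]
    refine Finset.sum_congr rfl fun k _ => ?_
    simp only [pRegularPart, IsPRegular, hf, Subgroup.orderOf_coe]
    split_ifs <;> simp_all
  refine ⟨?_, ?_⟩
  · let F : (principalBlock M K) × ((G ⧸ K) →* ℂˣ) → principalBlock M G := fun qz =>
      ⟨twist K qz.2 (Function.surjInv hsurj qz.1).1,
        twist_mem K hidx hM qz.2 (Function.surjInv hsurj qz.1).2⟩
    have hrF : ∀ qz, r (F qz) = qz.1 := fun qz => by
      conv_rhs => rw [← Function.surjInv_eq hsurj qz.1]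
      refine Subtype.ext (Subtype.ext (funext fun k => ?_))
      rw [hr, hr]
      exact twist_apply_mem K _ _ k.2
    have hbij : Function.Bijective F := by
      refine ⟨fun a b hab' => ?_, fun χ => ?_⟩
      · have h1 : a.1 = b.1 := by rw [← hrF a, ← hrF b, hab']
        obtain ⟨q, z⟩ := a
        obtain ⟨q', z'⟩ := b
        obtain rfl : q = q' := h1
        refine Prod.ext rfl ?_
        by_contra hzz
        refine twist_ne K hidx hM P hab (z := z * z'⁻¹) (fun h2 => hzz (mul_inv_eq_one.1 h2))
          (Function.surjInv hsurj q).2 (Subtype.ext (funext fun g => ?_))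
        have h2 := congrArg (fun η : principalBlock M G => (η.1 : G → ℂ) g) hab'
        simp only [F, twist_apply] at h2 ⊢
        rw [MonoidHom.mul_apply, MonoidHom.inv_apply, mul_comm (z _), Units.val_mul, mul_assoc, h2,
          Units.inv_mul_cancel_left]
      · set χ₀ := Function.surjInv hsurj (r χ) with hχ₀
        have h1 := hinner χ₀.1 χ₀.2 χ.1
        have h2 : r χ₀ = r χ := Function.surjInv_eq hsurj (r χ)
        have h3 : (fun k : K => (χ₀.1 : G → ℂ) k) = fun k : K => (χ.1 : G → ℂ) k :=
          funext fun k => by rw [← hr, h2, hr]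
        by_cases hz : ∃ z, twist K z χ₀.1 = χ.1
        · obtain ⟨z, hz⟩ := hz
          exact ⟨(r χ, z), Subtype.ext hz⟩
        · rw [if_neg hz, h3] at h1
          have h5 := CfsgLib.Char.classInner_irrCharacter (r χ).1 (r χ).1
          rw [if_pos rfl] at h5
          exact absurd (h5.symm.trans h1) one_ne_zero
    rw [← Nat.card_congr (Equiv.ofBijective F hbij), Nat.card_prod, card_dual K hcomm, mul_comm]
  · let L : (G → ℂ) →ₗ[ℂ] (K → ℂ) := LinearMap.funLeft ℂ ℂ (fun k : K => (k : G))
    set S : Submodule ℂ (G → ℂ) := Submodule.span ℂ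
      ((fun χ : IrrCharacter G => pRegularPart p (χ : G → ℂ)) '' principalBlock M G) with hS
    have hL : ∀ χ : principalBlock M G,
        L (pRegularPart p (χ.1 : G → ℂ)) = pRegularPart p ((r χ).1 : K → ℂ) := fun χ => funext fun k => by
      simp only [L, LinearMap.funLeft_apply, pRegularPart, IsPRegular, Subgroup.orderOf_coe, hr]
    have hmap : S.map L = Submodule.span ℂ
        ((fun ψ : IrrCharacter K => pRegularPart p (ψ : K → ℂ)) '' principalBlock M K) := by
      rw [hS, Submodule.map_span]
      congr 1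
      ext f
      simp only [Set.mem_image, exists_exists_and_eq_and]
      constructor
      · rintro ⟨χ, hχ, rfl⟩
        exact ⟨(r ⟨χ, hχ⟩).1, (r ⟨χ, hχ⟩).2, (hL ⟨χ, hχ⟩).symm⟩
      · rintro ⟨ψ, hψ, rfl⟩
        obtain ⟨χ, hχ⟩ := hsurj ⟨ψ, hψ⟩
        exact ⟨χ.1, χ.2, by rw [hL, hχ]⟩
    have hinj : Function.Injective (L.domRestrict S) := by
      refine (injective_iff_map_eq_zero _).2 fun f hf => Subtype.ext (funext fun g => ?_)
      by_cases hg : g ∈ K
      · exact congrFun hf ⟨g, hg⟩
      · have hall : ∀ f ∈ S, f g = 0 := fun f hf => by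
          refine Submodule.span_induction (p := fun f _ => f g = 0) ?_ rfl
            (fun a b _ _ ha hb => by simp [ha, hb]) (fun c a _ ha => by simp [ha]) hf
          rintro _ ⟨χ, -, rfl⟩
          exact if_neg fun hr' : IsPRegular p g => hg (mem_of_isPRegular K hidx hr')
        exact hall f.1 f.2
    rw [Cfsg.blockRank, Cfsg.blockRank, ← hS, ← hmap,
      ← LinearMap.finrank_range_of_inj hinj, LinearMap.range_domRestrict]

end Restrict

end CfsgLib.AbelianTwo
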