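import Cfsg.Agent.Lib.AbelianTwoBlock.Main
import Cfsg.Agent.Lib.AbelianTwoBlock.Fifteen
import Cfsg.Agent.S4646
import Cfsg.Agent.S4569

/-!
# Abelian Sylow 2-subgroups of order eight or sixteen with an involution of block rank one
-/

set_option autoImplicit false
set_option maxHeartbeats 1000000
set_option linter.style.haveILetI false

open Cfsg

namespace CfsgLib.AbelianTwo

open Subgroup CfsgLib.Blk83
open scoped IsMulCommutative

universe u

variable {G : Type u} [Group G] [Finite G]

/-- A group of order fifteen is abelian. -/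
theorem isMulCommutative_of_card_fifteen (A : Type u) [Group A] [Finite A]
    (hA : Nat.card A = 15) : IsMulCommutative A := by
  haveI : IsZGroup A := IsZGroup.of_squarefree (by
    rw [hA, show 15 = 3 * 5 from rfl, Nat.squarefree_mul (by norm_num)]
    exact ⟨(by norm_num : Nat.Prime 3).squarefree, (by norm_num : Nat.Prime 5).squarefree⟩)
  haveI : Group.IsNilpotent A := by
    refine ((Group.isNilpotent_of_finite_tfae (G := A)).out 0 3).mpr fun p hp S => ?_
    haveI := hp
    by_cases hpd : p ∣ 15
    · have hd : Nat.card (Sylow p A) ∣ 15 :=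
        hA ▸ (S.card_dvd_index.trans (Subgroup.index_dvd_card _))
      have hm : Nat.card (Sylow p A) % p = 1 % p := card_sylow_modEq_one p A
      have h1 : Nat.card (Sylow p A) = 1 := by
        generalize Nat.card (Sylow p A) = n at hd hm ⊢
        have hn : n ≤ 15 := Nat.le_of_dvd (by norm_num) hd
        rcases hp.out.dvd_mul.1 (show p ∣ 3 * 5 from hpd) with h | h
        all_goals
          obtain rfl := (Nat.prime_dvd_prime_iff_eq hp.out (by norm_num)).1 h
          interval_cases n <;> omega
      haveI : Subsingleton (Sylow p A) := (Nat.card_eq_one_iff_unique.1 h1).1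
      exact Sylow.normal_of_subsingleton S
    · have hS : Nat.card (S : Subgroup A) = 1 := by
        rw [S.card_eq_multiplicity, hA, Nat.factorization_eq_zero_of_not_dvd hpd, pow_zero]
      rw [Subgroup.card_eq_one.1 hS]
      infer_instance
  exact IsCyclic.isMulCommutative

variable {M : Ideal Cfsg.AlgInt}

/-- With a normal 2-complement in the centralizer of `x`, inertial automorphisms fixing `x` are
trivial. -/
theorem centralizer_inf_normalizer_le (P : Sylow 2 G) (hab : IsMulCommutative (P : Subgroup G))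
    {x : G} (hxP : x ∈ (P : Subgroup G))
    (hc : HasNormalPComplement 2 ↥(centralizer ({x} : Set G))) :
    centralizer ({x} : Set G) ⊓ normalizer ((P : Subgroup G) : Set G) ≤
      centralizer ((P : Subgroup G) : Set G) := by
  classical
  haveI : Fact (Nat.Prime 2) := ⟨Nat.prime_two⟩
  haveI := hab
  obtain ⟨K, hK, hKp, k, hk⟩ := CfsgLib.Transfer.hasNormalPComplement_iff_exists_normal.mp hc
  haveI := hK
  rintro c ⟨hcx, hcN⟩
  set C := centralizer ((P : Subgroup G) : Set G)
  set N := normalizer ((P : Subgroup G) : Set G)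
  have he : c ^ C.relIndex N ∈ C := by
    haveI : (C.subgroupOf N).Normal := by
      rw [← (P : Subgroup G).normalizerMonoidHom_ker]; exact MonoidHom.normal_ker _
    exact (C.subgroupOf N).pow_index_mem ⟨c, hcN⟩
  refine CfsgLib.Blocks.Pairs.mem_of_pow_mem (p := 2) (k := k)
    (Nat.not_even_iff_odd.2 (odd_inertia P hab) ∘ even_iff_two_dvd.2) he ?_
  have hPH : (P : Subgroup G) ≤ centralizer ({x} : Set G) := sylow_le_centralizer_singleton P hxP
  obtain ⟨w, hw⟩ : ∃ w : centralizer ({x} : Set G), w = ⟨c, hcx⟩ ^ 2 ^ k := ⟨_, rfl⟩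
  have hwK : w ∈ K := by
    rw [hw, ← hk]
    exact Subgroup.pow_index_mem _ _
  have hwN : (w : G) ∈ N := by
    rw [hw, Subgroup.coe_pow]; exact pow_mem hcN _
  have hwc : (w : G) = c ^ 2 ^ k := by rw [hw, Subgroup.coe_pow]
  rw [← hwc]
  refine mem_centralizer_iff.2 fun y hy => ?_
  obtain ⟨y', rfl⟩ : ∃ y' : centralizer ({x} : Set G), (y' : G) = y := ⟨⟨y, hPH hy⟩, rfl⟩
  obtain ⟨d, hd⟩ : ∃ d, d = w * y' * w⁻¹ * y'⁻¹ := ⟨_, rfl⟩
  have hdK : d ∈ K := by
    rw [hd, mul_assoc w, mul_assoc w]
    exact mul_mem hwK (hK.conj_mem _ (inv_mem hwK) _)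
  have hdP : (d : G) ∈ (P : Subgroup G) := by
    rw [hd]
    simp only [Subgroup.coe_mul, InvMemClass.coe_inv]
    exact mul_mem ((mem_normalizer_iff.1 hwN _).1 hy) (inv_mem hy)
  have hd1 : (d : G) = 1 := by
    rw [← orderOf_eq_one_iff]
    obtain ⟨m, hm⟩ := IsPGroup.iff_card.1 P.isPGroup'
    have h1 : orderOf (d : G) ∣ 2 ^ m := hm ▸ Subgroup.orderOf_dvd_natCard _ hdP
    have h2 : orderOf (d : G) ∣ Nat.card K := by
      rw [Subgroup.orderOf_coe]; exact Subgroup.orderOf_dvd_natCard _ hdK
    exact Nat.eq_one_of_dvd_coprimes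
      (Nat.Coprime.pow_left m (Nat.prime_two.coprime_iff_not_dvd.2 hKp)) h1 h2
  rw [hd] at hd1
  simp only [Subgroup.coe_mul, InvMemClass.coe_inv] at hd1
  exact (mul_inv_eq_iff_eq_mul.1 (mul_inv_eq_one.1 hd1)).symm

/-- The inertial orbit of an involution with trivial inertial stabilizer. -/
theorem exists_orbit (P : Sylow 2 G) (hab : IsMulCommutative (P : Subgroup G))
    (x : (P : Subgroup G)) (hx : x * x = 1) (hx1 : x ≠ 1)
    (hstab : centralizer ({(x : G)} : Set G) ⊓ normalizer ((P : Subgroup G) : Set G) ≤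
      centralizer ((P : Subgroup G) : Set G)) :
    ∃ F : Option (autGroup P) → {y : (P : Subgroup G) // y * y = 1},
      Function.Injective F ∧ ∀ a, (F (some a) : (P : Subgroup G)) =
        (a : MulAut (P : Subgroup G)) x ∧ F (some a) ≠ F none := by
  classical
  let F : Option (autGroup P) → {y : (P : Subgroup G) // y * y = 1} := fun o =>
    o.elim ⟨1, one_mul 1⟩ fun a => ⟨(a : MulAut (P : Subgroup G)) x, by rw [← map_mul, hx, map_one]⟩
  have hne : ∀ a, F (some a) ≠ F none := fun a h =>
    hx1 (((a : MulAut (P : Subgroup G)).map_eq_one_iff).1 (congrArg Subtype.val h))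
  refine ⟨F, fun o o' h => ?_, fun a => ⟨rfl, hne a⟩⟩
  rcases o with _ | a <;> rcases o' with _ | b
  · rfl
  · exact absurd h.symm (hne b)
  · exact absurd h (hne a)
  · congr 1
    have h' : (a : MulAut (P : Subgroup G)) x = (b : MulAut (P : Subgroup G)) x :=
      congrArg Subtype.val h
    obtain ⟨⟨-, ⟨n, rfl⟩⟩, hn⟩ : ∃ c : autGroup P, c = b⁻¹ * a := ⟨_, rfl⟩
    have hnx : (P : Subgroup G).normalizerMonoidHom n x = x := by
      have h2 := congrArg (fun c : autGroup P => (c : MulAut (P : Subgroup G)) x) hn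
      simp only at h2
      rw [h2]
      simp [MulAut.mul_apply, h']
    have hnC : n ∈ (P : Subgroup G).normalizerMonoidHom.ker := by
      rw [Subgroup.normalizerMonoidHom_ker]
      refine hstab ⟨mem_centralizer_singleton_iff.2 ?_, n.2⟩
      have h2 := congrArg Subtype.val hnx
      exact mul_inv_eq_iff_eq_mul.1 h2
    have h1 : b⁻¹ * a = 1 := by
      rw [← hn]; exact Subtype.ext hnC
    exact (inv_mul_eq_one.1 h1).symm

/-- The solutions of `y * y = 1` in an abelian Sylow 2-subgroup number a power of two. -/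
theorem exists_card_sq_eq_one (P : Sylow 2 G) [IsMulCommutative (P : Subgroup G)] :
    ∃ j, Nat.card {y : (P : Subgroup G) // y * y = 1} = 2 ^ j := by
  haveI : Fact (Nat.Prime 2) := ⟨Nat.prime_two⟩
  obtain ⟨j, hj⟩ := IsPGroup.iff_card.1
    (P.isPGroup'.to_subgroup (powMonoidHom 2 : (P : Subgroup G) →* (P : Subgroup G)).ker)
  refine ⟨j, hj ▸ Nat.card_congr (Equiv.subtypeEquivRight fun y => ?_)⟩
  simp [MonoidHom.mem_ker, sq]

/-- A lower bound for the rank of the principal block. -/
theorem blockRank_principal_pos (hM : IsPModular 2 M) :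
    0 < blockRank 2 (principalBlock M G) :=
  haveI := hM.2.1
  CfsgLib.BlockRank.blockRank_pos (by norm_num)
    ⟨CfsgLib.Char.principalIrr, CfsgLib.Blocks.principalIrr_mem_principalBlock⟩

/-- Trivial inertial index. -/
theorem card_eq_of_relIndex_one (hM : IsPModular 2 M) (P : Sylow 2 G)
    (hab : IsMulCommutative (P : Subgroup G)) (hne : (P : Subgroup G) ≠ ⊥)
    (he : (centralizer ((P : Subgroup G) : Set G)).relIndex
      (normalizer ((P : Subgroup G) : Set G)) = 1) :
    Nat.card (principalBlock M G) = Nat.card (P : Subgroup G) := by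
  haveI : Fact (Nat.Prime 2) := ⟨Nat.prime_two⟩
  have hfix : ∀ y ∈ (P : Subgroup G), y ≠ 1 →
      centralizer ({y} : Set G) ⊓ normalizer ((P : Subgroup G) : Set G) ≤
        centralizer ((P : Subgroup G) : Set G) := fun _ _ _ =>
    inf_le_right.trans (relIndex_eq_one.1 he)
  obtain ⟨n, hk, hn⟩ := card_eq_rank_add hM P hab hfix
  have hle := blockRank_le hM P hab hfix rfl hne
  have hpos := blockRank_principal_pos (G := G) hM
  rw [he] at hn hle
  omega

/-- The parameters of the free part for a prime inertial index are positive. -/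
theorem exists_invariants_pos (hM : IsPModular 2 M) (P : Sylow 2 G)
    (hab : IsMulCommutative (P : Subgroup G))
    (he : ((centralizer ((P : Subgroup G) : Set G)).relIndex
      (normalizer ((P : Subgroup G) : Set G))).Prime) :
    ∃ z n : ℕ, 0 < n ∧ Nat.card (P : Subgroup G) =
        z * (n * (centralizer ((P : Subgroup G) : Set G)).relIndex
          (normalizer ((P : Subgroup G) : Set G)) + 1) ∧
      Nat.card (principalBlock M G) = z * ((centralizer ((P : Subgroup G) : Set G)).relIndex
          (normalizer ((P : Subgroup G) : Set G)) + n) := by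
  classical
  haveI : Fact (Nat.Prime 2) := ⟨Nat.prime_two⟩
  obtain ⟨K, m, hK, Q, hidx, hcomm, hQab, hQfix, heQ, hcardQ⟩ := exists_free_kernel P hab he
  obtain ⟨hcard, -⟩ := principalBlock_restrict K hidx hcomm hM P hab
  rw [← heQ] at he
  obtain ⟨n, hk, hn⟩ := card_eq_rank_add hM Q hQab hQfix
  obtain ⟨hl, -⟩ := invariants_of_free hM Q hQab hQfix he
  refine ⟨K.index, n, Nat.pos_of_ne_zero fun h0 => he.ne_one ?_, ?_, ?_⟩
  · rw [h0, zero_mul, zero_add] at hn
    rw [relIndex_eq_one, card_eq_one.1 hn.symm, coe_bot]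
    intro y _
    exact mem_centralizer_iff.2 fun z hz => by
      rw [Set.mem_singleton_iff.1 hz, one_mul, mul_one]
  · rw [← hcardQ, ← hn, heQ]
  · rw [hcard, hk, hl, heQ]

/-- Order sixteen and inertial index fifteen. -/
theorem card_eq_of_fifteen (hM : IsPModular 2 M) (P : Sylow 2 G)
    (hab : IsMulCommutative (P : Subgroup G)) (hcard : Nat.card (P : Subgroup G) = 16)
    (hel : ∀ x ∈ (P : Subgroup G), x * x = 1)
    (hfix : ∀ y ∈ (P : Subgroup G), y ≠ 1 →
      centralizer ({y} : Set G) ⊓ normalizer ((P : Subgroup G) : Set G) ≤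
        centralizer ((P : Subgroup G) : Set G))
    (he : (centralizer ((P : Subgroup G) : Set G)).relIndex
      (normalizer ((P : Subgroup G) : Set G)) = 15) :
    Nat.card (principalBlock M G) = 16 := by
  classical
  haveI : Fact (Nat.Prime 2) := ⟨Nat.prime_two⟩
  by_cases hs : Group.IsSolvable G
  · haveI := hs
    obtain ⟨n, hk, hn⟩ := card_eq_rank_add hM P hab hfix
    have hne : (P : Subgroup G) ≠ ⊥ := fun h => by rw [h, card_bot] at hcard; omega
    have hle := blockRank_le hM P hab hfix rfl hne
    have hge := le_blockRank_of_solvable' hM P hab fun A _ _ hA =>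
      isMulCommutative_of_card_fifteen A (hA.trans he)
    rw [he] at hn hle hge
    omega
  · haveI := CfsgLib.Solvable.pPrimeCore_normal 2 G
    set N := Cfsg.pPrimeCore 2 G with hNdef
    have hN : ¬ 2 ∣ Nat.card N :=
      Nat.prime_two.coprime_iff_not_dvd.1 (CfsgLib.Solvable.pPrimeCore_card_coprime 2 G).symm
    obtain ⟨Q, hQab, hQmap, hQcard, heQ, hQfix'⟩ := exists_quotient_sylow P hab N hN
    have hQfix := hQfix' hfix
    have hnsQ : ¬ Group.IsSolvable (G ⧸ N) := fun h => hs <| by
      haveI := h
      exact solvable_of_odd_normal N (Nat.not_even_iff_odd.1 fun h' => hN h'.two_dvd)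
    have helQ : ∀ x ∈ (Q : Subgroup (G ⧸ N)), x * x = 1 := by
      intro x hx
      rw [hQmap] at hx
      obtain ⟨y, hy, rfl⟩ := hx
      rw [← map_mul, hel y hy, map_one]
    rw [he] at heQ
    rw [hcard] at hQcard
    have h8 : 8 ≤ Nat.card {x : (Q : Subgroup (G ⧸ N)) // x * x = 1} := by
      rw [Nat.card_congr (Equiv.subtypeUnivEquiv fun x : (Q : Subgroup (G ⧸ N)) =>
        Subtype.ext (helQ x x.2)), hQcard]
      norm_num
    obtain ⟨⟨L⟩, honeQ⟩ := exists_localData Q hQab hQfix hnsQ h8
    have hcore : ∀ K : Subgroup (G ⧸ N), K.Normal → Odd (Nat.card K) → K = ⊥ := by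
      intro K hK hodd
      have h1 := CfsgLib.Solvable.pPrimeCore_quotient_eq_bot (p := 2) N hNdef
      exact le_bot_iff.1 (h1 ▸ CfsgLib.Solvable.le_pPrimeCore hK (Nat.coprime_two_right.2 hodd))
    haveI := hQab
    obtain ⟨t, ht, ht1⟩ : ∃ t ∈ (Q : Subgroup (G ⧸ N)), t ≠ 1 := by
      refine (Subgroup.bot_or_exists_ne_one _).resolve_left fun h => ?_
      rw [h, card_bot] at hQcard
      omega
    have hS := sum_cube_eq hM Q hQab hQfix L honeQ helQ ht ht1
    rw [heQ] at hS
    obtain ⟨C⟩ := exists_column Q hM hQfix honeQ helQ ht ht1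
    obtain ⟨hW, hD⟩ := fifteen_core L hM hQfix honeQ helQ hQcard heQ ht ht1 C hS hcore
    have hquot : haveI := sup_normal L
        IsMulCommutative (L.H ⧸ (L.W ⊔ (Q : Subgroup (G ⧸ N))).subgroupOf L.H) := by
      haveI := sup_normal L
      exact isMulCommutative_of_card_fifteen _
        (by rw [← Subgroup.index_eq_card, sup_index L heQ])
    have hend := card_block_endgame L hM hQfix honeQ helQ (e := 15) (by norm_num) (by decide)
      hQcard heQ ht ht1 hW hD C hS hquot
    rw [card_principalBlock_quotient hM N hN, hQcard] at hend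
    exact hend

/-- The counts for orders eight and sixteen. -/
theorem small_orders (hM : IsPModular 2 M) (P : Sylow 2 G)
    (hab : IsMulCommutative (P : Subgroup G)) (x : G) (hx : orderOf x = 2)
    (hl : blockRank 2 (principalBlock M ↥(centralizer ({x} : Set G))) = 1) :
    (Nat.card (P : Subgroup G) = 8 → Nat.card (principalBlock M G) = 8) ∧
      (Nat.card (P : Subgroup G) = 16 →
        Nat.card (principalBlock M G) = 8 ∨ Nat.card (principalBlock M G) = 16) := by
  classical
  haveI : Fact (Nat.Prime 2) := ⟨Nat.prime_two⟩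
  -- move `x` into `P`
  obtain ⟨S, hS⟩ := (IsPGroup.of_card (n := 1) (by rw [Nat.card_zpowers, hx, pow_one]) :
    IsPGroup 2 (zpowers x)).exists_le_sylow
  obtain ⟨g, hg⟩ := MulAction.exists_smul_eq G P S
  have eqv : (P : Subgroup G) ≃* (S : Subgroup G) := by
    rw [← hg, Sylow.coe_subgroup_smul]
    exact Subgroup.equivSMul (MulAut.conj g) _
  have hSab : IsMulCommutative (S : Subgroup G) :=
    ⟨⟨fun a b => by
      obtain ⟨a, rfl⟩ := eqv.surjective a
      obtain ⟨b, rfl⟩ := eqv.surjective b
      rw [← map_mul, ← map_mul, hab.is_comm.comm]⟩⟩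
  rw [Nat.card_congr eqv.toEquiv]
  clear eqv hg hab
  haveI := hSab
  have hxS : x ∈ (S : Subgroup G) := hS (mem_zpowers x)
  have hxx : x * x = 1 := Invol.mul_self_eq_one hx
  have hx1 : x ≠ 1 := Invol.ne_one_of_invol hx
  have hstab := centralizer_inf_normalizer_le S hSab hxS
    (Cfsg.Agent.S4646.complement_of_blockRank_eq_one (p := 2) hM hl)
  obtain ⟨F, hF, hFval⟩ := exists_orbit S hSab ⟨x, hxS⟩ (Subtype.ext hxx)
    (fun h => hx1 (congrArg Subtype.val h)) hstab
  have hle := Nat.card_le_card_of_injective F hF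
  rw [Finite.card_option, card_autGroup] at hle
  set e := (centralizer ((S : Subgroup G) : Set G)).relIndex
    (normalizer ((S : Subgroup G) : Set G)) with he
  have hodd : e % 2 = 1 := Nat.odd_iff.1 (odd_inertia S hSab)
  have hsub : Nat.card {y : (S : Subgroup G) // y * y = 1} ≤ Nat.card (S : Subgroup G) :=
    Nat.card_le_card_of_injective Subtype.val Subtype.val_injective
  have hne : (S : Subgroup G) ≠ ⊥ := fun h => hx1 (Subgroup.mem_bot.1 (h ▸ hxS))
  -- the involutions form a subgroup
  have hom := exists_card_sq_eq_one S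
  have helem : Nat.card {y : (S : Subgroup G) // y * y = 1} = Nat.card (S : Subgroup G) →
      ∀ y ∈ (S : Subgroup G), y * y = 1 := by
    intro h y hy
    obtain ⟨z, hz⟩ := ((Subtype.val_injective (p := fun y : (S : Subgroup G) => y * y = 1)
      ).bijective_of_nat_card_le h.ge).2 ⟨y, hy⟩
    have h2 := congrArg Subtype.val (hz ▸ z.2 : (⟨y, hy⟩ : (S : Subgroup G)) * ⟨y, hy⟩ = 1)
    exact h2
  refine ⟨fun h8 => ?_, fun h16 => ?_⟩
  · by_cases he1 : e = 1
    · rw [card_eq_of_relIndex_one hM S hSab hne he1, h8]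
    obtain he' | he' | he' : e = 3 ∨ e = 5 ∨ e = 7 := by omega
    all_goals
      obtain ⟨z, n, hn, hP, hk⟩ := exists_invariants_pos hM S hSab
        (by rw [← he, he']; norm_num)
      rw [← he, he', h8] at hP
      rw [← he, he'] at hk
      rw [hk]
      have hz : 0 < z := Nat.pos_of_ne_zero fun h => by simp [h] at hP
      have hnb : n ≤ 8 := by nlinarith
      interval_cases n <;> omega
  · by_cases he1 : e = 1
    · exact Or.inr (by rw [card_eq_of_relIndex_one hM S hSab hne he1, h16])
    obtain he' | he' | he' : e = 9 ∨ e = 15 ∨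
        (e = 3 ∨ e = 5 ∨ e = 7 ∨ e = 11 ∨ e = 13) := by omega
    · have hel : ∀ y ∈ (S : Subgroup G), y * y = 1 := helem <| by
        obtain ⟨j, hj⟩ := hom
        rw [hj, h16] at hsub ⊢
        rw [hj] at hle
        have hj4 : j ≤ 4 := (Nat.pow_le_pow_iff_right (by norm_num : 1 < 2)).1
          (hsub : 2 ^ j ≤ 2 ^ 4)
        interval_cases j <;> omega
      exact Or.inr (Cfsg.Agent.S4569.result M hM S h16
        (fun y => Subtype.ext (by simpa [sq] using hel y y.2)) he').1
    · have hcard : Nat.card (Option (autGroup S)) =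
          Nat.card {y : (S : Subgroup G) // y * y = 1} := by
        rw [Finite.card_option, card_autGroup, ← he]
        omega
      have hel : ∀ y ∈ (S : Subgroup G), y * y = 1 := helem (by omega)
      have hsurj : Function.Surjective F := (hF.bijective_of_nat_card_le hcard.ge).2
      have hfix : ∀ y ∈ (S : Subgroup G), y ≠ 1 →
          centralizer ({y} : Set G) ⊓ normalizer ((S : Subgroup G) : Set G) ≤
            centralizer ((S : Subgroup G) : Set G) := by
        rintro y hy hy1 c ⟨hcy, hcN⟩
        -- `y` is the image of `x` under an inertial automorphism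
        obtain ⟨o, ho⟩ := hsurj ⟨⟨y, hy⟩, Subtype.ext (hel y hy)⟩
        rcases o with _ | a
        · have h := congrArg (fun q => ((q.1 : (S : Subgroup G)) : G)) ho
          have h0 : (F none : (S : Subgroup G)) = 1 := by
            by_contra hne0
            obtain ⟨o', ho'⟩ := hsurj ⟨1, one_mul 1⟩
            rcases o' with _ | a'
            · exact hne0 (congrArg Subtype.val ho')
            · have h1 := (hFval a').1.symm.trans (congrArg Subtype.val ho')
              exact hx1 (congrArg Subtype.val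
                (((a' : MulAut (S : Subgroup G)).map_eq_one_iff).1 h1))
          simp [h0] at h
          exact absurd h.symm hy1
        obtain ⟨⟨-, ⟨n, rfl⟩⟩, hn⟩ : ∃ a' : autGroup S, a' = a := ⟨_, rfl⟩
        have hy' : (n : G) * x * (n : G)⁻¹ = y := by
          have h1 := (hFval a).1.symm.trans (congrArg Subtype.val ho)
          rw [← hn] at h1
          exact congrArg Subtype.val h1
        have hcx : (n : G)⁻¹ * c * n ∈ centralizer ({x} : Set G) := by
          refine mem_centralizer_singleton_iff.2 ?_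
          have hcy' := mem_centralizer_singleton_iff.1 hcy
          calc (n : G)⁻¹ * c * n * x = (n : G)⁻¹ * (c * ((n : G) * x * (n : G)⁻¹)) * n := by group
            _ = (n : G)⁻¹ * (((n : G) * x * (n : G)⁻¹) * c) * n := by rw [hy', hcy']
            _ = x * ((n : G)⁻¹ * c * n) := by group
        have hcN' : (n : G)⁻¹ * c * n ∈ normalizer ((S : Subgroup G) : Set G) :=
          mul_mem (mul_mem (inv_mem n.2) hcN) n.2
        have hC := hstab ⟨hcx, hcN'⟩
        refine mem_centralizer_iff.2 fun q hq => ?_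
        have hq' : (n : G)⁻¹ * q * n ∈ (S : Subgroup G) := (mem_normalizer_iff''.1 n.2 q).1 hq
        have h2 := mem_centralizer_iff.1 hC _ hq'
        calc q * c = (n : G) * ((n : G)⁻¹ * q * n * ((n : G)⁻¹ * c * n)) * (n : G)⁻¹ := by group
          _ = (n : G) * ((n : G)⁻¹ * c * n * ((n : G)⁻¹ * q * n)) * (n : G)⁻¹ := by rw [h2]
          _ = c * q := by group
      exact Or.inr (card_eq_of_fifteen hM S hSab h16 hel hfix he')
    · obtain ⟨z, n, hn, hP, hk⟩ := exists_invariants_pos hM S hSab
        (by rw [← he]; rcases he' with h | h | h | h | h <;> rw [h] <;> norm_num)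
      rw [← he, h16] at hP
      rw [← he] at hk
      rw [hk]
      have hz : 0 < z := Nat.pos_of_ne_zero fun h => by simp [h] at hP
      rcases he' with h | h | h | h | h
      all_goals
        rw [h] at hP ⊢
        have hnb : n ≤ 16 := by nlinarith
        interval_cases n <;> omega

end CfsgLib.AbelianTwo
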