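import Cfsg.Agent.Lib.AbelianTwoBlock.Columns
import Cfsg.Agent.Lib.AbelianTwoBlock.CosetOrbit
import Cfsg.Agent.Lib.AbelianTwoBlock.InducedInner

/-!
# The odd core of the strongly embedded subgroup is trivial

The cube sum of the principal column at an involution is bounded below through the character
induced from the reduced regular character of `H/WP`; equality forces `W` to fix every coset.
-/

set_option autoImplicit false
set_option maxHeartbeats 2000000

open Cfsg
open scoped ComplexConjugate IsMulCommutative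

namespace CfsgLib.AbelianTwo

open CfsgLib.Blk83

universe u

/-- The tangent inequality for `b³/m`. -/
theorem cube_tangent {b m n y : ℝ} (hb : 0 ≤ b) (hm : 0 < m) (hn : 0 < n) (hy : 0 ≤ y) :
    3 * y * b / n - y * m / n ^ 2 - y ^ 2 / n ≤ b ^ 3 / m := by
  set v := n * y with hv
  set w := n * b with hw
  have hv0 : 0 ≤ v := mul_nonneg hn.le hy
  have hw0 : 0 ≤ w := mul_nonneg hn.le hb
  set s := Real.sqrt (v * m) with hs
  have hs0 : 0 ≤ s := Real.sqrt_nonneg _
  have hs2 : s * s = v * m := Real.mul_self_sqrt (mul_nonneg hv0 hm.le)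
  have h1 : 0 ≤ (w - s) ^ 2 * (w + 2 * s) := mul_nonneg (sq_nonneg _) (by linarith)
  have h2 : 2 * s ≤ m + v := by
    nlinarith [sq_nonneg (m - v), sq_nonneg (2 * s - (m + v))]
  have h3 : 0 ≤ v * m * (m + v - 2 * s) := mul_nonneg (mul_nonneg hv0 hm.le) (by linarith)
  have h4 : 0 ≤ w ^ 3 + v * m ^ 2 + v ^ 2 * m - 3 * w * v * m := by
    have e1 : (w - s) ^ 2 * (w + 2 * s) = w ^ 3 - 3 * w * (s * s) + 2 * s * (s * s) := by ring
    rw [e1, hs2] at h1
    nlinarith
  have e2 : 3 * y * b / n - y * m / n ^ 2 - y ^ 2 / n - b ^ 3 / m =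
      -(w ^ 3 + v * m ^ 2 + v ^ 2 * m - 3 * w * v * m) / (n ^ 3 * m) := by
    rw [hv, hw]
    field_simp
    ring
  have h5 : -(w ^ 3 + v * m ^ 2 + v ^ 2 * m - 3 * w * v * m) / (n ^ 3 * m) ≤ 0 :=
    div_nonpos_of_nonpos_of_nonneg (by linarith) (by positivity)
  linarith

/-- The value of the tangent bound. -/
theorem bound_value {c n e J : ℝ} (hn : n ≠ 0) (he : e ≠ 0) (hcJ : c * (1 + J) = 1) :
    (3 * c / n + 2 * c / e) * (e - 1) - c / n ^ 2 * (n * (e - 1)) -
      (c ^ 2 / n + c ^ 2 / e) * ((e - 1) * (1 + J)) = c * (e - 1) * (1 / n + 1 / e) := by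
  rw [show (c ^ 2 / n + c ^ 2 / e) * ((e - 1) * (1 + J)) =
    (c / n + c / e) * (e - 1) * (c * (1 + J)) by ring, hcJ]
  field_simp
  ring

variable {G : Type u} [Group G] [Finite G] {M : Ideal Cfsg.AlgInt} {P : Sylow 2 G}
  [IsMulCommutative (P : Subgroup G)] (L : LocalData P) {e : ℕ}

section Quot

omit [IsMulCommutative (P : Subgroup G)] in
theorem sylow_le_normalizer_W : (P : Subgroup G) ≤ Subgroup.normalizer (L.W : Set G) :=
  (Subgroup.le_normalizer.trans L.normalizer_le).trans L.W_normal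

omit [IsMulCommutative (P : Subgroup G)] in
theorem sup_le_H : L.W ⊔ (P : Subgroup G) ≤ L.H :=
  sup_le L.W_le (Subgroup.le_normalizer.trans L.normalizer_le)

omit [IsMulCommutative (P : Subgroup G)] in
theorem card_sup : Nat.card (L.W ⊔ (P : Subgroup G) : Subgroup G) =
    Nat.card L.W * Nat.card (P : Subgroup G) := by
  haveI : Fact (Nat.Prime 2) := ⟨Nat.prime_two⟩
  obtain ⟨k, hk⟩ := IsPGroup.iff_card.1 P.isPGroup'
  refine Nat.le_antisymm ?_ (Nat.le_of_dvd Nat.card_pos ?_)
  · rw [← Nat.card_prod]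
    refine Nat.card_le_card_of_surjective (fun wp : L.W × (P : Subgroup G) =>
      (⟨(wp.1 : G) * wp.2, mul_mem (Subgroup.mem_sup_left wp.1.2) (Subgroup.mem_sup_right wp.2.2)⟩ :
        (L.W ⊔ (P : Subgroup G) : Subgroup G))) fun x => ?_
    have hx : (x : G) ∈ ((L.W ⊔ (P : Subgroup G) : Subgroup G) : Set G) := x.2
    rw [Subgroup.coe_mul_of_right_le_normalizer_left _ _ (sylow_le_normalizer_W L)] at hx
    obtain ⟨w, hw, p, hp, hwp⟩ := hx
    exact ⟨(⟨w, hw⟩, ⟨p, hp⟩), Subtype.ext hwp⟩
  · refine Nat.Coprime.mul_dvd_of_dvd_of_dvd ?_ (Subgroup.card_dvd_of_le le_sup_left)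
      (Subgroup.card_dvd_of_le le_sup_right)
    rw [hk]
    exact (Nat.coprime_two_right.2 L.odd).pow_right k

omit [IsMulCommutative (P : Subgroup G)] in
theorem sup_normal : ((L.W ⊔ (P : Subgroup G)).subgroupOf L.H).Normal := by
  refine Subgroup.normal_subgroupOf_of_le_normalizer ?_
  rw [L.eq_sup]
  refine sup_le ((le_sup_left).trans Subgroup.le_normalizer) fun n hn => ?_
  have hnW : n ∈ Subgroup.normalizer (L.W : Set G) := L.W_normal (L.normalizer_le hn)
  rw [Subgroup.mem_normalizer_iff_map_conj_eq, Subgroup.map_sup,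
    Subgroup.mem_normalizer_iff_map_conj_eq.1 hnW, Subgroup.mem_normalizer_iff_map_conj_eq.1 hn]

omit [IsMulCommutative (P : Subgroup G)] in
theorem sup_index (heI : (Subgroup.centralizer ((P : Subgroup G) : Set G)).relIndex
    (Subgroup.normalizer ((P : Subgroup G) : Set G)) = e) :
    ((L.W ⊔ (P : Subgroup G)).subgroupOf L.H).index = e := by
  have h := ((L.W ⊔ (P : Subgroup G)).subgroupOf L.H).index_mul_card
  rw [Nat.card_congr (Subgroup.subgroupOfEquivOfLe (sup_le_H L)).toEquiv, card_sup, L.card_H, heI,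
    mul_comm (Nat.card L.W * Nat.card (P : Subgroup G))] at h
  exact Nat.eq_of_mul_eq_mul_right (Nat.mul_pos Nat.card_pos Nat.card_pos) h

omit [IsMulCommutative (P : Subgroup G)] in
theorem mem_W_of_odd {x : G} (hx : x ∈ L.W ⊔ (P : Subgroup G)) (hodd : Odd (orderOf x)) :
    x ∈ L.W := by
  haveI : Fact (Nat.Prime 2) := ⟨Nat.prime_two⟩
  obtain ⟨k, hk⟩ := IsPGroup.iff_card.1 P.isPGroup'
  set U := L.W ⊔ (P : Subgroup G) with hU
  have hWU : L.W ≤ U := le_sup_left
  haveI : (L.W.subgroupOf U).Normal :=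
    Subgroup.normal_subgroupOf_of_le_normalizer ((sup_le_H L).trans L.W_normal)
  have h1 : orderOf (QuotientGroup.mk' (L.W.subgroupOf U) ⟨x, hx⟩) ∣ orderOf x :=
    (orderOf_map_dvd _ _).trans (by rw [Subgroup.orderOf_mk])
  have h2 : orderOf (QuotientGroup.mk' (L.W.subgroupOf U) ⟨x, hx⟩) ∣ 2 ^ k := by
    refine (orderOf_dvd_natCard _).trans (dvd_of_eq ?_)
    have h := (L.W.subgroupOf U).index_mul_card
    rw [Nat.card_congr (Subgroup.subgroupOfEquivOfLe hWU).toEquiv, hU, card_sup,
      mul_comm (Nat.card L.W)] at h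
    rw [← Subgroup.index_eq_card, ← hk]
    exact Nat.eq_of_mul_eq_mul_right Nat.card_pos h
  have h3 : orderOf (QuotientGroup.mk' (L.W.subgroupOf U) ⟨x, hx⟩) = 1 :=
    Nat.eq_one_of_dvd_coprimes ((Nat.coprime_two_right.2 hodd).pow_right k) h1 h2
  rw [orderOf_eq_one_iff, QuotientGroup.mk'_apply, QuotientGroup.eq_one_iff] at h3
  exact h3

end Quot

variable (hM : IsPModular 2 M)
  (hfix : ∀ y ∈ (P : Subgroup G), y ≠ 1 →
    Subgroup.centralizer ({y} : Set G) ⊓ Subgroup.normalizer ((P : Subgroup G) : Set G) ≤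
      Subgroup.centralizer ((P : Subgroup G) : Set G))
  (hone : ∀ s t : G, orderOf s = 2 → orderOf t = 2 → IsConj s t)
  (hel : ∀ x ∈ (P : Subgroup G), x * x = 1)
  (he : e.Prime) (hcard : Nat.card (P : Subgroup G) = e + 1)
  (heI : (Subgroup.centralizer ((P : Subgroup G) : Set G)).relIndex
    (Subgroup.normalizer ((P : Subgroup G) : Set G)) = e)
  {t : G} (ht : t ∈ (P : Subgroup G)) (ht1 : t ≠ 1) (C : Column P M t)
  (hS : (L.H.index : ℂ) * (e : ℂ) *
    (∑ᶠ χ ∈ principalBlock M G, (χ : G → ℂ) t ^ 3 / (χ : G → ℂ) 1) =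
      (Nat.card (P : Subgroup G) : ℂ) * ((Nat.card (P : Subgroup G) : ℂ) - 2))

/-- The summand of the cube sum shifted by the square. -/
noncomputable def shifted (χ : IrrCharacter G) : ℝ :=
  (C.b χ : ℝ) ^ 3 / C.m χ + (C.b χ : ℝ) ^ 2 / e

include hcard hS in
/-- The shifted cube sum. -/
theorem sum_shifted [DecidableEq (IrrCharacter G)] (hepos : 0 < e) :
    (L.H.index : ℝ) * e * (∑ χ ∈ C.B.erase CfsgLib.Char.principalIrr, shifted (e := e) C χ) =
      ((e : ℝ) + 1) * ((e : ℝ) - 1) := by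
  classical
  have hB : (Set.toFinite (principalBlock M G)).toFinset = C.B := by
    ext χ; rw [Set.Finite.mem_toFinset, C.mem]
  rw [finsum_mem_eq_finite_toFinset_sum _ (Set.toFinite _), hB, hcard] at hS
  simp only [C.val, C.deg] at hS
  push_cast at hS
  have h : (L.H.index : ℝ) * e * (∑ χ ∈ C.B, (C.b χ : ℝ) ^ 3 / C.m χ) =
      ((e : ℝ) + 1) * ((e : ℝ) - 1) := by
    apply Complex.ofReal_injective
    push_cast
    linear_combination hS
  have hsq : ∑ χ ∈ C.B, (C.b χ : ℝ) ^ 2 = (e : ℝ) + 1 := by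
    have h := C.sum_sq
    rw [hcard] at h
    exact_mod_cast h
  rw [← Finset.add_sum_erase _ _ C.one_mem] at h hsq
  rw [C.b_one, C.m_one] at h
  rw [C.b_one] at hsq
  simp only [shifted, Finset.sum_add_distrib, ← Finset.sum_div]
  have h2 : ∑ χ ∈ C.B.erase CfsgLib.Char.principalIrr, (C.b χ : ℝ) ^ 2 = e := by
    push_cast at hsq; linarith
  rw [h2, div_self (Nat.cast_ne_zero.2 hepos.ne')]
  push_cast at h
  rw [one_pow, div_one] at h
  linarith

include hcard in
theorem shifted_nonneg (hepos : 0 < e) (χ : IrrCharacter G) : 0 ≤ shifted (e := e) C χ := by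
  have hm : (0 : ℝ) < C.m χ := Nat.cast_pos.2 (C.m_pos χ)
  have he0 : (0 : ℝ) < e := Nat.cast_pos.2 hepos
  have hb : (0 : ℝ) ≤ (C.m χ : ℝ) + (e : ℝ) * (C.b χ : ℝ) := by
    have h := C.deg_bound χ
    rw [hcard] at h
    push_cast at h
    rw [add_sub_cancel_right] at h
    exact_mod_cast h
  rw [shifted, div_add_div _ _ hm.ne' he0.ne']
  refine div_nonneg ?_ (by positivity)
  nlinarith [mul_nonneg (sq_nonneg (C.b χ : ℝ)) hb]

include hcard he hS C in
/-- The first bound on the index. -/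
theorem index_le : L.H.index ≤ (e + 1) * (e - 1) := by
  classical
  have he0 : (0 : ℝ) < e := Nat.cast_pos.2 he.pos
  have he2 := he.two_le
  have hS' := sum_shifted L hcard C hS he.pos
  -- some non-principal member has a positive value
  obtain ⟨χ, hχ, hpos⟩ : ∃ χ ∈ C.B.erase CfsgLib.Char.principalIrr, 0 < C.b χ := by
    by_contra hc
    push Not at hc
    have h1 := C.sum_deg
    rw [← Finset.add_sum_erase _ _ C.one_mem, C.b_one, C.m_one] at h1
    have h2 := C.sum_sq
    rw [← Finset.add_sum_erase _ _ C.one_mem, C.b_one, hcard] at h2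
    have h3 : ∑ χ ∈ C.B.erase CfsgLib.Char.principalIrr, C.b χ * (C.m χ : ℤ) ≤
        ∑ χ ∈ C.B.erase CfsgLib.Char.principalIrr, -((e : ℤ) * C.b χ ^ 2) := by
      refine Finset.sum_le_sum fun χ hχ => ?_
      have h := C.deg_bound χ
      rw [hcard] at h
      push_cast at h
      nlinarith [hc χ hχ]
    rw [Finset.sum_neg_distrib, ← Finset.mul_sum] at h3
    push_cast at h1 h2
    have : (2 : ℤ) ≤ e := by exact_mod_cast he2
    have h4 : ∑ χ ∈ C.B.erase CfsgLib.Char.principalIrr, C.b χ ^ 2 = (e : ℤ) := by linarith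
    rw [h4] at h3
    nlinarith
  have hle := Finset.single_le_sum (f := fun χ => shifted (e := e) C χ)
    (fun χ _ => shifted_nonneg hcard C he.pos χ) hχ
  have h1 : (1 : ℝ) / e ≤ shifted (e := e) C χ := by
    have hm : (0 : ℝ) < C.m χ := Nat.cast_pos.2 (C.m_pos χ)
    have hb : (1 : ℝ) ≤ C.b χ := by exact_mod_cast hpos
    have h2 : (1 : ℝ) / e ≤ (C.b χ : ℝ) ^ 2 / e := div_le_div_of_nonneg_right (one_le_pow₀ hb) he0.le
    have h3 : 0 ≤ (C.b χ : ℝ) ^ 3 / C.m χ := div_nonneg (by positivity) hm.le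
    rw [shifted]
    linarith
  have h2 := mul_le_mul_of_nonneg_left (h1.trans hle)
    (show (0 : ℝ) ≤ (L.H.index : ℝ) * e by positivity)
  rw [hS', mul_assoc, mul_div_cancel₀ _ he0.ne', mul_one] at h2
  have h3 : (L.H.index : ℝ) ≤ (((e + 1) * (e - 1) : ℕ) : ℝ) := by
    push_cast [Nat.cast_sub (show 1 ≤ e by omega)]
    exact h2
  exact_mod_cast h3

variable (hcore : ∀ N : Subgroup G, N.Normal → Odd (Nat.card N) → N = ⊥)

include hM hfix hone hel hcard heI he hS hcore ht ht1 C in
/-- The odd core of `H` is trivial. -/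
theorem W_eq_bot : L.W = ⊥ := by
  classical
  haveI : Fact (Nat.Prime 2) := ⟨Nat.prime_two⟩
  haveI := Fintype.ofFinite G
  haveI := Fintype.ofFinite L.H
  haveI := Fintype.ofFinite (G ⧸ L.H)
  have hsmall := index_le L he hcard C hS
  have he0 : (0 : ℝ) < e := Nat.cast_pos.2 he.pos
  set U := (L.W ⊔ (P : Subgroup G)).subgroupOf L.H with hU
  haveI hUn : U.Normal := sup_normal L
  have hUi : U.index = e := sup_index L heI
  -- the reduced regular character of `H/WP`
  set f : L.H → ℂ := fun x => if x ∈ U then (e : ℂ) - 1 else -1 with hf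
  have hfchar : Cfsg.IsCharacter L.H f := by
    haveI : Fact (Nat.card (L.H ⧸ U)).Prime := ⟨by rw [← Subgroup.index_eq_card, hUi]; exact he⟩
    haveI : IsCyclic (L.H ⧸ U) := isCyclic_of_prime_card rfl
    letI : CommGroup (L.H ⧸ U) := IsCyclic.commGroup
    haveI := CfsgLib.Blk83.FreeOrbit.finite_dual (A := L.H ⧸ U)
    haveI := Fintype.ofFinite ((L.H ⧸ U) →* ℂˣ)
    have hsum : f = ∑ z ∈ (Finset.univ : Finset ((L.H ⧸ U) →* ℂˣ)).erase 1,
        fun x : L.H => ((z.comp (QuotientGroup.mk' U)) x : ℂ) := by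
      funext x
      have h := CfsgLib.Blk83.FreeOrbit.sum_dual (A := L.H ⧸ U) (QuotientGroup.mk x)
      rw [← Subgroup.index_eq_card, hUi, ← Finset.add_sum_erase _ _
        (Finset.mem_univ (1 : (L.H ⧸ U) →* ℂˣ)), MonoidHom.one_apply, Units.val_one] at h
      simp only [Finset.sum_apply, MonoidHom.coe_comp, Function.comp_apply, QuotientGroup.coe_mk',
        hf]
      by_cases hx : x ∈ U
      · rw [if_pos hx]
        rw [if_pos ((QuotientGroup.eq_one_iff x).2 hx)] at h
        linear_combination -h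
      · rw [if_neg hx]
        rw [if_neg (fun h' => hx ((QuotientGroup.eq_one_iff x).1 h'))] at h
        linear_combination -h
    rw [hsum]
    exact CfsgLib.Char.IsCharacter.sum _ _ fun z _ =>
      CfsgLib.Char.IsIrrCharacter.isCharacter (CfsgLib.Char.isIrrCharacter_linear _)
  have hfcl : Cfsg.IsClassFunction L.H f := CfsgLib.Char.IsCharacter.isClassFunction hfchar
  set T : G → ℂ := Cfsg.indFun L.H f with hT
  have hTchar : Cfsg.IsCharacter G T := CfsgLib.Char.IsCharacter.indFun L.H hfchar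
  choose mu hmu using fun χ : IrrCharacter G =>
    CfsgLib.Char.IsCharacter.exists_nat_classInner hTchar χ.2
  have hexp : ∀ g, T g = ∑ χ : IrrCharacter G, (mu χ : ℂ) * (χ : G → ℂ) g := by
    intro g
    conv_lhs => rw [CfsgLib.Char.IsCharacter.eq_sum_classInner hTchar]
    simp only [Finset.sum_apply, Pi.smul_apply, smul_eq_mul, hmu]
  set n := L.H.index with hn
  set q₀ : G ⧸ L.H := QuotientGroup.mk 1 with hq₀
  have hnH : ∀ q : G ⧸ L.H, q ≠ q₀ → q.out ∉ L.H := fun q hq h => hq (by
    rw [hq₀, ← QuotientGroup.out_eq' q, QuotientGroup.eq, mul_one]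
    exact inv_mem h)
  have hq₀out : q₀.out ∈ L.H := by
    obtain ⟨k, hk⟩ := QuotientGroup.mk_out_eq_mul L.H (1 : G)
    rw [hq₀, hk, one_mul]
    exact k.2
  -- the degree
  have hmdeg : ∑ χ : IrrCharacter G, (mu χ : ℝ) * C.m χ = (n : ℝ) * ((e : ℝ) - 1) := by
    have h1 : T 1 = (n : ℂ) * ((e : ℂ) - 1) := by
      rw [hT, CfsgLib.Char.indFun_eq_sum_transversal L.H f hfcl,
        Finset.sum_congr rfl (g := fun _ => (e : ℂ) - 1) fun q _ => ?_, Finset.sum_const,
        nsmul_eq_mul, Finset.card_univ, hn, Subgroup.index_eq_card, Nat.card_eq_fintype_card]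
      rw [mul_one, inv_mul_cancel, CfsgLib.Char.extendByZero_apply_mem L.H f (one_mem _)]
      simp only [hf]
      rw [if_pos (show (⟨1, one_mem _⟩ : L.H) ∈ U from U.one_mem)]
    rw [hexp] at h1
    simp only [C.deg] at h1
    apply Complex.ofReal_injective
    push_cast
    exact h1
  -- the principal character does not occur
  have hmu1 : mu CfsgLib.Char.principalIrr = 0 := by
    have h := hmu CfsgLib.Char.principalIrr
    rw [hT, CfsgLib.Char.classInner_indFun L.H f _ (CfsgLib.Char.IsIrrCharacter.isClassFunction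
      (CfsgLib.Char.principalIrr : IrrCharacter G).2), Cfsg.classInner] at h
    simp only [CfsgLib.Char.principalIrr_apply, map_one, mul_one, hf, Finset.sum_ite,
      Finset.sum_const, nsmul_eq_mul] at h
    have h1 : (Finset.univ.filter fun x : L.H => x ∈ U).card = Nat.card U := by
      rw [Nat.card_eq_fintype_card, Fintype.card_subtype]
    have h2 : (Finset.univ.filter fun x : L.H => x ∈ U).card +
        (Finset.univ.filter fun x : L.H => x ∉ U).card = Nat.card L.H := by
      rw [Finset.card_filter_add_card_filter_not, Finset.card_univ, Nat.card_eq_fintype_card]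
    have h3 : (Nat.card L.H : ℂ) = (e : ℂ) * (Nat.card U : ℂ) := by
      rw [← U.index_mul_card, hUi, Nat.cast_mul]
    have h4 : ((Finset.univ.filter fun x : L.H => x ∈ U).card : ℂ) +
        ((Finset.univ.filter fun x : L.H => x ∉ U).card : ℂ) = (Nat.card L.H : ℂ) := by
      exact_mod_cast h2
    rw [h1] at h h4
    have h5 : (Nat.card U : ℂ) * ((e : ℂ) - 1) +
        ((Finset.univ.filter fun x : L.H => x ∉ U).card : ℂ) * (-1) = 0 := by
      linear_combination -h4 - h3
    rw [h5, mul_zero] at h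
    exact_mod_cast h.symm
  -- the values on the section of `t`
  have hto : orderOf t = 2 := orderOf_eq_prime (by rw [sq]; exact hel t ht) ht1
  have htH : t ∈ L.H := (Subgroup.le_normalizer.trans L.normalizer_le) ht
  have hmub : ∑ χ ∈ C.B, (mu χ : ℝ) * C.b χ = (e : ℝ) - 1 := by
    obtain ⟨K, hidx, hreg, -⟩ := exists_local_complement P hM ht (hfix t ht ht1)
    haveI : K.Normal := ⟨fun x hx g => (hreg _).1 (by
      have : orderOf (g * x * g⁻¹) = orderOf x :=
        orderOf_injective (MulAut.conj g).toMonoidHom (MulAut.conj g).injective x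
      rw [Cfsg.IsPRegular, this]
      exact (hreg x).2 hx)⟩
    haveI : Fintype K := Fintype.ofFinite _
    obtain ⟨l, hl⟩ := IsPGroup.iff_card.1 P.isPGroup'
    have hKodd : ¬ 2 ∣ Nat.card K := fun h2 => by
      obtain ⟨c, hc⟩ := exists_prime_orderOf_dvd_card' (G := K) 2 h2
      exact (hreg c).2 c.2 (by rw [Subgroup.orderOf_coe, hc])
    have havg : ∀ χ : IrrCharacter G,
        ∑ z : K, (χ : G → ℂ) (t * ((z : Subgroup.centralizer ({t} : Set G)) : G)) =
          if χ ∈ C.B then (Nat.card K : ℂ) * (χ : G → ℂ) t else 0 := fun χ => by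
      refine (CfsgLib.Invol.SectionAverage.sum_section_coset hM (pElement_of_mem_sylow P ht) K hKodd
        (hidx.trans hl) χ).trans ?_
      by_cases h : χ ∈ C.B
      · rw [if_pos h, if_pos (CfsgLib.Invol.BlockCol.mem_pBlock.2 ((C.mem χ).1 h))]
      · rw [if_neg h, if_neg fun h' => h ((C.mem χ).2 (CfsgLib.Invol.BlockCol.mem_pBlock.1 h'))]
    have hTz : ∀ z : K, T (t * ((z : Subgroup.centralizer ({t} : Set G)) : G)) = (e : ℂ) - 1 := by
      intro z
      set c : Subgroup.centralizer ({t} : Set G) := (z : Subgroup.centralizer ({t} : Set G)) with hc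
      have hcomm : Commute t (c : G) := (Subgroup.mem_centralizer_singleton_iff.1 c.2).symm
      have hodd : Odd (orderOf (c : G)) := by
        rw [Subgroup.orderOf_coe, ← Nat.not_even_iff_odd, even_iff_two_dvd]
        exact (hreg c).2 z.2
      have hcU : (c : G) ∈ L.W ⊔ (P : Subgroup G) :=
        L.centralizer_le_sup t ht ht1 (hel t ht) c.2
      have hmem : t * (c : G) ∈ L.W ⊔ (P : Subgroup G) :=
        mul_mem (Subgroup.mem_sup_right ht) hcU
      rw [hT, CfsgLib.Char.indFun_eq_sum_transversal L.H f hfcl, Finset.sum_eq_single q₀]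
      · rw [hq₀, extendByZero_out_one L.H f hfcl ⟨_, sup_le_H L hmem⟩]
        simp only [hf]
        rw [if_pos (show (⟨_, sup_le_H L hmem⟩ : L.H) ∈ U from hmem)]
      · intro q _ hq
        refine CfsgLib.Char.extendByZero_of_notMem L.H f fun hin => hnH q hq ?_
        refine fixed_coset L hone htH hto ?_
        have hpow : (t * (c : G)) ^ orderOf (c : G) = t := by
          rw [hcomm.mul_pow, pow_orderOf_eq_one, mul_one]
          obtain ⟨k, hk⟩ := hodd
          rw [hk, pow_succ, pow_mul, sq, hel t ht, one_pow, one_mul]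
        have h := L.H.pow_mem hin (orderOf (c : G))
        have e1 : (q.out⁻¹ * (t * (c : G)) * q.out) ^ orderOf (c : G) =
            q.out⁻¹ * (t * (c : G)) ^ orderOf (c : G) * q.out := by
          have h' := conj_pow (a := q.out⁻¹) (b := t * (c : G)) (i := orderOf (c : G))
          simpa using h'
        rw [e1, hpow] at h
        exact h
      · exact fun h => absurd (Finset.mem_univ _) h
    have h1 := Finset.sum_congr (s₂ := (Finset.univ : Finset K)) rfl fun z _ =>
      (hexp (t * ((z : Subgroup.centralizer ({t} : Set G)) : G))).symm.trans (hTz z)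
    rw [Finset.sum_comm] at h1
    simp only [← Finset.mul_sum, havg, mul_ite, mul_zero, Finset.sum_ite_mem, Finset.univ_inter,
      Finset.sum_const, Finset.card_univ, nsmul_eq_mul, C.val] at h1
    have h2 : (Nat.card K : ℂ) * ∑ χ ∈ C.B, (mu χ : ℂ) * (C.b χ : ℂ) =
        (Nat.card K : ℂ) * ((e : ℂ) - 1) := by
      simp only [← Nat.card_eq_fintype_card] at h1
      rw [Finset.mul_sum]
      exact (Finset.sum_congr rfl fun χ _ => by ring).trans h1
    have h3 := mul_left_cancel₀ (Nat.cast_ne_zero.2 Nat.card_pos.ne') h2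
    apply Complex.ofReal_injective
    push_cast
    exact h3
  -- the norm
  set J : ℝ := ∑ q ∈ (Finset.univ : Finset (G ⧸ L.H)).erase q₀,
    (Nat.card (pointStab L.H q.out) : ℝ) / Nat.card L.H with hJ
  have hnorm : ∑ χ : IrrCharacter G, (mu χ : ℝ) ^ 2 = ((e : ℝ) - 1) * (1 + J) := by
    have h1 : Cfsg.classInner T T = ∑ χ : IrrCharacter G, (mu χ : ℂ) ^ 2 := by
      conv_lhs => rw [CfsgLib.Char.IsCharacter.eq_sum_classInner hTchar]
      rw [CfsgLib.Char.classInner_sum_smul_sum_smul]
      simp only [hmu, map_natCast, sq]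
    have h2 := card_mul_classInner_indFun L.H f f hfcl
    rw [← hT, h1, ← Finset.add_sum_erase _ _ (Finset.mem_univ q₀)] at h2
    have hreal : ∀ x : L.H, conj (f x) = f x := fun x => by
      simp only [hf]; split_ifs <;> simp
    have hbase : ∑ h : L.H, f h * conj (Cfsg.extendByZero L.H f (q₀.out⁻¹ * (h : G) * q₀.out)) =
        (Nat.card L.H : ℂ) * ((e : ℂ) - 1) := by
      have e1 : ∀ h : L.H, f h * conj (Cfsg.extendByZero L.H f (q₀.out⁻¹ * (h : G) * q₀.out)) =
          ((e : ℂ) - 2) * f h + ((e : ℂ) - 1) := fun h => by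
        rw [hq₀, extendByZero_out_one L.H f hfcl h, hreal]
        simp only [hf]
        split_ifs <;> ring
      rw [Finset.sum_congr rfl fun h _ => e1 h, Finset.sum_add_distrib, Finset.sum_const,
        ← Finset.mul_sum, Finset.card_univ, nsmul_eq_mul, ← Nat.card_eq_fintype_card]
      have e2 : ∑ h : L.H, f h = 0 := by
        have h := hmu CfsgLib.Char.principalIrr
        rw [hmu1, hT, CfsgLib.Char.classInner_indFun L.H f _
          (CfsgLib.Char.IsIrrCharacter.isClassFunction
            (CfsgLib.Char.principalIrr : IrrCharacter G).2), Cfsg.classInner] at h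
        simp only [CfsgLib.Char.principalIrr_apply, map_one, mul_one, Nat.cast_zero] at h
        exact (mul_eq_zero.1 h).resolve_left (inv_ne_zero (Nat.cast_ne_zero.2 Nat.card_pos.ne'))
      rw [e2, mul_zero, zero_add]
    have hterm : ∀ q ∈ (Finset.univ : Finset (G ⧸ L.H)).erase q₀,
        ∑ h : L.H, f h * conj (Cfsg.extendByZero L.H f (q.out⁻¹ * (h : G) * q.out)) =
          (Nat.card (pointStab L.H q.out) : ℂ) * ((e : ℂ) - 1) := by
      intro q hq
      set g := q.out with hg
      have hgH : g ∉ L.H := hnH q (Finset.ne_of_mem_erase hq)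
      obtain ⟨hr, -, -⟩ := relIndex_pointStab L hone he hcard heI hsmall hgH
      have hfW : ∀ x (hx : x ∈ L.H), Odd (orderOf x) →
          f ⟨x, hx⟩ = if x ∈ L.W then (e : ℂ) - 1 else -1 := by
        intro x hx hodd
        simp only [hf]
        exact if_congr ⟨fun h => mem_W_of_odd L h hodd, fun h => Subgroup.mem_sup_left h⟩ rfl rfl
      have hval : ∀ h : L.H, f h * conj (Cfsg.extendByZero L.H f (g⁻¹ * (h : G) * g)) =
          if (h : G) ∈ pointStab L.H g then
            (if (h : G) ∈ L.W then ((e : ℂ) - 1) ^ 2 else 1) else 0 := by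
        intro h
        split_ifs with hD hW
        · have hD' := (mem_pointStab.1 hD).2
          have hodd : Odd (orderOf (h : G)) := (pointStab_odd L hone hgH).of_dvd_nat
            (Subgroup.orderOf_dvd_natCard _ hD)
          have ho : orderOf (g⁻¹ * (h : G) * g) = orderOf (h : G) := by
            simpa using MulEquiv.orderOf_eq (MulAut.conj g⁻¹) (h : G)
          rw [CfsgLib.Char.extendByZero_apply_mem L.H f hD', hreal, hfW _ hD' (ho ▸ hodd),
            hfW _ h.2 hodd, if_pos hW, if_pos ?_, sq]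
          by_contra hW'
          have h1 := (mem_W_iff L hone he hcard heI hsmall hcore hgH hD).1 hW
          have h2 : ¬ e ∣ orderOf (g⁻¹ * (h : G) * g) := by rwa [ho]
          have hinv : g⁻¹ ∉ L.H := fun h' => hgH (by simpa using inv_mem h')
          refine hW' ((mem_W_iff L hone he hcard heI hsmall hcore hinv ?_).2 h2)
          exact mem_pointStab.2 ⟨hD', by simpa [mul_assoc] using h.2⟩
        · have hD' := (mem_pointStab.1 hD).2
          have hodd : Odd (orderOf (h : G)) := (pointStab_odd L hone hgH).of_dvd_nat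
            (Subgroup.orderOf_dvd_natCard _ hD)
          have ho : orderOf (g⁻¹ * (h : G) * g) = orderOf (h : G) := by
            simpa using MulEquiv.orderOf_eq (MulAut.conj g⁻¹) (h : G)
          rw [CfsgLib.Char.extendByZero_apply_mem L.H f hD', hreal, hfW _ hD' (ho ▸ hodd),
            hfW _ h.2 hodd, if_neg hW, if_neg ?_]
          · ring
          intro hW'
          refine hW ((mem_W_iff L hone he hcard heI hsmall hcore hgH hD).2 ?_)
          rw [← ho]
          exact fun hd => not_dvd_card_W L hone he hcard heI hsmall hcore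
            (hd.trans (Subgroup.orderOf_dvd_natCard _ hW'))
        · rw [CfsgLib.Char.extendByZero_of_notMem L.H f (fun h' => hD (mem_pointStab.2 ⟨h.2, h'⟩)),
            map_zero, mul_zero]
      rw [Finset.sum_congr rfl fun h _ => hval h, ← Finset.sum_filter]
      have hbij : ∑ h ∈ Finset.univ.filter (fun h : L.H => (h : G) ∈ pointStab L.H g),
          (if (h : G) ∈ L.W then ((e : ℂ) - 1) ^ 2 else 1) =
          ∑ d : pointStab L.H g, if (d : G) ∈ L.W then ((e : ℂ) - 1) ^ 2 else 1 := by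
        refine Finset.sum_bij (fun h hh => (⟨(h : G), (Finset.mem_filter.1 hh).2⟩ : pointStab L.H g))
          (fun _ _ => Finset.mem_univ _)
          (fun a _ b _ h => Subtype.ext (congrArg (Subtype.val (p := (· ∈ pointStab L.H g))) h))
          (fun d _ => ⟨⟨(d : G), (mem_pointStab.1 d.2).1⟩, Finset.mem_filter.2 ⟨Finset.mem_univ _, d.2⟩,
            rfl⟩) (fun _ _ => rfl)
      rw [hbij, Finset.sum_ite, Finset.sum_const, Finset.sum_const, nsmul_eq_mul, nsmul_eq_mul]
      have c1 : e * (Finset.univ.filter fun d : pointStab L.H g => (d : G) ∈ L.W).card =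
          Nat.card (pointStab L.H g) := by
        have h := (L.W.subgroupOf (pointStab L.H g)).index_mul_card
        rw [show (L.W.subgroupOf (pointStab L.H g)).index = e from hr] at h
        rw [← h, Nat.card_eq_fintype_card, Fintype.card_subtype]
        congr 2
      have c2 : (Finset.univ.filter fun d : pointStab L.H g => (d : G) ∈ L.W).card +
          (Finset.univ.filter fun d : pointStab L.H g => (d : G) ∉ L.W).card =
            Nat.card (pointStab L.H g) := by
        rw [Finset.card_filter_add_card_filter_not, Finset.card_univ, Nat.card_eq_fintype_card]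
      have c1' : (e : ℂ) * ((Finset.univ.filter fun d : pointStab L.H g => (d : G) ∈ L.W).card : ℂ) =
          (Nat.card (pointStab L.H g) : ℂ) := by exact_mod_cast c1
      have c2' : ((Finset.univ.filter fun d : pointStab L.H g => (d : G) ∈ L.W).card : ℂ) +
          ((Finset.univ.filter fun d : pointStab L.H g => (d : G) ∉ L.W).card : ℂ) =
            (Nat.card (pointStab L.H g) : ℂ) := by exact_mod_cast c2
      linear_combination c2' + ((e : ℂ) - 2) * c1'
    rw [hbase, Finset.sum_congr rfl hterm, ← Finset.sum_mul] at h2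
    have hH : (Nat.card L.H : ℂ) ≠ 0 := Nat.cast_ne_zero.2 Nat.card_pos.ne'
    apply Complex.ofReal_injective
    rw [hJ]
    push_cast
    rw [← Finset.sum_div]
    field_simp
    linear_combination h2
  -- the inequality
  have hJ0 : 0 ≤ J := Finset.sum_nonneg fun q _ => by positivity
  set c : ℝ := 1 / (1 + J) with hc
  have hc0 : 0 < c := by rw [hc]; positivity
  have hn0 : (0 : ℝ) < n := Nat.cast_pos.2 (Nat.pos_of_ne_zero L.H.index_ne_zero_of_finite)
  have hF : ∀ χ : IrrCharacter G, 3 * (c * mu χ) * C.b χ / n - (c * mu χ) * C.m χ / (n : ℝ) ^ 2 -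
      (c * mu χ) ^ 2 / n + (2 * (c * mu χ) * C.b χ - (c * mu χ) ^ 2) / e ≤ shifted (e := e) C χ := by
    intro χ
    have hm : (0 : ℝ) < C.m χ := Nat.cast_pos.2 (C.m_pos χ)
    have hy : (0 : ℝ) ≤ c * mu χ := by positivity
    rcases le_or_gt 0 (C.b χ) with hb | hb
    · have hb' : (0 : ℝ) ≤ C.b χ := by exact_mod_cast hb
      have h1 := cube_tangent hb' hm hn0 hy
      have h2 : (2 * (c * mu χ) * C.b χ - (c * mu χ) ^ 2) / e ≤ (C.b χ : ℝ) ^ 2 / e :=
        div_le_div_of_nonneg_right (by nlinarith [sq_nonneg ((C.b χ : ℝ) - c * mu χ)]) he0.le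
      rw [shifted]
      linarith
    · have hb' : (C.b χ : ℝ) ≤ 0 := by exact_mod_cast hb.le
      have h1 := shifted_nonneg hcard C he.pos χ
      have h2 : 3 * (c * mu χ) * C.b χ / (n : ℝ) ≤ 0 :=
        div_nonpos_of_nonpos_of_nonneg (mul_nonpos_of_nonneg_of_nonpos (by positivity) hb') hn0.le
      have h3 : 0 ≤ (c * mu χ) * C.m χ / (n : ℝ) ^ 2 := by positivity
      have h4 : 0 ≤ (c * mu χ) ^ 2 / (n : ℝ) := by positivity
      have h5 : (2 * (c * mu χ) * C.b χ - (c * mu χ) ^ 2) / e ≤ 0 :=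
        div_nonpos_of_nonpos_of_nonneg (by nlinarith [mul_nonpos_of_nonneg_of_nonpos hy hb']) he0.le
      linarith
  set F' : IrrCharacter G → ℝ := fun χ => 3 * (c * mu χ) * C.b χ / n -
    (c * mu χ) * C.m χ / (n : ℝ) ^ 2 - (c * mu χ) ^ 2 / n +
      (2 * (c * mu χ) * C.b χ - (c * mu χ) ^ 2) / e with hF'
  have hsum1 : ∑ χ ∈ C.B, F' χ ≤ ∑ χ ∈ C.B.erase CfsgLib.Char.principalIrr, shifted (e := e) C χ := by
    rw [← Finset.add_sum_erase _ _ C.one_mem]
    have h0 : F' CfsgLib.Char.principalIrr = 0 := by simp [hF', hmu1]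
    rw [h0, zero_add]
    exact Finset.sum_le_sum fun χ _ => hF χ
  have hsum2 : ∑ χ ∈ C.B, F' χ = (3 * c / n + 2 * c / e) * (∑ χ ∈ C.B, (mu χ : ℝ) * C.b χ) -
      c / (n : ℝ) ^ 2 * (∑ χ ∈ C.B, (mu χ : ℝ) * C.m χ) -
      (c ^ 2 / n + c ^ 2 / e) * (∑ χ ∈ C.B, (mu χ : ℝ) ^ 2) := by
    rw [Finset.mul_sum, Finset.mul_sum, Finset.mul_sum, ← Finset.sum_sub_distrib,
      ← Finset.sum_sub_distrib]
    exact Finset.sum_congr rfl fun χ _ => by simp only [hF']; ring
  have hb1 : ∑ χ ∈ C.B, (mu χ : ℝ) * C.m χ ≤ (n : ℝ) * ((e : ℝ) - 1) := by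
    rw [← hmdeg]
    exact Finset.sum_le_univ_sum_of_nonneg fun χ => by positivity
  have hb2 : ∑ χ ∈ C.B, (mu χ : ℝ) ^ 2 ≤ ((e : ℝ) - 1) * (1 + J) := by
    rw [← hnorm]
    exact Finset.sum_le_univ_sum_of_nonneg fun χ => by positivity
  have hlow : c * ((e : ℝ) - 1) * (1 / n + 1 / e) ≤
      ∑ χ ∈ C.B.erase CfsgLib.Char.principalIrr, shifted (e := e) C χ := by
    refine le_trans ?_ hsum1
    rw [hsum2, hmub]
    have h1 : c / (n : ℝ) ^ 2 * (∑ χ ∈ C.B, (mu χ : ℝ) * C.m χ) ≤
        c / (n : ℝ) ^ 2 * ((n : ℝ) * ((e : ℝ) - 1)) :=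
      mul_le_mul_of_nonneg_left hb1 (by positivity)
    have h2 : (c ^ 2 / n + c ^ 2 / e) * (∑ χ ∈ C.B, (mu χ : ℝ) ^ 2) ≤
        (c ^ 2 / n + c ^ 2 / e) * (((e : ℝ) - 1) * (1 + J)) :=
      mul_le_mul_of_nonneg_left hb2 (by positivity)
    have h3 : (3 * c / n + 2 * c / e) * ((e : ℝ) - 1) -
        c / (n : ℝ) ^ 2 * ((n : ℝ) * ((e : ℝ) - 1)) -
        (c ^ 2 / n + c ^ 2 / e) * (((e : ℝ) - 1) * (1 + J)) =
        c * ((e : ℝ) - 1) * (1 / n + 1 / e) :=
      bound_value hn0.ne' he0.ne' (by rw [hc, one_div_mul_cancel (by positivity)])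
    linarith
  have hbound : (n : ℝ) - 1 ≤ J * ((e : ℝ) + 1) := by
    have h := mul_le_mul_of_nonneg_left hlow (show (0 : ℝ) ≤ (n : ℝ) * e by positivity)
    rw [sum_shifted L hcard C hS he.pos] at h
    have e1 : (n : ℝ) * e * (c * ((e : ℝ) - 1) * (1 / n + 1 / e)) =
        c * ((e : ℝ) - 1) * ((e : ℝ) + n) := by field_simp
    rw [e1] at h
    have he1 : (0 : ℝ) < (e : ℝ) - 1 := by
      have : (2 : ℝ) ≤ e := by exact_mod_cast he.two_le
      linarith
    have h2 : c * ((e : ℝ) + n) ≤ (e : ℝ) + 1 := le_of_mul_le_mul_left (by linarith) he1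
    rw [hc, div_mul_eq_mul_div, one_mul, div_le_iff₀ (by positivity)] at h2
    nlinarith
  -- every stabiliser has full order
  have hle : ∀ q ∈ (Finset.univ : Finset (G ⧸ L.H)).erase q₀,
      (Nat.card (pointStab L.H q.out) : ℝ) / Nat.card L.H ≤ 1 / ((e : ℝ) + 1) := by
    intro q hq
    have hd := Nat.le_of_dvd Nat.card_pos
      (card_pointStab_mul_dvd L hone (hnH q (Finset.ne_of_mem_erase hq)))
    rw [hcard] at hd
    rw [div_le_div_iff₀ (Nat.cast_pos.2 Nat.card_pos) (by positivity), one_mul]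
    exact_mod_cast hd
  have hall : ∀ q ∈ (Finset.univ : Finset (G ⧸ L.H)).erase q₀,
      (Nat.card (pointStab L.H q.out) : ℝ) / Nat.card L.H = 1 / ((e : ℝ) + 1) := by
    have hcnt : ((Finset.univ : Finset (G ⧸ L.H)).erase q₀).card + 1 = n := by
      rw [Finset.card_erase_add_one (Finset.mem_univ _), Finset.card_univ, hn,
        Subgroup.index_eq_card, Nat.card_eq_fintype_card]
    refine (Finset.sum_eq_sum_iff_of_le hle).1 (le_antisymm (Finset.sum_le_sum hle) ?_)
    rw [Finset.sum_const, nsmul_eq_mul, ← hJ, mul_one_div, div_le_iff₀ (by positivity)]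
    have hcnt' : (((Finset.univ : Finset (G ⧸ L.H)).erase q₀).card : ℝ) + 1 = n := by
      exact_mod_cast hcnt
    linarith
  refine (Subgroup.eq_bot_iff_forall _).2 fun w hw => ?_
  have hmem : w ∈ L.H.normalCore := by
    intro x
    by_cases hxi : x⁻¹ ∈ L.H
    · exact mul_mem (mul_mem (by simpa using inv_mem hxi) (L.W_le hw)) hxi
    · set q : G ⧸ L.H := QuotientGroup.mk x⁻¹ with hq
      have hq' : q ≠ q₀ := fun h => hxi (by
        rw [hq, hq₀, QuotientGroup.eq, inv_inv, mul_one] at h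
        exact inv_mem h)
      have hqm : q ∈ (Finset.univ : Finset (G ⧸ L.H)).erase q₀ :=
        Finset.mem_erase.2 ⟨hq', Finset.mem_univ _⟩
      obtain ⟨-, -, hDl⟩ := relIndex_pointStab L hone he hcard heI hsmall (hnH q hq')
      have h1 := hall q hqm
      rw [div_eq_div_iff (Nat.cast_ne_zero.2 Nat.card_pos.ne') (by positivity), one_mul] at h1
      have h2 : Nat.card (pointStab L.H q.out) * (e + 1) = Nat.card L.H := by exact_mod_cast h1
      rw [← h2, hcard, ← mul_assoc] at hDl
      have h3 : (pointStab L.H q.out).relIndex L.W = 1 := by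
        have hpos : 0 < Nat.card (pointStab L.H q.out) * (e + 1) := Nat.mul_pos Nat.card_pos (by omega)
        exact ((Nat.mul_eq_left hpos.ne').1 hDl.symm)
      have h4 := (mem_pointStab.1 (Subgroup.relIndex_eq_one.1 h3 hw)).2
      obtain ⟨k, hk⟩ := QuotientGroup.mk_out_eq_mul L.H x⁻¹
      rw [← hq] at hk
      have h5 : x * w * x⁻¹ = (k : G) * (q.out⁻¹ * w * q.out) * (k : G)⁻¹ := by rw [hk]; group
      rw [h5]
      exact mul_mem (mul_mem k.2 h4) (inv_mem k.2)
  rw [normalCore_eq_bot L hone hcore] at hmem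
  exact hmem

end CfsgLib.AbelianTwo
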